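import Cfsg.Agent.Lib.FischerPolar.Size

set_option autoImplicit false
set_option linter.unusedSectionVars false

/-! Common facts: points of lines through a member, and the neighbourhood of a noncommuting pair. -/

namespace CfsgLib.FischerPolar

open CfsgLib.ThreeTrans

variable {G : Type*} [Group G] {D : Set G}

theorem nbr_comm (a b : G) : nbr D a b = nbr D b a := Set.inter_comm _ _

/-- The point commuting with `y` on the singular line of `x` and `u`. -/
noncomputable def pt (D : Set G) (y x u : G) : G :=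
  Classical.epsilon fun d => d ∈ line D x u ∧ Commute y d

/-- A member commuting with `a` commutes with `b` and with the conjugate alike. -/
theorem commute_cj_right (hD : Cfsg.IsThreeTranspositionClass D) {a b c : G} (ha : a ∈ D)
    (h1 : Commute c a) : Commute c (cj a b) ↔ Commute c b :=
  ⟨fun h => by_contra fun h' => not_commute_cj hD ha h1 h' h, fun h => commute_cj h1 h⟩

variable [Finite G] (hS : Setting D)

include hS

theorem ncard_nbr_noncomm {x y a b : G} (hx : x ∈ D) (hy : y ∈ D) (hxy : ¬ Commute x y)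
    (ha : a ∈ D) (hb : b ∈ D) (hab : ¬ Commute a b) :
    (nbr D a b).ncard = (nbr D x y).ncard := by
  obtain ⟨g, hg⟩ := CfsgLib.ThreeTransp.class_conj hS.cls ha hx
  have h1 : ¬ Commute x (g * b * g⁻¹) := hg ▸ fun h => hab ((commute_conj_iff' g a b).1 h)
  obtain ⟨k, hk, hk'⟩ := rel_noncommuting hS.cls hS.prim hS.edge hx
    (CfsgLib.ThreeTransp.class_conj_mem hS.cls g hb) hy h1 hxy
  have hinj : ∀ g : G, Function.Injective fun e => g * e * g⁻¹ := fun g e f h =>
    mul_left_cancel (mul_right_cancel h)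
  have e1 := congrArg Set.ncard (nbr_conj hS g a b)
  have e2 := congrArg Set.ncard (nbr_conj hS k x (g * b * g⁻¹))
  rw [Set.ncard_image_of_injective _ (hinj g), hg] at e1
  rw [Set.ncard_image_of_injective _ (hinj k), hk', conj_self_of_commute hk] at e2
  exact e1.trans e2

theorem mem_link_of_nbr {x y a : G} (hxy : ¬ Commute x y) (ha : a ∈ nbr D x y) : a ∈ link D x :=
  ⟨(mem_nbr.1 ha).1, fun h => hxy (h ▸ (mem_nbr.1 ha).2.2.symm), (mem_nbr.1 ha).2.1⟩

theorem pt_spec {x y u : G} (hx : x ∈ D) (hy : y ∈ D) (hu : u ∈ link D x) :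
    pt D y x u ∈ line D x u ∧ Commute y (pt D y x u) := by
  have h := exists_on_line hS hx hu.1 hu.2.2 hu.2.1.symm hy
  exact Classical.epsilon_spec (p := fun d => d ∈ line D x u ∧ Commute y d) h

theorem pt_mem_nbr {x y u : G} (hx : x ∈ D) (hy : y ∈ D) (hu : u ∈ link D x) :
    pt D y x u ∈ nbr D x y :=
  mem_nbr.2 ⟨(pt_spec hS hx hy hu).1.1,
    (commute_left hS hx hu.2.2 (pt_spec hS hx hy hu).1).symm, (pt_spec hS hx hy hu).2⟩

theorem pt_unique {x y u d : G} (hx : x ∈ D) (hy : y ∈ D) (hxy : ¬ Commute x y)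
    (hu : u ∈ link D x) (hd : d ∈ line D x u) (hyd : Commute y d) : d = pt D y x u :=
  unique_point hS hx hu.1 hu.2.2 hu.2.1.symm hy hd (pt_spec hS hx hy hu).1 hyd
    (pt_spec hS hx hy hu).2 (left_mem_line hx) fun h => hxy h.symm

/-- The neighbourhood of a noncommuting pair is not a clique. -/
theorem nbr_not_clique {x y : G} (hx : x ∈ D) (hy : y ∈ D) (hxy : ¬ Commute x y) :
    ∃ a ∈ nbr D x y, ∃ b ∈ nbr D x y, ¬ Commute a b := by
  obtain ⟨u, hu, v, hv, huv⟩ := hS.spread x hx
  refine ⟨_, pt_mem_nbr hS hx hy hu, _, pt_mem_nbr hS hx hy hv, fun h => huv ?_⟩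
  have hpu := pt_spec hS hx hy hu
  have hpv := pt_spec hS hx hy hv
  have hne : x ≠ pt D y x u := fun e => hxy (by rw [e]; exact hpu.2.symm)
  have h1 : Commute (pt D y x v) u := commute_line hS hx hu.1 hu.2.2 hu.2.1.symm (left_mem_line hx)
    hpu.1 hne hpv.1.1 (commute_left hS hx hv.2.2 hpv.1) h.symm (right_mem_line hu.1)
  have hne' : x ≠ pt D y x v := fun e => hxy (by rw [e]; exact hpv.2.symm)
  exact commute_line hS hx hv.1 hv.2.2 hv.2.1.symm (left_mem_line hx) hpv.1 hne' hu.1
    hu.2.2.symm h1.symm (right_mem_line hv.1)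

variable {p q : G} (hp : p ∈ D) (hq : q ∈ D) (hpq : Commute p q) (hne : p ≠ q)

include hp hq hpq hne

/-- A member commutes with exactly one point of a line or with all of it. -/
theorem one_or_all {e : G} (he : e ∈ D) : (∀ d ∈ line D p q, Commute e d) ∨
    ∃ c ∈ line D p q, ∀ d ∈ line D p q, Commute e d ↔ d = c := by
  by_cases h : ∀ d ∈ line D p q, Commute e d
  · exact Or.inl h
  push Not at h
  obtain ⟨f, hf, hef⟩ := h
  obtain ⟨c, hc, hec⟩ := exists_on_line hS hp hq hpq hne he
  exact Or.inr ⟨c, hc, fun d hd => ⟨fun hed => unique_point hS hp hq hpq hne he hd hc hed hec hf hef,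
    fun e' => e' ▸ hec⟩⟩

end CfsgLib.FischerPolar
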