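import Cfsg.Agent.Lib.FischerPolar.Common

set_option autoImplicit false
set_option linter.unusedSectionVars false

/-! Lines with five points: the threefold cover of the neighbourhood of a noncommuting pair. -/

namespace CfsgLib.FischerPolar

open CfsgLib.ThreeTrans

variable {G : Type*} [Group G] {D : Set G} [Finite G]

/-- A polar class with five-point lines and a fixed noncommuting pair. -/
structure Frame (D : Set G) (x y : G) : Prop extends Setting D where
  five : ∀ p ∈ D, ∀ q ∈ D, Commute p q → p ≠ q → (line D p q).ncard = 5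
  hx : x ∈ D
  hy : y ∈ D
  hxy : ¬ Commute x y

/-- The members commuting with `x` but not with `y`, other than `x`. -/
def sheet (D : Set G) (x y : G) : Set G := {p | p ∈ D ∧ p ≠ x ∧ Commute x p ∧ ¬ Commute y p}

/-- The point of the neighbourhood below a member of the sheet. -/
noncomputable def proj (D : Set G) (x y p : G) : G := pt D y x p

/-- The fibre over a point of the neighbourhood. -/
def fib (D : Set G) (x y a : G) : Set G := {p | p ∈ sheet D x y ∧ proj D x y p = a}

/-- The rotation of the triple. -/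
def rho (x y e : G) : G := cj x (cj y e)

/-- The matching of two fibres. -/
def Mat (y p s : G) : Prop := Commute p (cj y s)

variable {x y : G} (h : Frame D x y)

include h

theorem third_mem : cj x y ∈ D := cj_mem h.cls h.hx h.hy

theorem third_not_left : ¬ Commute x (cj x y) :=
  not_commute_cj h.cls h.hx (Commute.refl x) h.hxy

theorem third_eq : cj x y = cj y x := cj_comm h.cls h.hx h.hy h.hxy

theorem nbr_third {a : G} (ha : a ∈ nbr D x y) : Commute a (cj x y) :=
  commute_cj (mem_nbr.1 ha).2.1.symm (mem_nbr.1 ha).2.2.symm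

theorem sheet_link {p : G} (hp : p ∈ sheet D x y) : p ∈ link D x := ⟨hp.1, hp.2.1, hp.2.2.1⟩

theorem sheet_third {p : G} (hp : p ∈ sheet D x y) : ¬ Commute p (cj x y) :=
  not_commute_cj h.cls h.hx hp.2.2.1.symm fun e => hp.2.2.2 e.symm

theorem sheet_ne_nbr {p a : G} (hp : p ∈ sheet D x y) (ha : a ∈ nbr D x y) : p ≠ a :=
  fun e => hp.2.2.2 (e ▸ (mem_nbr.1 ha).2.2)

theorem proj_nbr {p : G} (hp : p ∈ sheet D x y) : proj D x y p ∈ nbr D x y :=
  pt_mem_nbr h.toSetting h.hx h.hy (sheet_link h hp)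

theorem proj_line {p : G} (hp : p ∈ sheet D x y) : proj D x y p ∈ line D x p :=
  (pt_spec h.toSetting h.hx h.hy (sheet_link h hp)).1

theorem proj_ne {p : G} (hp : p ∈ sheet D x y) : p ≠ proj D x y p :=
  sheet_ne_nbr h hp (proj_nbr h hp)

theorem line_proj {p : G} (hp : p ∈ sheet D x y) : line D x p = line D x (proj D x y p) :=
  (line_eq h.toSetting h.hx hp.1 hp.2.2.1 hp.2.1.symm (left_mem_line h.hx) (proj_line h hp)
    (mem_link_of_nbr h.toSetting h.hxy (proj_nbr h hp)).2.1.symm).symm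

theorem mem_fib_iff {a p : G} (ha : a ∈ nbr D x y) :
    p ∈ fib D x y a ↔ p ∈ line D x a ∧ p ≠ x ∧ p ≠ a := by
  have hl := mem_link_of_nbr h.toSetting h.hxy ha
  constructor
  · rintro ⟨hp, rfl⟩
    exact ⟨line_proj h hp ▸ right_mem_line hp.1, hp.2.1, proj_ne h hp⟩
  · rintro ⟨hp, hpx, hpa⟩
    have hxp : Commute x p := (commute_left h.toSetting h.hx hl.2.2 hp).symm
    have hs : p ∈ sheet D x y := ⟨hp.1, hpx, hxp, fun e => hpa
      (unique_point h.toSetting h.hx hl.1 hl.2.2 hl.2.1.symm h.hy hp (right_mem_line hl.1) e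
        (mem_nbr.1 ha).2.2 (left_mem_line h.hx) fun e' => h.hxy e'.symm)⟩
    refine ⟨hs, (pt_unique h.toSetting h.hx h.hy h.hxy (sheet_link h hs) ?_ (mem_nbr.1 ha).2.2).symm⟩
    rw [line_eq h.toSetting h.hx hl.1 hl.2.2 hl.2.1.symm (left_mem_line h.hx) hp hpx.symm]
    exact right_mem_line hl.1

theorem ncard_fib {a : G} (ha : a ∈ nbr D x y) : (fib D x y a).ncard = 3 := by
  have hl := mem_link_of_nbr h.toSetting h.hxy ha
  have e : fib D x y a = line D x a \ {x, a} := by
    ext p
    rw [mem_fib_iff h ha]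
    simp only [Set.mem_sdiff, Set.mem_insert_iff, Set.mem_singleton_iff, not_or]
  rw [e, Set.ncard_sdiff (Set.insert_subset (left_mem_line h.hx) (Set.singleton_subset_iff.2
    (right_mem_line hl.1))), Set.ncard_pair hl.2.1.symm,
    h.five x h.hx a hl.1 hl.2.2 hl.2.1.symm]

/-- Commuting with `x`, a member sees a sheet member as it sees its point. -/
theorem commute_proj {p e : G} (hp : p ∈ sheet D x y) (he : e ∈ D) (hex : Commute e x) :
    Commute e p ↔ Commute e (proj D x y p) := by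
  constructor <;> intro hc
  · exact commute_line h.toSetting h.hx hp.1 hp.2.2.1 hp.2.1.symm (left_mem_line h.hx)
      (right_mem_line hp.1) hp.2.1.symm he hex hc (proj_line h hp)
  · exact commute_line h.toSetting h.hx hp.1 hp.2.2.1 hp.2.1.symm (left_mem_line h.hx)
      (proj_line h hp) (mem_link_of_nbr h.toSetting h.hxy (proj_nbr h hp)).2.1.symm he hex hc
      (right_mem_line hp.1)

theorem commute_iff_proj {p s : G} (hp : p ∈ sheet D x y) (hs : s ∈ sheet D x y) :
    Commute p s ↔ Commute (proj D x y p) (proj D x y s) := by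
  have hb := proj_nbr h hs
  rw [commute_proj h hs hp.1 hp.2.2.1.symm, Commute.symm_iff,
    commute_proj h hp (mem_nbr.1 hb).1 (mem_nbr.1 hb).2.1.symm, Commute.symm_iff]

theorem sheet_cj {d p : G} (hd : d ∈ D) (hdx : Commute d x) (hdy : Commute d y)
    (hp : p ∈ sheet D x y) : cj d p ∈ sheet D x y := by
  refine ⟨cj_mem h.cls hd hp.1, fun e => hp.2.1 ?_, ?_, fun e => hp.2.2.2 ?_⟩
  · rw [← cj_eq_self h.cls hd hdx] at e; exact cj_injective h.cls hd e
  · exact commute_cj hdx.symm hp.2.2.1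
  · have := (commute_cj_iff h.cls hd y (cj d p)).2 e
    rwa [cj_eq_self h.cls hd hdy, cj_cj h.cls hd] at this

theorem proj_cj {d p : G} (hd : d ∈ D) (hdx : Commute d x) (hdy : Commute d y)
    (hp : p ∈ sheet D x y) : proj D x y (cj d p) = cj d (proj D x y p) := by
  refine (pt_unique h.toSetting h.hx h.hy h.hxy (sheet_link h (sheet_cj h hd hdx hdy hp)) ?_ ?_).symm
  · have := line_cj_mem h.toSetting hd (proj_line h hp)
    rwa [cj_eq_self h.cls hd hdx] at this
  · exact commute_cj hdy.symm (mem_nbr.1 (proj_nbr h hp)).2.2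

theorem mat_iff_rho {p s : G} (hp : Commute x p) :
    Mat y p s ↔ Commute p (rho x y s) := by
  rw [Mat, rho, ← commute_cj_iff h.cls h.hx p (cj y s), cj_eq_self h.cls h.hx hp]

theorem mat_symm {p s : G} (hm : Mat y p s) : Mat y s p := by
  have := (commute_cj_iff h.cls h.hy p (cj y s)).2 hm
  rw [cj_cj h.cls h.hy] at this
  exact this.symm

theorem mat_cj {d p s : G} (hd : d ∈ D) (hdy : Commute d y) :
    Mat y (cj d p) (cj d s) ↔ Mat y p s := by
  rw [Mat, Mat, cj_cj_comm hdy.symm, commute_cj_iff h.cls hd]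

theorem mat_not_commute {p s : G} (hp : p ∈ sheet D x y) (hs : s ∈ sheet D x y) (hm : Mat y p s) :
    ¬ Commute p s := fun hps => by
  rw [Mat, cj_comm h.cls h.hy hs.1 hs.2.2.2] at hm
  exact not_commute_cj h.cls hs.1 hps (fun e => hp.2.2.2 e.symm) hm

theorem proj_not_commute {p s : G} (hp : p ∈ sheet D x y) (hs : s ∈ sheet D x y) (hm : Mat y p s) :
    ¬ Commute (proj D x y p) (proj D x y s) := fun e =>
  mat_not_commute h hp hs hm ((commute_iff_proj h hp hs).2 e)

theorem mat_cj_mem {p s : G} (hp : p ∈ sheet D x y) (hs : s ∈ sheet D x y) (hm : Mat y p s) :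
    cj p s ∈ nbr D x y := by
  refine mem_nbr.2 ⟨cj_mem h.cls hp.1 hs.1, commute_cj hp.2.2.1 hs.2.2.1, ?_⟩
  have h1 : Commute s (cj y p) := mat_symm h hm
  rw [cj_comm h.cls h.hy hp.1 hp.2.2.2] at h1
  have h2 := (commute_cj_iff h.cls hp.1 s (cj p y)).2 h1
  rw [cj_cj h.cls hp.1] at h2
  exact h2.symm

theorem mat_cj_eq {p s : G} (hp : p ∈ sheet D x y) (hs : s ∈ sheet D x y) (hm : Mat y p s) :
    cj p s = cj (proj D x y p) (proj D x y s) := by
  have hc := mat_cj_mem h hp hs hm
  obtain ⟨hcD, hxc, hyc⟩ := mem_nbr.1 hc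
  have hps := mat_not_commute h hp hs hm
  have hswap : cj (cj p s) p = s := by
    rw [cj_comm h.cls hp.1 hs.1 hps]
    exact cj_third h.cls hs.1 hp.1 fun e => hps e.symm
  have h1 : cj (cj p s) (proj D x y p) = proj D x y s := by
    rw [← proj_cj h hcD hxc.symm hyc.symm hp, hswap]
  have hne : ¬ Commute (cj p s) (proj D x y p) := fun e => by
    rw [cj_eq_self h.cls hcD e] at h1
    exact proj_not_commute h hp hs hm (h1 ▸ Commute.refl _)
  have haD := (mem_nbr.1 (proj_nbr h hp)).1
  rw [← h1, cj_comm h.cls hcD haD hne, cj_cj h.cls haD]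

theorem mat_of_cj_mem {p s : G} (hp : p ∈ sheet D x y) (hs : s ∈ D)
    (hc : Commute y (cj p s)) : Mat y p s := by
  refine mat_symm h ?_
  rw [Mat, cj_comm h.cls h.hy hp.1 hp.2.2.2]
  have := (commute_cj_iff h.cls hp.1 y (cj p s)).2 hc
  rw [cj_cj h.cls hp.1] at this
  exact this.symm

/-- A member of the sheet is matched to exactly one member of every fibre it does not commute with. -/
theorem exists_partner {s a : G} (hs : s ∈ sheet D x y) (ha : a ∈ nbr D x y)
    (hab : ¬ Commute a (proj D x y s)) : ∃ p ∈ fib D x y a, Mat y p s := by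
  have hl := mem_link_of_nbr h.toSetting h.hxy ha
  obtain ⟨p, hp, hpc⟩ := exists_on_line h.toSetting h.hx hl.1 hl.2.2 hl.2.1.symm
    (cj_mem h.cls h.hy hs.1)
  have h1 : ¬ Commute (cj y s) x := fun e => by
    have := (commute_cj_iff h.cls h.hy (cj y s) x).2 e
    rw [cj_cj h.cls h.hy, ← third_eq h] at this
    exact sheet_third h hs this
  refine ⟨p, (mem_fib_iff h ha).2 ⟨hp, fun e => h1 (e ▸ hpc), fun e => hab ?_⟩, hpc.symm⟩
  rw [e] at hpc
  have h2 := (commute_cj_iff h.cls h.hy (cj y s) a).2 hpc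
  rw [cj_cj h.cls h.hy, cj_eq_self h.cls h.hy (mem_nbr.1 ha).2.2] at h2
  exact (commute_proj h hs hl.1 hl.2.2.symm).1 h2.symm

theorem partner_unique {s a p p' : G} (hs : s ∈ sheet D x y) (ha : a ∈ nbr D x y)
    (hp : p ∈ fib D x y a) (hp' : p' ∈ fib D x y a) (hm : Mat y p s) (hm' : Mat y p' s) :
    p = p' := by
  have hl := mem_link_of_nbr h.toSetting h.hxy ha
  refine unique_point h.toSetting h.hx hl.1 hl.2.2 hl.2.1.symm (cj_mem h.cls h.hy hs.1)
    ((mem_fib_iff h ha).1 hp).1 ((mem_fib_iff h ha).1 hp').1 hm.symm hm'.symm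
    (left_mem_line h.hx) fun e => ?_
  have := (commute_cj_iff h.cls h.hy (cj y s) x).2 e
  rw [cj_cj h.cls h.hy, ← third_eq h] at this
  exact sheet_third h hs this

/-- The third member of a matched triangle. -/
theorem triangle {p s : G} (hp : p ∈ sheet D x y) (hs : s ∈ sheet D x y) (hm : Mat y p s) :
    cj (proj D x y p) s ∈ fib D x y (cj (proj D x y p) (proj D x y s)) ∧
      Mat y p (cj (proj D x y p) s) ∧ Mat y s (cj (proj D x y p) s) ∧
      cj (proj D x y p) s = cj (proj D x y s) p := by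
  obtain ⟨haD, hxa, hya⟩ := mem_nbr.1 (proj_nbr h hp)
  obtain ⟨hbD, hxb, hyb⟩ := mem_nbr.1 (proj_nbr h hs)
  have hab := proj_not_commute h hp hs hm
  have key : ∀ {p s : G}, p ∈ sheet D x y → s ∈ sheet D x y → Mat y p s →
      Mat y p (cj (proj D x y p) s) := fun {p s} hp hs hm => by
    obtain ⟨haD, hxa, hya⟩ := mem_nbr.1 (proj_nbr h hp)
    have h1 := (mat_cj h (p := p) (s := s) haD hya.symm).2 hm
    rwa [cj_eq_self h.cls haD ((commute_proj h hp haD hxa.symm).2 (Commute.refl _))] at h1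
  have hr : cj (proj D x y p) s ∈ fib D x y (cj (proj D x y p) (proj D x y s)) :=
    ⟨sheet_cj h haD hxa.symm hya.symm hs, proj_cj h haD hxa.symm hya.symm hs⟩
  have hr' : cj (proj D x y s) p ∈ fib D x y (cj (proj D x y p) (proj D x y s)) :=
    ⟨sheet_cj h hbD hxb.symm hyb.symm hp, by
      rw [proj_cj h hbD hxb.symm hyb.symm hp, cj_comm h.cls haD hbD hab]⟩
  have hpb : ¬ Commute p (proj D x y s) := fun e => hab
    ((commute_proj h hp hbD hxb.symm).1 e.symm).symm
  have h2 : Mat y p (cj (proj D x y s) p) := by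
    refine mat_of_cj_mem h hp hr'.1.1 ?_
    rw [← cj_comm h.cls hp.1 hbD hpb, cj_cj h.cls hp.1]
    exact hyb
  have hc : cj (proj D x y p) (proj D x y s) ∈ nbr D x y :=
    mem_nbr.2 ⟨cj_mem h.cls haD hbD, commute_cj hxa hxb, commute_cj hya hyb⟩
  have heq := partner_unique h hp hc hr hr' (mat_symm h (key hp hs hm)) (mat_symm h h2)
  exact ⟨hr, key hp hs hm, by rw [heq]; exact key hs hp (mat_symm h hm), heq⟩

theorem third_fib {a p q r t : G} (ha : a ∈ nbr D x y) (hp : p ∈ fib D x y a)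
    (hq : q ∈ fib D x y a) (hr : r ∈ fib D x y a) (hpq : p ≠ q) (hpr : p ≠ r) (hqr : q ≠ r)
    (ht : t ∈ fib D x y a) : t = p ∨ t = q ∨ t = r := by
  have e : ({p, q, r} : Set G) = fib D x y a := by
    refine Set.eq_of_subset_of_ncard_le ?_ ?_ (Set.toFinite _)
    · rintro u (rfl | rfl | rfl) <;> assumption
    · rw [ncard_fib h ha, Set.ncard_eq_three.2 ⟨p, q, r, hpq, hpr, hqr, rfl⟩]
  rw [← e] at ht
  exact ht

end CfsgLib.FischerPolar
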