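import Cfsg.Agent.Lib.FischerPolar.Model

set_option autoImplicit false
set_option linter.unusedSectionVars false
set_option linter.unusedVariables false
set_option linter.unusedSimpArgs false

/-! The vectors of the members commuting with no member of the triple. -/

namespace CfsgLib.FischerPolar

open CfsgLib.ThreeTrans

variable {m : ℕ} {G : Type*} [Group G] {D : Set G} [Finite G]

/-- The vector of a far member: it is seen by all near members. -/
def FarVec {x y : G} (φ : ↥(sheet D x y) → (Fin m → F4)) (e : G) (v : Fin (m + 2) → F4) : Prop :=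
  ∃ (α : F4) (w : Fin m → F4), v = mk α 1 w ∧ α ≠ 0 ∧ α ≠ 1 ∧ hh w w = 1 ∧
    ∀ u, Near D x y u → (Commute e u ↔ hh v (vec φ u) = 0)

theorem hh_smul_eq_zero {n : ℕ} {c : F4} (hc : c ≠ 0) (u v : Fin n → F4) :
    hh u (c • v) = 0 ↔ hh u v = 0 := by
  rw [hh_smul_right, mul_eq_zero]
  simp [hc]

theorem third_value {a l : F4} (a0 : a ≠ 0) (a1 : a ≠ 1) (al : a ≠ l) (l0 : l ≠ 0) (l1 : l ≠ 1) :
    a = 1 + l := by
  have e : (a - l) * (1 + a + l) = 0 := by
    linear_combination trace_one a0 a1 - trace_one l0 l1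
  have e' := (mul_eq_zero.1 e).resolve_left (sub_ne_zero.2 al)
  linear_combination e' - (1 + l) * two_zero

theorem cj_cj_cj (hD : Cfsg.IsThreeTranspositionClass D) {c : G} (hc : c ∈ D) (a b : G) :
    cj c (cj a b) = cj (cj c a) (cj c b) := by
  have h := mul_self hD.1 hc
  simp only [cj, mul_assoc]
  simp only [← mul_assoc c c, h, one_mul]

variable {x y : G} (h : Frame D x y) {φ : ↥(sheet D x y) → (Fin m → F4)}
  (hc : Coords D x y m φ)

include h

theorem rho_cj (a b : G) : rho x y (cj a b) = cj (rho x y a) (rho x y b) := by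
  rw [rho, rho, rho, cj_cj_cj h.cls h.hy, cj_cj_cj h.cls h.hx]

theorem rho_line {a b d : G} (hd : d ∈ line D a b) :
    rho x y d ∈ line D (rho x y a) (rho x y b) :=
  line_cj_mem h.toSetting h.hx (line_cj_mem h.toSetting h.hy hd)

theorem near_or_far {e : G} (he : e ∈ D) : Near D x y e ∨ Far D x y e := by
  by_cases hn : Commute e x ∨ Commute e y ∨ Commute e (cj x y)
  · exact Or.inl ⟨he, hn⟩
  · push Not at hn
    exact Or.inr ⟨he, hn⟩

include hc

/-- Inside the centraliser of `x`, a member of the sheet acts as a transvection. -/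
theorem vec_cj_com {p t : G} (hp : p ∈ sheet D x y) (ht : t ∈ D) (htx : Commute t x) :
    ∃ c : F4, c ≠ 0 ∧ vec φ (cj p t) = c • tvec (vec φ p) (vec φ t) := by
  have hpn := near_of_com h hp.1 hp.2.2.1.symm
  by_cases hpt : Commute p t
  · refine ⟨1, one_ne_zero, ?_⟩
    rw [one_smul, cj_eq_self h.cls hp.1 hpt, tvec,
      (commute_iff_near h hc (near_of_com h ht htx) hpn).1 hpt.symm, zero_smul, add_zero]
  rcases cases_com h ht htx with rfl | htN | hts
  · exact absurd hp.2.2.1.symm hpt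
  · -- a point of the neighbourhood
    obtain ⟨b0, hb0, hvt⟩ := exists_vec_nbr h (φ := φ) htN
    have htpp : ¬ Commute t (proj D x y p) := fun e => hpt ((commute_proj h hp ht htx).2 e).symm
    obtain ⟨s', hs', hm⟩ := exists_partner h hp htN htpp
    obtain ⟨κ, hκ⟩ := (hc.scal ⟨s', hs'.1⟩ b0).1 (by rw [hs'.2, hb0])
    obtain ⟨hr, -, -, -⟩ := triangle h hs'.1 hp hm
    rw [hs'.2] at hr
    have hcj : cj p t = cj t p := cj_comm h.cls hp.1 ht hpt
    have hsum := hc.tri ⟨s', hs'.1⟩ ⟨p, hp⟩ ⟨_, hr.1⟩ hm (by rw [hs'.2])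
    have hval : hh (φ ⟨s', hs'.1⟩) (φ ⟨p, hp⟩) = 1 := (hc.mate _ _).2 hm
    have hκ0 : κ ≠ 0 := fun e => hc.ne b0 (by rw [hκ, e, zero_smul])
    refine ⟨κ⁻¹, inv_ne_zero hκ0, ?_⟩
    rw [hcj, vec_sheet h hr.1, ← hsum, hvt, hκ, vec_sheet h hp, tvec, hh_mk, hh_smul_left, hval,
      mk_smul, mk_add, mk_smul]
    simp only [zero_mul, mul_zero, zero_add, add_zero, mul_one, smul_add, smul_smul,
      inv_mul_cancel₀ hκ0, one_smul]
  · -- a member of the sheet
    set a := proj D x y p with ha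
    set b := proj D x y t with hb
    obtain ⟨haD, hxa, hya⟩ := mem_nbr.1 (proj_nbr h hp)
    obtain ⟨hbD, hxb, hyb⟩ := mem_nbr.1 (proj_nbr h hts)
    have hab : ¬ Commute a b := fun e => hpt ((commute_iff_proj h hp hts).2 e)
    have hcN : cj a b ∈ nbr D x y :=
      mem_nbr.2 ⟨cj_mem h.cls haD hbD, commute_cj hxa hxb, commute_cj hya hyb⟩
    rw [vec_sheet h hp, vec_sheet h hts, tvec, hh_mk]
    simp only [zero_mul, mul_zero, zero_add, add_zero, mul_one, one_pow, zero_pow two_ne_zero]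
    set lam := hh (φ ⟨t, hts⟩) (φ ⟨p, hp⟩) with hlam
    rw [mk_smul, mk_add, mul_one, mul_zero, add_zero]
    have hlam0 : lam ≠ 0 := fun e => hab ((hc.orth _ _).1 e).symm
    by_cases hm : Mat y p t
    · have hl1 : lam = 1 := (hc.mate _ _).2 (mat_symm h hm)
      obtain ⟨hr, -, -, -⟩ := triangle h hp hts hm
      rw [← ha, ← hb] at hr
      have hsum := hc.tri ⟨p, hp⟩ ⟨t, hts⟩ ⟨_, hr.1⟩ hm rfl
      obtain ⟨q, hq, hvq⟩ := exists_vec_nbr h (φ := φ) hcN
      obtain ⟨c, hcq⟩ := (hc.scal ⟨_, hr.1⟩ q).1 (by rw [hr.2, hq])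
      refine ⟨c, fun e => hc.ne q (by rw [hcq, e, zero_smul]), ?_⟩
      rw [hl1, one_smul, mat_cj_eq h hp hts hm, ← ha, ← hb, hvq, hcq, ← hsum, mk_smul, add_self,
        mul_zero, add_comm (φ ⟨t, hts⟩)]
    · have hl1 : lam ≠ 1 := fun e => hm (mat_symm h ((hc.mate ⟨t, hts⟩ ⟨p, hp⟩).1 e))
      have htr : lam + lam ^ 2 = 1 := trace_one hlam0 hl1
      set μ := (1 + lam)⁻¹ with hμ
      have h1l : (1 : F4) + lam ≠ 0 := fun e => hl1 (by linear_combination e - two_zero)
      have hμl : μ = lam := inv_eq_of_mul_eq_one_right (by linear_combination htr)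
      -- the partner of `t` over the point of `p`
      obtain ⟨p'', hp''⟩ := hc.onto (lam • φ ⟨p, hp⟩) (smul_ne_zero hlam0 (hc.ne _))
        (by rw [hh_smul_left, hh_smul_right, hc.iso, mul_zero, mul_zero])
      have hpr : proj D x y (p'' : G) = a := ((hc.scal ⟨p, hp⟩ p'').2 ⟨lam, hp''⟩).symm
      have hm'' : Mat y (p'' : G) t := (hc.mate p'' ⟨t, hts⟩).1 (by
        rw [hp'', hh_smul_left, hh_swap (φ ⟨t, hts⟩) (φ ⟨p, hp⟩), ← hlam]
        linear_combination cube_one hlam0)
      obtain ⟨hrt, -, -, -⟩ := triangle h p''.2 hts hm''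
      rw [hpr, ← hb] at hrt
      have hsum := hc.tri p'' ⟨t, hts⟩ ⟨_, hrt.1⟩ hm'' (by rw [hpr])
      rw [hp'', add_comm] at hsum
      -- the partner of `p` over the same point
      obtain ⟨u, hu, hum⟩ := exists_partner h hp (proj_nbr h hts) fun e => hab e.symm
      rw [← hb] at hu
      obtain ⟨hr0, -, hr0m, -⟩ := triangle h hu.1 hp hum
      rw [hu.2, ← ha, cj_comm h.cls hbD haD fun e => hab e.symm] at hr0
      rw [hu.2] at hr0m
      set rt : ↥(sheet D x y) := ⟨cj a t, hrt.1⟩ with hrtdef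
      set r0 : ↥(sheet D x y) := ⟨cj b p, hr0.1⟩ with hr0def
      have hrtp : hh (φ rt) (φ ⟨p, hp⟩) = lam := by
        rw [← hsum, hh_add_left, hh_smul_left, hc.iso, mul_zero, add_zero]
      have hr0p : hh (φ r0) (φ ⟨p, hp⟩) = 1 := (hc.mate _ _).2 (mat_symm h hr0m)
      obtain ⟨r', hr'⟩ := hc.onto (μ • φ rt) (smul_ne_zero (inv_ne_zero h1l) (hc.ne _))
        (by rw [hh_smul_left, hh_smul_right, hc.iso, mul_zero, mul_zero])
      have hr'p : proj D x y (r' : G) = cj a b := by
        rw [← hrt.2]; exact ((hc.scal rt r').2 ⟨μ, hr'⟩).symm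
      have d1 : (cj a t) ≠ cj b p := fun e => hl1 (by
        rw [← hrtp, show rt = r0 from Subtype.ext e]; exact hr0p)
      have d2 : cj a t ≠ (r' : G) := fun e => by
        have e' : φ r' = φ rt := congrArg φ (Subtype.ext e.symm)
        rw [hr'] at e'
        have := congrArg (fun f => hh f (φ ⟨p, hp⟩)) e'
        simp only [hh_smul_left, hrtp] at this
        exact hl1 (hμl ▸ mul_right_cancel₀ hlam0 (this.trans (one_mul lam).symm))
      have d3 : cj b p ≠ (r' : G) := fun e => by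
        have e' : φ r' = φ r0 := congrArg φ (Subtype.ext e.symm)
        rw [hr'] at e'
        have := congrArg (fun f => hh f (φ ⟨p, hp⟩)) e'
        simp only [hh_smul_left, hrtp, hr0p, hμl] at this
        exact hl1 (mul_left_cancel₀ (pow_ne_zero 2 hlam0)
          (by linear_combination cube_one hlam0 - this))
      -- the conjugate lies over the same point
      have hcl := line_cj_mem h.toSetting hp.1 ((mem_fib_iff h (proj_nbr h hts)).1 ⟨hts, rfl⟩).1
      have hpb : ¬ Commute p b := fun e => hab ((commute_proj h hp hbD hxb.symm).1 e.symm).symm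
      rw [cj_eq_self h.cls hp.1 hp.2.2.1.symm, cj_comm h.cls hp.1 hbD hpb] at hcl
      have hlc : line D x (cj b p) = line D x (cj a b) := by
        rw [line_proj h hr0.1, hr0.2]
      rw [hlc] at hcl
      have hcjf : cj p t ∈ fib D x y (cj a b) := by
        refine (mem_fib_iff h hcN).2 ⟨hcl, fun e => ?_, fun e => hm ?_⟩
        · rw [← cj_eq_self h.cls hp.1 hp.2.2.1.symm] at e
          exact hts.2.1 (cj_injective h.cls hp.1 e)
        · exact mat_of_cj_mem h hp hts.1 (by rw [e]; exact (mem_nbr.1 hcN).2.2)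
      have hr'f : (r' : G) ∈ fib D x y (cj a b) := ⟨r'.2, hr'p⟩
      have hpa : Commute p a := ((commute_proj h hp haD hxa.symm).2 (Commute.refl a)).symm
      rcases third_fib h hcN hrt hr0 hr'f d1 d2 d3 hcjf with e | e | e
      · exfalso
        rw [cj_comm h.cls hp.1 hts.1 hpt, cj_comm h.cls haD hts.1 fun e' => hab
          ((commute_proj h hts haD hxa.symm).1 e')] at e
        exact sheet_ne_nbr h hp (proj_nbr h hp) (cj_injective h.cls hts.1 e)
      · exfalso
        rw [cj_comm h.cls hbD hp.1 fun e' => hpb e'.symm] at e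
        exact sheet_ne_nbr h hts (proj_nbr h hts) (cj_injective h.cls hp.1 e)
      · refine ⟨μ, inv_ne_zero h1l, ?_⟩
        have hv : vec φ (cj p t) = mk 1 0 (φ r') := by rw [e]; exact vec_sheet h r'.2
        rw [hv, hr', ← hsum, mk_smul, mul_zero, inv_mul_cancel₀ h1l]

set_option maxHeartbeats 800000 in
-- long case analysis
theorem farVec_of_cj {p s : G} (hp : p ∈ sheet D x y) (hs : s ∈ sheet D x y)
    (hps : ¬ Commute (proj D x y p) (proj D x y s)) (hm : ¬ Mat y p s) :
    Far D x y (cj p (rho x y s)) ∧ ∃ v, FarVec φ (cj p (rho x y s)) v ∧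
      v = mk (1 + hh (φ ⟨s, hs⟩) (φ ⟨p, hp⟩)) 1
        (φ ⟨s, hs⟩ + (1 + hh (φ ⟨s, hs⟩) (φ ⟨p, hp⟩)) • φ ⟨p, hp⟩) := by
  have hqn : Near D x y (rho x y s) := near_rho h (near_of_com h hs.1 hs.2.2.1.symm)
  have hqD := hqn.1
  have hpn : Near D x y p := near_of_com h hp.1 hp.2.2.1.symm
  have hpq : ¬ Commute p (rho x y s) := fun e => hm ((mat_iff_rho h hp.2.2.1).2 e)
  have heD := cj_mem h.cls hp.1 hqD
  have hqx : ¬ Commute (rho x y s) x := fun e => sheet_third h hs ((rho_commute_left h).1 e)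
  have hqy : Commute (rho x y s) y := (rho_commute_right h).2 hs.2.2.1.symm
  have key : ∀ {c : G}, Commute (cj p (rho x y s)) c ↔ Commute (rho x y s) (cj p c) := fun {c} => by
    conv_lhs => rw [← cj_cj h.cls hp.1 c]
    rw [commute_cj_iff h.cls hp.1]
  have hfar : Far D x y (cj p (rho x y s)) := by
    refine ⟨heD, ?_, ?_, ?_⟩
    · exact fun e => not_commute_cj h.cls hp.1 hp.2.2.1 (fun e' => hqx e'.symm) e.symm
    · rw [cj_comm h.cls hp.1 hqD hpq]
      exact fun e => not_commute_cj h.cls hqD hqy.symm hp.2.2.2 e.symm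
    · rw [key, cj_cj_comm hp.2.2.1.symm, cj_comm h.cls hp.1 h.hy fun e => hp.2.2.2 e.symm,
        show cj x (cj y p) = rho x y p from rfl, commute_rho_iff h]
      exact fun e => hps ((commute_iff_proj h hs hp).1 e).symm
  refine ⟨hfar, _, ?_, rfl⟩
  set g := hh (φ ⟨s, hs⟩) (φ ⟨p, hp⟩) with hgdef
  set lam := 1 + g with hlam
  have hg0 : g ≠ 0 := fun e => hps ((hc.orth _ _).1 e).symm
  have hg1 : g ≠ 1 := fun e => hm (mat_symm h ((hc.mate ⟨s, hs⟩ ⟨p, hp⟩).1 e))
  have hl0 : lam ≠ 0 := fun e => hg1 (by linear_combination (e : 1 + g = 0) - two_zero)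
  have hl1 : lam ≠ 1 := fun e => hg0 (by linear_combination (e : 1 + g = 1))
  have hw : hh (φ ⟨s, hs⟩ + lam • φ ⟨p, hp⟩) (φ ⟨s, hs⟩ + lam • φ ⟨p, hp⟩) = 1 := by
    simp only [hh_add_left, hh_add_right, hh_smul_left, hh_smul_right, hc.iso, mul_zero, zero_add,
      add_zero]
    rw [hh_swap (φ ⟨s, hs⟩) (φ ⟨p, hp⟩), ← hgdef, hlam]
    linear_combination trace_one hg0 hg1 + (g ^ 2 + g ^ 3) * two_zero
  refine ⟨lam, _, rfl, hl0, hl1, hw, ?_⟩
  have hvp : vec φ p = mk 1 0 (φ ⟨p, hp⟩) := vec_sheet h hp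
  have hvs : vec φ s = mk 1 0 (φ ⟨s, hs⟩) := vec_sheet h hs
  have hvq : vec φ (rho x y s) = mk 0 1 (φ ⟨s, hs⟩) := by
    rw [vec_rho h (near_of_com h hs.1 hs.2.2.1.symm), hvs, rotV_mk, add_zero]
  set v := mk lam 1 (φ ⟨s, hs⟩ + lam • φ ⟨p, hp⟩) with hvdef
  have hv : tvec (vec φ p) (vec φ (rho x y s)) = v := by
    rw [tvec, hvp, hvq, hh_mk, mk_smul, mk_add]
    simp only [zero_mul, mul_zero, zero_add, add_zero, mul_one, one_pow, one_mul, ← hgdef, ← hlam,
      hvdef]
  have hvp0 := vec_iso h hc hpn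
  -- members commuting with `x`
  have hx' : ∀ {u : G}, u ∈ D → Commute u x → (Commute (cj p (rho x y s)) u ↔ hh v (vec φ u) = 0) := by
    intro u hu hux
    obtain ⟨c, hc0, hcj⟩ := vec_cj_com h hc hp hu hux
    rw [key, commute_iff_near h hc hqn (near_of_com h (cj_mem h.cls hp.1 hu)
      (commute_cj hp.2.2.1 hux.symm).symm), hcj, hh_smul_eq_zero hc0, ← hv, hh_tvec_left hvp0]
  -- members commuting with `y`
  have hy' : ∀ {t : G}, t ∈ D → Commute t x →
      (Commute (cj p (rho x y s)) (rho x y t) ↔ hh v (vec φ (rho x y t)) = 0) := by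
    intro t ht htx
    obtain ⟨c, hc0, hcj⟩ := vec_cj_com h hc hs ht htx
    have e1 : Commute (cj p (rho x y s)) (rho x y t) ↔ Commute p (rho x y (cj s t)) := by
      rw [cj_comm h.cls hp.1 hqD hpq, rho_cj h]
      conv_lhs => rw [← cj_cj h.cls hqD (rho x y t)]
      rw [commute_cj_iff h.cls hqD]
    have hsn := near_of_com h (cj_mem h.cls hs.1 ht) (commute_cj hs.2.2.1 htx.symm).symm
    rw [e1, commute_iff_near h hc hpn (near_rho h hsn), vec_rho h hsn, hcj, rotV_smul,
      hh_smul_eq_zero hc0, rotV_tvec, ← vec_rho h (near_of_com h hs.1 hs.2.2.1.symm),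
      ← vec_rho h (near_of_com h ht htx), ← hh_tvec_left (vec_iso h hc hqn)]
    have e2 : tvec (vec φ (rho x y s)) (vec φ p) = (lam ^ 2) • v := by
      rw [tvec, hvp, hvq, hh_mk, mk_smul, mk_add, hvdef, mk_smul, smul_add, smul_smul]
      simp only [zero_mul, mul_zero, zero_add, add_zero, mul_one, one_pow, one_mul]
      rw [hh_swap (φ ⟨s, hs⟩) (φ ⟨p, hp⟩), ← hgdef, show lam ^ 2 * lam = 1 by
          linear_combination cube_one hl0, one_smul,
        show (1 : F4) + g ^ 2 = lam ^ 2 by rw [hlam]; linear_combination -(g * two_zero),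
        add_comm (φ ⟨p, hp⟩)]
    rw [e2, hh_smul_left, mul_eq_zero]
    simp [pow_ne_zero 2 hl0]
  intro u hu
  rcases near_cases h hu with hux | ⟨t, ht, htx, rfl⟩ | ⟨t, ht, htx, rfl⟩
  · exact hx' hu.1 hux
  · exact hy' ht htx
  rcases cases_com h ht htx with e | htN | hts
  · subst e
    rw [rho_left h, rho_right h]
    refine ⟨fun e => absurd e hfar.2.2.2, fun e => ?_⟩
    exfalso
    have hxn := near_of_com h h.hx (Commute.refl t)
    have e' : vec φ (cj t y) = mk 1 1 0 := by
      rw [show cj t y = rho t y (rho t y t) by rw [rho_left h, rho_right h],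
        vec_rho h (near_rho h hxn), vec_rho h hxn, vec_left h, rotV_mk, rotV_mk]
      simp
    rw [e', hvdef, hh_mk, hh_zero_right] at e
    exact hl1 (by linear_combination e - two_zero)
  · obtain ⟨-, a, b⟩ := mem_nbr.1 htN
    rw [rho_fix h a b, rho_fix h a b]
    exact hx' ht htx
  -- a member of the third sheet
  set b := proj D x y t with hb
  obtain ⟨hbD, hxb, hyb⟩ := mem_nbr.1 (proj_nbr h hts)
  have htn := near_of_com h ht htx
  obtain ⟨q, hq, hvb⟩ := exists_vec_nbr h (φ := φ) (proj_nbr h hts)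
  obtain ⟨κ, hκ⟩ := (hc.scal q ⟨t, hts⟩).1 hq
  rw [vec_rho h (near_rho h htn), vec_rho h htn, vec_sheet h hts, rotV_mk, rotV_mk]
  have hval : hh v (mk (1 + 0) (0 + (1 + 0)) (φ ⟨t, hts⟩)) =
      lam + 1 + hh (φ ⟨s, hs⟩ + lam • φ ⟨p, hp⟩) (φ ⟨t, hts⟩) := by
    rw [hvdef, hh_mk]; simp
  rw [hval]
  set w := φ ⟨s, hs⟩ + lam • φ ⟨p, hp⟩ with hwdef
  by_cases heb : Commute (cj p (rho x y s)) b
  · refine ⟨fun e => absurd ?_ hfar.2.2.2, fun e => ?_⟩
    · -- two points of a line through the third member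
      have hxl : x ∈ line D t b := by
        rw [line_eq h.toSetting h.hx ht htx.symm hts.2.1.symm (right_mem_line ht) (proj_line h hts)
          (proj_ne h hts)]
        exact left_mem_line h.hx
      have hzl := rho_line h (rho_line h hxl)
      rw [rho_left h, rho_right h, rho_fix h hxb hyb, rho_fix h hxb hyb] at hzl
      have htb : Commute t b := ((commute_proj h hts hbD hxb.symm).2 (Commute.refl b)).symm
      have hub : Commute (rho x y (rho x y t)) b := by
        rw [commute_rho_nbr h (proj_nbr h hts), commute_rho_nbr h (proj_nbr h hts)]; exact htb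
      have hne : rho x y (rho x y t) ≠ b := fun e' => proj_ne h hts (by
        have := congrArg (rho x y) e'
        rwa [rho_cube h, rho_fix h hxb hyb] at this)
      exact commute_line h.toSetting hu.1 hbD hub hne (left_mem_line hu.1) (right_mem_line hbD) hne
        heD e heb hzl
    · exfalso
      have hwb := (hx' hbD hxb.symm).1 heb
      rw [hvb, hvdef, hh_mk] at hwb
      simp only [mul_zero, zero_mul, zero_add, add_zero, zero_pow two_ne_zero] at hwb
      rw [hκ, hh_smul_right, hwb, mul_zero, add_zero] at e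
      exact hl1 (by linear_combination e - two_zero)
  · have hb' := proj_nbr h hts
    obtain ⟨A0, A1, A2, n01, n02, n12⟩ := traces h hfar hb' heb
    have he1 := far_rho h hfar
    have he2 := far_rho h he1
    have heb1 : ¬ Commute (rho x y (cj p (rho x y s))) b := by rwa [commute_rho_nbr h hb']
    have heb2 : ¬ Commute (rho x y (rho x y (cj p (rho x y s)))) b := by
      rwa [commute_rho_nbr h hb', commute_rho_nbr h hb']
    set t0 := pt D (cj p (rho x y s)) x b with ht0
    set t1 := pt D (rho x y (rho x y (cj p (rho x y s)))) x b with ht1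
    set t2 := pt D (rho x y (cj p (rho x y s))) x b with ht2
    have w0 : hh w (φ ⟨t0, A0.1⟩) = 1 := by
      have h1 := (hx' A0.1.1 A0.1.2.2.1.symm).1 (trace_spec h hfar.1 hfar.2.1 hb' heb).2
      rw [vec_sheet h A0.1, hvdef, hh_mk] at h1
      simp only [mul_zero, zero_pow two_ne_zero, zero_add, one_mul, one_pow] at h1
      linear_combination h1 - two_zero
    have w1 : hh w (φ ⟨t1, A1.1⟩) = lam := by
      have h0 := (commute_rho_iff h _ _).2 (trace_spec h he2.1 he2.2.1 hb' heb2).2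
      rw [rho_cube h] at h0
      have h1 := (hy' A1.1.1 A1.1.2.2.1.symm).1 h0
      rw [vec_rho h (near_of_com h A1.1.1 A1.1.2.2.1.symm), vec_sheet h A1.1, rotV_mk, hvdef,
        hh_mk] at h1
      simp only [mul_zero, zero_pow two_ne_zero, zero_add, add_zero, mul_one, one_pow] at h1
      linear_combination h1 - lam * two_zero
    have ht2' : Commute (cj p (rho x y s)) (rho x y (rho x y t2)) := by
      have := (commute_rho_iff h _ _).2 ((commute_rho_iff h _ _).2
        (trace_spec h he1.1 he1.2.1 hb' heb1).2)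
      rwa [rho_cube h] at this
    have hcu : Commute (cj p (rho x y s)) (rho x y (rho x y t)) ↔ t = t2 := by
      refine ⟨fun e => trace_unique h he1.1 he1.2.1 hb' ⟨hts, rfl⟩ ?_, fun e => e ▸ ht2'⟩
      have := (commute_rho_iff h _ _).2 e
      rwa [rho_cube h] at this
    rw [hcu]
    have scale : ∀ {u u' : ↥(sheet D x y)}, proj D x y (u : G) = b → proj D x y (u' : G) = b →
        hh w (φ u) ≠ 0 → hh w (φ u') = hh w (φ u) → u = u' := by
      intro u u' hu hu' hne e
      obtain ⟨c, hc'⟩ := (hc.scal u u').1 (hu.trans hu'.symm)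
      rw [hc', hh_smul_right] at e
      have hc1 : c ^ 2 = 1 := mul_right_cancel₀ hne (e.trans (one_mul _).symm)
      have : c = 1 := by rw [← sq_sq c, hc1, one_pow]
      exact hc.inj (by rw [hc', this, one_smul])
    have w2 : hh w (φ ⟨t2, A2.1⟩) = 1 + lam := by
      have z0 : hh w (φ ⟨t2, A2.1⟩) ≠ 0 := fun e => by
        obtain ⟨c, hc'⟩ := (hc.scal ⟨t2, A2.1⟩ ⟨t0, A0.1⟩).1 (A2.2.trans A0.2.symm)
        rw [hc', hh_smul_right, e, mul_zero] at w0
        exact zero_ne_one w0
      have z1 : hh w (φ ⟨t2, A2.1⟩) ≠ 1 := fun e =>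
        n02 (congrArg Subtype.val (scale (u := ⟨t0, A0.1⟩) (u' := ⟨t2, A2.1⟩) A0.2 A2.2 (by rw [w0]; exact one_ne_zero) (by rw [e, w0])))
      have zl : hh w (φ ⟨t2, A2.1⟩) ≠ lam := fun e =>
        n12 (congrArg Subtype.val (scale (u := ⟨t1, A1.1⟩) (u' := ⟨t2, A2.1⟩) A1.2 A2.2 (by rw [w1]; exact hl0) (by rw [e, w1])))
      exact third_value z0 z1 zl hl0 hl1
    rcases third_fib h hb' A0 A1 A2 n01 n02 n12 ⟨hts, rfl⟩ with e | e | e
    · rw [show (⟨t, hts⟩ : ↥(sheet D x y)) = ⟨t0, A0.1⟩ from Subtype.ext e, w0]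
      refine ⟨fun e' => absurd (e.symm.trans e') n02, fun e' => absurd ?_ hl0⟩
      linear_combination e' - two_zero
    · rw [show (⟨t, hts⟩ : ↥(sheet D x y)) = ⟨t1, A1.1⟩ from Subtype.ext e, w1]
      refine ⟨fun e' => absurd (e.symm.trans e') n12, fun e' => absurd ?_ (one_ne_zero (α := F4))⟩
      linear_combination e' - lam * two_zero
    · rw [show (⟨t, hts⟩ : ↥(sheet D x y)) = ⟨t2, A2.1⟩ from Subtype.ext e, w2]
      exact ⟨fun _ => by linear_combination (1 + lam) * two_zero, fun _ => e⟩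

theorem exists_rep {e p : G} (he : Far D x y e) (hp : p ∈ sheet D x y)
    (hep : Commute e (rho x y (rho x y p))) (hea : ¬ Commute e (proj D x y p)) :
    ∃ s ∈ sheet D x y, ¬ Commute (proj D x y p) (proj D x y s) ∧ ¬ Mat y p s ∧
      e = cj p (rho x y s) := by
  have hr : rho x y (rho x y p) = cj y p := by
    simp only [rho]
    conv_lhs => rw [← cj_eq_self h.cls h.hx hp.2.2.1]
    have := rho_cube h (cj y p)
    simp only [rho, cj_cj h.cls h.hy] at this
    rw [cj_eq_self h.cls h.hx hp.2.2.1] at this ⊢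
    exact this
  rw [hr, cj_comm h.cls h.hy hp.1 hp.2.2.2] at hep
  have hnep : ¬ Commute e p := fun e' =>
    not_commute_cj h.cls hp.1 e' he.2.2.1 hep
  have hqD := cj_mem h.cls hp.1 he.1
  have hqy : Commute (cj p e) y := by
    have := (commute_cj_iff h.cls hp.1 e (cj p y)).2 hep
    rwa [cj_cj h.cls hp.1] at this
  have hqx : ¬ Commute (cj p e) x := fun e' =>
    not_commute_cj h.cls hp.1 hp.2.2.1 (fun e'' => he.2.1 e''.symm) e'.symm
  have hqz : ¬ Commute (cj p e) (cj x y) := fun e' => hqx (commute_third_of' h hqy e')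
  have hqy' : cj p e ≠ y := fun e' => he.2.2.2 (by
    have e2 : e = cj p y := by rw [← cj_cj h.cls hp.1 e, e']
    rw [e2, ← cj_comm h.cls h.hy hp.1 hp.2.2.2, third_eq h, commute_cj_iff h.cls h.hy]
    exact hp.2.2.1.symm)
  set s := rho x y (rho x y (cj p e)) with hsdef
  have hρs : rho x y s = cj p e := rho_cube h _
  have hsx : Commute s x := by
    rw [hsdef, rho_commute_left h, rho_commute_third h]; exact hqy
  have hs : s ∈ sheet D x y := ⟨rho_mem h (rho_mem h hqD), fun e' => hqy' (by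
    rw [← hρs, e', rho_left h]), hsx.symm, fun e' => hqz (by
    rw [← hρs, rho_commute_third h]; exact e'.symm)⟩
  have hes : e = cj p (rho x y s) := by rw [hρs, cj_cj h.cls hp.1]
  refine ⟨s, hs, fun e' => he.2.2.2 ?_, fun e' => hnep ?_, hes⟩
  · rw [hes]
    conv => arg 2; rw [← cj_cj h.cls hp.1 (cj x y)]
    rw [commute_cj_iff h.cls hp.1, cj_cj_comm hp.2.2.1.symm,
      cj_comm h.cls hp.1 h.hy fun e => hp.2.2.2 e.symm, show cj x (cj y p) = rho x y p from rfl,
      commute_rho_iff h]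
    exact (commute_iff_proj h hs hp).2 e'.symm
  · have h1 : Commute p (rho x y s) := (mat_iff_rho h hp.2.2.1).1 e'
    rw [hes, cj_eq_self h.cls hp.1 h1]
    exact h1.symm

theorem exists_farVec' {e a : G} (he : Far D x y e) (ha : a ∈ nbr D x y) (hea : ¬ Commute e a) :
    ∃ v, FarVec φ e v := by
  have he1 := far_rho h he
  have hea1 : ¬ Commute (rho x y e) a := by rwa [commute_rho_nbr h ha]
  obtain ⟨hu, hu'⟩ := trace_spec h he1.1 he1.2.1 ha hea1
  have hep : Commute e (rho x y (rho x y (pt D (rho x y e) x a))) := by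
    have := (commute_rho_iff h _ _).2 ((commute_rho_iff h _ _).2 hu')
    rwa [rho_cube h] at this
  obtain ⟨s, hs, h1, h2, h3⟩ := exists_rep h hc he hu.1 hep (by rw [hu.2]; exact hea)
  obtain ⟨-, v, hv, -⟩ := farVec_of_cj h hc hu.1 hs h1 h2
  exact ⟨v, h3 ▸ hv⟩

end CfsgLib.FischerPolar
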