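import Mathlib

set_option autoImplicit false

/-! The field with four elements, and hermitian forms over it in coordinates. -/

namespace CfsgLib.FischerPolar

open Polynomial

/-- The irreducible quadratic over two elements. -/
noncomputable abbrev quad : (ZMod 2)[X] := X ^ 2 + X + 1

instance quad_irreducible : Fact (Irreducible quad) := ⟨by
  have hdeg : quad.natDegree = 2 := by rw [quad]; compute_degree!
  refine Polynomial.irreducible_of_degree_le_three_of_not_isRoot (by rw [hdeg]; decide) fun a => ?_
  simp only [IsRoot.def, eval_add, eval_pow, eval_X, eval_one]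
  revert a
  decide⟩

/-- The field with four elements. -/
abbrev F4 : Type := AdjoinRoot quad

/-- The primitive element. -/
noncomputable def om : F4 := AdjoinRoot.root quad

theorem quad_monic : quad.Monic := by rw [quad]; monicity!

theorem natCard_F4 : Nat.card F4 = 4 := by
  have hdeg : quad.natDegree = 2 := by rw [quad]; compute_degree!
  let pb := AdjoinRoot.powerBasis' quad_monic
  haveI := pb.finite
  rw [Module.natCard_eq_pow_finrank (K := ZMod 2), pb.finrank, AdjoinRoot.powerBasis'_dim, hdeg,
    Nat.card_zmod]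
  norm_num

instance : Finite F4 := Nat.finite_of_card_ne_zero (by rw [natCard_F4]; norm_num)

noncomputable instance : Fintype F4 := Fintype.ofFinite _

theorem card_F4 : Fintype.card F4 = 2 ^ 2 := by
  rw [← Nat.card_eq_fintype_card, natCard_F4]; norm_num

theorem two_zero : (2 : F4) = 0 := by
  have h := congrArg (algebraMap (ZMod 2) F4) (show (2 : ZMod 2) = 0 by decide)
  rwa [map_ofNat, map_zero] at h

theorem add_self (a : F4) : a + a = 0 := by linear_combination a * two_zero

theorem om_eq : om ^ 2 + om + 1 = 0 := by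
  have h := AdjoinRoot.eval₂_root quad
  simpa [quad, om] using h

theorem om_ne_zero : om ≠ 0 := fun h => by
  have := om_eq
  rw [h] at this
  simp at this

theorem om_ne_one : om ≠ 1 := fun h => by
  have := om_eq
  rw [h] at this
  exact one_ne_zero (by linear_combination this - two_zero : (1 : F4) = 0)

theorem om_cube : om ^ 3 = 1 := by linear_combination (om - 1) * om_eq

theorem om_sq_ne : om ^ 2 ≠ 0 ∧ om ^ 2 ≠ 1 ∧ om ^ 2 ≠ om := by
  refine ⟨pow_ne_zero _ om_ne_zero, fun h => om_ne_zero ?_, fun h => om_ne_one ?_⟩
  · linear_combination om_eq - h - two_zero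
  · exact mul_left_cancel₀ om_ne_zero (by linear_combination h)

theorem cases_four (a : F4) : a = 0 ∨ a = 1 ∨ a = om ∨ a = om ^ 2 := by
  classical
  have h : ({0, 1, om, om ^ 2} : Finset F4) = Finset.univ := by
    refine Finset.eq_univ_of_card _ ?_
    obtain ⟨h0, h1, h2⟩ := om_sq_ne
    rw [card_F4, Finset.card_insert_of_notMem (by simp [om_ne_zero.symm, h0.symm]),
      Finset.card_insert_of_notMem (by simp [om_ne_one.symm, h1.symm]),
      Finset.card_insert_of_notMem (by simp [h2.symm]), Finset.card_singleton]
    norm_num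
  have := Finset.mem_univ a
  rw [← h] at this
  simpa using this

theorem cube_one {a : F4} (ha : a ≠ 0) : a ^ 3 = 1 := by
  have h := FiniteField.pow_card_sub_one_eq_one a ha
  rwa [card_F4] at h

theorem sq_sq (a : F4) : (a ^ 2) ^ 2 = a := by
  by_cases ha : a = 0
  · subst ha; simp
  · linear_combination a * cube_one ha

/-- The field automorphism. -/
noncomputable def sigma : F4 →+* F4 where
  toFun a := a ^ 2
  map_one' := one_pow 2
  map_mul' a b := mul_pow a b 2
  map_zero' := zero_pow two_ne_zero
  map_add' a b := by linear_combination a * b * two_zero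

theorem sigma_apply (a : F4) : sigma a = a ^ 2 := rfl

theorem sigma_ne_id : sigma ≠ RingHom.id F4 := fun h =>
  om_sq_ne.2.2 (RingHom.congr_fun h om)

theorem trace_one {a : F4} (h0 : a ≠ 0) (h1 : a ≠ 1) : a + a ^ 2 = 1 := by
  rcases cases_four a with rfl | rfl | rfl | rfl
  · exact absurd rfl h0
  · exact absurd rfl h1
  · linear_combination om_eq - two_zero
  · linear_combination om_eq + om * om_cube - two_zero

theorem trace_cases (a : F4) : a + a ^ 2 = 0 ∨ a + a ^ 2 = 1 := by
  by_cases h0 : a = 0
  · left; subst h0; simp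
  by_cases h1 : a = 1
  · left; subst h1; rw [one_pow]; exact add_self 1
  · exact Or.inr (trace_one h0 h1)

variable {m : ℕ}

/-- The standard hermitian form. -/
noncomputable def hh (u v : Fin m → F4) : F4 := ∑ i, u i * (v i) ^ 2

theorem hh_add_left (u u' v : Fin m → F4) : hh (u + u') v = hh u v + hh u' v := by
  simp [hh, add_mul, Finset.sum_add_distrib]

theorem hh_smul_left (a : F4) (u v : Fin m → F4) : hh (a • u) v = a * hh u v := by
  simp [hh, mul_assoc, Finset.mul_sum]

theorem hh_swap (u v : Fin m → F4) : hh v u = hh u v ^ 2 := by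
  rw [← sigma_apply, hh, hh, map_sum]
  refine Finset.sum_congr rfl fun i _ => ?_
  rw [map_mul, sigma_apply, sigma_apply, sq_sq, mul_comm]

theorem hh_add_right (u v v' : Fin m → F4) : hh u (v + v') = hh u v + hh u v' := by
  rw [hh_swap (v + v'), hh_add_left, hh_swap v, hh_swap v']
  exact map_add sigma _ _

theorem hh_smul_right (a : F4) (u v : Fin m → F4) : hh u (a • v) = a ^ 2 * hh u v := by
  rw [hh_swap (a • v), hh_smul_left, mul_pow, hh_swap v]

theorem hh_zero_left (v : Fin m → F4) : hh 0 v = 0 := by simp [hh]

theorem hh_zero_right (v : Fin m → F4) : hh v 0 = 0 := by simp [hh]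

theorem hh_comm_zero {u v : Fin m → F4} (h : hh u v = 0) : hh v u = 0 := by
  rw [hh_swap, h, zero_pow two_ne_zero]

theorem hh_single (u : Fin m → F4) (i : Fin m) : hh u (Pi.single i 1) = u i := by
  rw [hh, Finset.sum_eq_single i]
  · simp
  · intro j _ hj; simp [Pi.single_eq_of_ne hj]
  · simp

theorem hh_nondeg {u : Fin m → F4} (h : ∀ v, hh u v = 0) : u = 0 :=
  funext fun i => (hh_single u i).symm.trans (h _)

theorem hh_self_cases (u : Fin m → F4) : hh u u = 0 ∨ hh u u = 1 := by
  have h := hh_swap u u
  by_cases h0 : hh u u = 0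
  · exact Or.inl h0
  · exact Or.inr (mul_left_cancel₀ h0 (by rw [mul_one]; linear_combination -h))

/-- Correct a vector by a multiple of a singular vector not orthogonal to it. -/
theorem exists_isotropic {u s : Fin m → F4} (hu : hh u u = 0) (hsu : hh s u ≠ 0) :
    ∃ c : F4, hh (s + c • u) (s + c • u) = 0 := by
  have e : ∀ c : F4, hh (s + c • u) (s + c • u) = hh s s + (c ^ 2 * hh s u + (c ^ 2 * hh s u) ^ 2) := by
    intro c
    simp only [hh_add_left, hh_add_right, hh_smul_left, hh_smul_right, hu, mul_zero, add_zero]
    rw [hh_swap s u, mul_pow, sq_sq]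
    ring
  rcases hh_self_cases s with h | h
  · exact ⟨0, by rw [zero_smul, add_zero, h]⟩
  · refine ⟨(om * (hh s u)⁻¹) ^ 2, ?_⟩
    rw [e, sq_sq, mul_assoc, inv_mul_cancel₀ hsu, mul_one, h]
    linear_combination om_eq

end CfsgLib.FischerPolar
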