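import Cfsg.Agent.Lib.FischerPolar.Orient
import Cfsg.Agent.Lib.FischerPolar.FieldFour
import Cfsg.Agent.Lib.Forms.Classify

set_option autoImplicit false
set_option linter.unusedSectionVars false
set_option linter.unusedVariables false
set_option linter.style.haveILetI false

/-! The hermitian space spanned by the rows of the cover. -/

namespace CfsgLib.FischerPolar

open CfsgLib.ThreeTrans Polynomial

variable {G : Type*} [Group G] {D : Set G} [Finite G]

/-- A frame with a rotation of the sheet preserving all matchings. -/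
structure Oriented (D : Set G) (x y : G) (o : G → G) : Prop extends Frame D x y where
  rot : ∀ p ∈ sheet D x y, o p ∈ sheet D x y ∧ o p ≠ p ∧ proj D x y (o p) = proj D x y p ∧
    o (o (o p)) = p
  mat : ∀ p ∈ sheet D x y, ∀ s ∈ sheet D x y, Mat y p s → Mat y (o p) (o s)

variable {x y : G} {o : G → G} (h : Oriented D x y o)

include h

theorem rot_two {p : G} (hp : p ∈ sheet D x y) : o (o p) ∈ sheet D x y ∧ o (o p) ≠ p ∧
    o (o p) ≠ o p ∧ proj D x y (o (o p)) = proj D x y p := by
  obtain ⟨h1, h2, h3, h4⟩ := h.rot p hp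
  obtain ⟨h5, h6, h7, -⟩ := h.rot _ h1
  exact ⟨h5, fun e => h2 (by rw [e] at h4; exact h4), h6, h7.trans h3⟩

theorem mat_rot {p s : G} (hp : p ∈ sheet D x y) (hs : s ∈ sheet D x y) :
    Mat y (o p) (o s) ↔ Mat y p s := by
  refine ⟨fun hm => ?_, h.mat p hp s hs⟩
  have h1 := h.mat _ (h.rot p hp).1 _ (h.rot s hs).1 hm
  have h2 := h.mat _ (rot_two h hp).1 _ (rot_two h hs).1 h1
  rwa [(h.rot p hp).2.2.2, (h.rot s hs).2.2.2] at h2

/-- The rotation on the sheet. -/
def osub (p : ↥(sheet D x y)) : ↥(sheet D x y) := ⟨o p, (h.rot p p.2).1⟩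

theorem psi_rot (p t : ↥(sheet D x y)) : psi D x y (o p) (osub h t) = psi D x y p t := by
  have e1 : proj D x y (o (p : G)) = proj D x y p := (h.rot p p.2).2.2.1
  have e2 : proj D x y (osub h t : G) = proj D x y t := (h.rot t t.2).2.2.1
  by_cases hz : Commute (proj D x y (p : G)) (proj D x y t) ∨ Mat y (p : G) t
  · rw [psi_zero hz]
    refine psi_zero ?_
    rw [e1, e2]
    exact hz.imp id fun e => h.mat p p.2 t t.2 e
  · push Not at hz
    rw [psi_one hz.1 hz.2]
    refine psi_one (by rw [e1, e2]; exact hz.1) fun e => hz.2 ((mat_rot h p.2 t.2).1 e)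

theorem psi_eq_zero_of_proj {p : G} (hp : p ∈ sheet D x y) (t : ↥(sheet D x y))
    (he : proj D x y p = proj D x y t) : psi D x y p t = 0 :=
  psi_zero (Or.inl (he ▸ Commute.refl _))

/-- A row or zero. -/
def IsRow (D : Set G) (x y : G) (w : ↥(sheet D x y) → ZMod 2) : Prop :=
  w = 0 ∨ ∃ p ∈ sheet D x y, w = psi D x y p

omit h [Finite G] in
theorem cancel_two (u v : ↥(sheet D x y) → ZMod 2) : u + (u + v) = v := by
  funext t
  show u t + (u t + v t) = v t
  rw [← add_assoc, CharTwo.add_self_eq_zero, zero_add]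

theorem psi_split {p : G} (hp : p ∈ sheet D x y) :
    psi D x y p = psi D x y (o p) + psi D x y (o (o p)) := by
  have hs := psi_fib_sum h.toFrame (proj_nbr h.toFrame hp) ⟨hp, rfl⟩
    ⟨(h.rot p hp).1, (h.rot p hp).2.2.1⟩ ⟨(rot_two h hp).1, (rot_two h hp).2.2.2⟩
    (h.rot p hp).2.1.symm (rot_two h hp).2.1.symm (rot_two h hp).2.2.1.symm
  funext t
  have e := congrFun hs t
  simp only [Pi.add_apply, Pi.zero_apply] at e ⊢
  rw [add_assoc] at e
  exact CharTwo.add_eq_zero.1 e

theorem fib_cases {p q : G} (hp : p ∈ sheet D x y) (hq : q ∈ sheet D x y)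
    (e : proj D x y q = proj D x y p) : q = p ∨ q = o p ∨ q = o (o p) :=
  third_fib h.toFrame (proj_nbr h.toFrame hp) ⟨hp, rfl⟩ ⟨(h.rot p hp).1, (h.rot p hp).2.2.1⟩
    ⟨(rot_two h hp).1, (rot_two h hp).2.2.2⟩ (h.rot p hp).2.1.symm (rot_two h hp).2.1.symm
    (rot_two h hp).2.2.1.symm ⟨hq, e⟩

theorem isRow_add {p s : G} (hp : p ∈ sheet D x y) (hs : s ∈ sheet D x y)
    (hz : psi D x y p ⟨s, hs⟩ = 0) : IsRow D x y (psi D x y p + psi D x y s) := by
  by_cases e : proj D x y s = proj D x y p
  · rcases fib_cases h hp hs e with e' | e' | e'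
    · exact Or.inl (funext fun t => by rw [e']; exact CharTwo.add_self_eq_zero _)
    · exact Or.inr ⟨_, (rot_two h hp).1, by rw [e', psi_split h hp, add_comm, cancel_two]⟩
    · exact Or.inr ⟨_, (h.rot p hp).1, by
        rw [e', psi_split h hp, add_comm, add_comm (psi D x y (o p)), cancel_two]⟩
  rcases psi_eq_zero_iff.1 hz with hc | hm
  · have hc' := (commute_iff_proj h.toFrame hp hs).2 hc
    obtain ⟨-, -, hr, -⟩ := cross_spec h.toFrame hp hs hc' fun e' => e e'.symm
    exact Or.inr ⟨_, hr.1, psi_plane h.toFrame hp hs hc' fun e' => e e'.symm⟩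
  · exact Or.inr ⟨_, (triangle h.toFrame hp hs hm).1.1, psi_triangle h.toFrame hp hs hm⟩

theorem mat_of_one {p s : G} (hp : p ∈ sheet D x y) (hs : s ∈ sheet D x y)
    (h1 : psi D x y p ⟨s, hs⟩ ≠ 0) : Mat y (o p) s ∨ Mat y (o (o p)) s := by
  have hn : ¬ (Commute (proj D x y p) (proj D x y s) ∨ Mat y p s) := fun e => h1 (psi_zero e)
  push Not at hn
  obtain ⟨u, hu, hm⟩ := exists_partner h.toFrame hs (proj_nbr h.toFrame hp) hn.1
  rcases fib_cases h hp hu.1 hu.2 with rfl | rfl | rfl
  · exact absurd hm hn.2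
  · exact Or.inl hm
  · exact Or.inr hm

/-- Sums of two rows. -/
def IsTwoRows (D : Set G) (x y : G) (w : ↥(sheet D x y) → ZMod 2) : Prop :=
  ∃ u v, IsRow D x y u ∧ IsRow D x y v ∧ w = u + v

theorem three_rows {p s t : G} (hp : p ∈ sheet D x y) (hs : s ∈ sheet D x y)
    (ht : t ∈ sheet D x y) :
    IsTwoRows D x y (psi D x y p + psi D x y s + psi D x y t) := by
  have row : ∀ {u : G}, u ∈ sheet D x y → IsRow D x y (psi D x y u) := fun hu => Or.inr ⟨_, hu, rfl⟩
  by_cases h1 : psi D x y p ⟨s, hs⟩ = 0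
  · exact ⟨_, _, isRow_add h hp hs h1, row ht, rfl⟩
  by_cases h2 : psi D x y s ⟨t, ht⟩ = 0
  · exact ⟨_, _, row hp, isRow_add h hs ht h2, add_assoc _ _ _⟩
  by_cases h3 : psi D x y t ⟨p, hp⟩ = 0
  · exact ⟨_, _, row hs, isRow_add h ht hp h3, by abel⟩
  -- one rewriting for each direction of the rotation
  have step : ∀ (f : G → G), (∀ u ∈ sheet D x y, f u ∈ sheet D x y ∧ f (f u) ∈ sheet D x y ∧
        f (f (f u)) = u ∧ psi D x y u = psi D x y (f u) + psi D x y (f (f u))) →
      (∀ u ∈ sheet D x y, ∀ v ∈ sheet D x y, Mat y u v → Mat y (f u) (f v)) →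
      ∀ ⦃p s t : G⦄, p ∈ sheet D x y → s ∈ sheet D x y → t ∈ sheet D x y → Mat y (f p) s →
        Mat y (f t) p → IsTwoRows D x y (psi D x y p + psi D x y s + psi D x y t) := by
    intro f hf hfm p s t hp hs ht m1 m3
    obtain ⟨p1, p2, p3, p4⟩ := hf p hp
    obtain ⟨t1, t2, t3, -⟩ := hf t ht
    have m4 := hfm _ t2 _ p1 (hfm _ t1 _ hp m3)
    rw [t3] at m4
    have r1 := isRow_add h p1 hs (psi_zero (Or.inr m1))
    have r2 := isRow_add h p2 ht (psi_zero (Or.inr (mat_symm h.toFrame m4)))
    exact ⟨_, _, r1, r2, by rw [p4]; abel⟩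
  have d1 := mat_of_one h hp hs h1
  have d2 := mat_of_one h hs ht h2
  have d3 := mat_of_one h ht hp h3
  have perm1 : psi D x y p + psi D x y s + psi D x y t = psi D x y s + psi D x y t + psi D x y p := by
    abel
  have perm2 : psi D x y p + psi D x y s + psi D x y t = psi D x y t + psi D x y p + psi D x y s := by
    abel
  have F1 := step o (fun u hu => ⟨(h.rot u hu).1, (rot_two h hu).1, (h.rot u hu).2.2.2, psi_split h hu⟩)
    h.mat
  have hoo : ∀ u ∈ sheet D x y, o (o (o (o u))) = o u := fun u hu => (h.rot _ (h.rot u hu).1).2.2.2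
  have F2 := step (fun u => o (o u)) (fun u hu => by
      have e1 := hoo u hu
      have e2 : o (o (o (o (o (o u))))) = u := by rw [e1]; exact (h.rot u hu).2.2.2
      refine ⟨(rot_two h hu).1, ?_, e2, ?_⟩
      · show o (o (o (o u))) ∈ _
        rw [e1]; exact (h.rot u hu).1
      · show psi D x y u = psi D x y (o (o u)) + psi D x y (o (o (o (o u))))
        rw [e1, add_comm]; exact psi_split h hu)
    (fun u hu v hv hm => h.mat _ (h.rot u hu).1 _ (h.rot v hv).1 (h.mat u hu v hv hm))
  rcases d1 with a | a <;> rcases d2 with b | b <;> rcases d3 with c | c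
  · exact F1 hp hs ht a c
  · rw [perm1]; exact F1 hs ht hp b a
  · exact F1 hp hs ht a c
  · rw [perm2]; exact F2 ht hp hs c b
  · rw [perm2]; exact F1 ht hp hs c b
  · exact F2 hp hs ht a c
  · rw [perm1]; exact F2 hs ht hp b a
  · exact F2 hp hs ht a c

omit h in
/-- The space of the rows. -/
def rowSpace (D : Set G) (x y : G) : Submodule (ZMod 2) (↥(sheet D x y) → ZMod 2) :=
  Submodule.span (ZMod 2) (Set.range fun p : ↥(sheet D x y) => psi D x y p)

omit h in
/-- A row in the space. -/
noncomputable def row (p : ↥(sheet D x y)) : ↥(rowSpace D x y) :=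
  ⟨psi D x y p, Submodule.subset_span ⟨p, rfl⟩⟩

theorem two_rows_of_mem {w : ↥(sheet D x y) → ZMod 2} (hw : w ∈ rowSpace D x y) :
    IsTwoRows D x y w := by
  have h0 : IsRow D x y 0 := Or.inl rfl
  have add1 : ∀ {u v : ↥(sheet D x y) → ZMod 2}, IsTwoRows D x y u → IsRow D x y v →
      IsTwoRows D x y (u + v) := by
    rintro _ v ⟨u1, u2, hu1, hu2, rfl⟩ hv
    rcases hu1 with rfl | ⟨p, hp, rfl⟩
    · exact ⟨u2, v, hu2, hv, by rw [zero_add]⟩
    rcases hu2 with rfl | ⟨s, hs, rfl⟩
    · exact ⟨_, v, Or.inr ⟨p, hp, rfl⟩, hv, by rw [add_zero]⟩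
    rcases hv with rfl | ⟨t, ht, rfl⟩
    · exact ⟨_, _, Or.inr ⟨p, hp, rfl⟩, Or.inr ⟨s, hs, rfl⟩, add_zero _⟩
    exact three_rows h hp hs ht
  induction hw using Submodule.span_induction with
  | mem u hu =>
    obtain ⟨p, rfl⟩ := hu
    exact ⟨_, 0, Or.inr ⟨p, p.2, rfl⟩, h0, (add_zero _).symm⟩
  | zero => exact ⟨0, 0, h0, h0, (add_zero _).symm⟩
  | add u v _ _ hu hv =>
    obtain ⟨v1, v2, hv1, hv2, rfl⟩ := hv
    rw [← add_assoc]
    exact add1 (add1 hu hv1) hv2
  | smul c u _ hu =>
    rcases (show ∀ c : ZMod 2, c = 0 ∨ c = 1 by decide) c with rfl | rfl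
    · rw [zero_smul]; exact ⟨0, 0, h0, h0, (add_zero _).symm⟩
    · rwa [one_smul]

/-- The coordinates of the sheet in a hermitian space. -/
structure Coords (D : Set G) (x y : G) (m : ℕ) (φ : ↥(sheet D x y) → (Fin m → F4)) : Prop where
  two : 2 ≤ m
  inj : Function.Injective φ
  ne : ∀ p, φ p ≠ 0
  iso : ∀ p, hh (φ p) (φ p) = 0
  onto : ∀ w, w ≠ 0 → hh w w = 0 → ∃ p, φ p = w
  scal : ∀ p s : ↥(sheet D x y),
    proj D x y (p : G) = proj D x y s ↔ ∃ c : F4, φ s = c • φ p
  orth : ∀ p s : ↥(sheet D x y),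
    hh (φ p) (φ s) = 0 ↔ Commute (proj D x y (p : G)) (proj D x y s)
  mate : ∀ p s : ↥(sheet D x y), hh (φ p) (φ s) = 1 ↔ Mat y (p : G) s
  tri : ∀ p s r : ↥(sheet D x y), Mat y (p : G) s → (r : G) = cj (proj D x y (p : G)) s →
    φ p + φ s = φ r

theorem exists_coords' : ∃ (m : ℕ) (φ : ↥(sheet D x y) → (Fin m → F4)), Coords D x y m φ := by
  classical
  have hF := h.toFrame
  -- the evaluation form
  let L : (↥(sheet D x y) →₀ ZMod 2) →ₗ[ZMod 2] ↥(rowSpace D x y) :=
    Finsupp.linearCombination (ZMod 2) row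
  let ev : (↥(sheet D x y) →₀ ZMod 2) →ₗ[ZMod 2] (↥(rowSpace D x y) →ₗ[ZMod 2] ZMod 2) :=
    Finsupp.linearCombination (ZMod 2) fun p =>
      (LinearMap.proj p).comp (rowSpace D x y).subtype
  have hLsurj : Function.Surjective L := by
    intro w
    have hw : (w : ↥(sheet D x y) → ZMod 2) ∈ Submodule.span (ZMod 2)
        (Set.range fun p : ↥(sheet D x y) => psi D x y p) := w.2
    rw [Finsupp.mem_span_range_iff_exists_finsupp] at hw
    obtain ⟨c, hc⟩ := hw
    refine ⟨c, Subtype.ext ?_⟩
    simp only [L, Finsupp.linearCombination_apply, Finsupp.sum, AddSubmonoidClass.coe_finsetSum,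
      Submodule.coe_smul]
    exact hc
  have hev : ∀ (c : ↥(sheet D x y) →₀ ZMod 2) (q : ↥(sheet D x y)),
      ev c (row q) = (L c : ↥(sheet D x y) → ZMod 2) q := by
    intro c q
    induction c using Finsupp.induction_linear with
    | zero => simp
    | add a b ha hb => simp [map_add, ha, hb]
    | single p r =>
      simp [ev, L, Finsupp.linearCombination_single, row, psi_symm hF]
  obtain ⟨σ, hσ⟩ := L.exists_rightInverse_of_surjective (LinearMap.range_eq_top.2 hLsurj)
  let B : ↥(rowSpace D x y) → ↥(rowSpace D x y) → ZMod 2 := fun u v => ev (σ v) u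
  have hBrow : ∀ u p, B u (row p) = (u : ↥(sheet D x y) → ZMod 2) p := by
    intro u p
    obtain ⟨c, rfl⟩ := hLsurj u
    have h1 : ev (σ (row p)) (L c) = ev (Finsupp.single p 1) (L c) := by
      induction c using Finsupp.induction_linear with
      | zero => simp
      | add a b ha hb => simp [map_add, ha, hb]
      | single q r =>
        have e : L (Finsupp.single q r) = r • row q := by simp [L]
        rw [e, map_smul, map_smul, hev, hev]
        have e2 : L (σ (row p)) = row p := LinearMap.congr_fun hσ (row p)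
        have e3 : L (Finsupp.single p 1) = row p := by simp [L]
        rw [e2, e3]
    refine h1.trans ?_
    simp [ev]
  have Badd : ∀ u u' v, B (u + u') v = B u v + B u' v := fun u u' v => map_add (ev (σ v)) u u'
  have Badd' : ∀ u v v', B u (v + v') = B u v + B u v' := fun u v v' => by
    simp only [B, map_add, LinearMap.add_apply]
  have B0 : ∀ u, B u 0 = 0 := fun u => by simp [B]
  have B0' : ∀ v, B 0 v = 0 := fun v => map_zero (ev (σ v))
  have hmem : ∀ v : ↥(rowSpace D x y), v = 0 ∨ (∃ p, v = row p) ∨ ∃ p q, v = row p + row q := by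
    intro v
    obtain ⟨u1, u2, h1, h2, e⟩ := two_rows_of_mem h v.2
    rcases h1 with rfl | ⟨p, hp, rfl⟩ <;> rcases h2 with rfl | ⟨q, hq, rfl⟩
    · exact Or.inl (Subtype.ext (by rw [e, add_zero]; rfl))
    · exact Or.inr (Or.inl ⟨⟨q, hq⟩, Subtype.ext (by rw [e, zero_add]; rfl)⟩)
    · exact Or.inr (Or.inl ⟨⟨p, hp⟩, Subtype.ext (by rw [e, add_zero]; rfl)⟩)
    · exact Or.inr (Or.inr ⟨⟨p, hp⟩, ⟨q, hq⟩, Subtype.ext e⟩)
  have Bsymm : ∀ u v, B u v = B v u := by
    intro u v
    rcases hmem u with rfl | ⟨p, rfl⟩ | ⟨p, q, rfl⟩ <;>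
      rcases hmem v with rfl | ⟨s, rfl⟩ | ⟨s, t, rfl⟩ <;>
      simp only [Badd, Badd', B0, B0', hBrow] <;> simp only [row, psi_symm hF] <;>
      simp only [psi_symm hF p, psi_symm hF q] <;> abel
  -- the rotation of the space
  let J0 : (↥(sheet D x y) → ZMod 2) →ₗ[ZMod 2] (↥(sheet D x y) → ZMod 2) :=
    LinearMap.funLeft (ZMod 2) (ZMod 2) fun t => osub h (osub h t)
  have hosub : ∀ t, osub h (osub h (osub h t)) = t := fun t => Subtype.ext (h.rot t t.2).2.2.2
  have hJ0 : ∀ p : ↥(sheet D x y), J0 (psi D x y p) = psi D x y (o p) := fun p => funext fun t => by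
    show psi D x y p (osub h (osub h t)) = _
    rw [← psi_rot h p (osub h (osub h t)), hosub]
  have hJmem : ∀ w ∈ rowSpace D x y, J0 w ∈ rowSpace D x y := by
    intro w hw
    have : Submodule.map J0 (rowSpace D x y) ≤ rowSpace D x y := by
      rw [rowSpace, Submodule.map_span, Submodule.span_le]
      rintro _ ⟨_, ⟨p, rfl⟩, rfl⟩
      exact Submodule.subset_span ⟨osub h p, (hJ0 p).symm⟩
    exact this ⟨w, hw, rfl⟩
  let J : Module.End (ZMod 2) ↥(rowSpace D x y) := J0.restrict hJmem
  have hJrow : ∀ p, J (row p) = row (osub h p) := fun p => Subtype.ext (hJ0 p)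
  have hJJ : ∀ w, J (J w) = J w + w := by
    intro w
    have key : ∀ p, J (J (row p)) = J (row p) + row p := fun p => by
      rw [hJrow, hJrow]
      refine Subtype.ext ?_
      show psi D x y (o (o p)) = psi D x y (o p) + psi D x y p
      rw [psi_split h p.2, cancel_two]
    rcases hmem w with rfl | ⟨p, rfl⟩ | ⟨p, q, rfl⟩
    · simp
    · exact key p
    · simp only [map_add, key]; abel
  have hBJ : ∀ u v, B (J u) (J v) = B u v := by
    have key : ∀ p q, B (J (row p)) (J (row q)) = B (row p) (row q) := fun p q => by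
      rw [hJrow, hJrow, hBrow, hBrow]
      exact psi_rot h p q
    intro u v
    rcases hmem u with rfl | ⟨p, rfl⟩ | ⟨p, q, rfl⟩ <;>
      rcases hmem v with rfl | ⟨s, rfl⟩ | ⟨s, t, rfl⟩ <;>
      simp only [map_zero, map_add, Badd, Badd', B0, B0', key]
  -- the space over the field with four elements
  have hquad : aeval J quad = 0 := by
    refine LinearMap.ext fun w => ?_
    rw [quad, map_add, map_add, map_one, aeval_X, pow_two, map_mul, aeval_X]
    show J (J w) + J w + w = 0
    rw [hJJ, add_assoc]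
    exact Subtype.ext (funext fun t => CharTwo.add_self_eq_zero ((J w + w).1 t))
  let Φ : F4 →+* Module.End (ZMod 2) ↥(rowSpace D x y) :=
    Ideal.Quotient.lift (Ideal.span {quad}) (aeval J).toRingHom fun a ha => by
      obtain ⟨b, rfl⟩ := Ideal.mem_span_singleton.1 ha
      show aeval J (quad * b) = 0
      rw [map_mul, hquad, zero_mul]
  letI : Module F4 ↥(rowSpace D x y) := Module.compHom _ Φ
  have hmk : ∀ (P : (ZMod 2)[X]) (w : ↥(rowSpace D x y)),
      AdjoinRoot.mk quad P • w = aeval J P w := fun P w => rfl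
  have hom : ∀ w : ↥(rowSpace D x y), om • w = J w := fun w => by
    rw [om, ← AdjoinRoot.mk_X, hmk, aeval_X]
  let of2 : ZMod 2 →+* F4 := algebraMap (ZMod 2) F4
  let H : ↥(rowSpace D x y) → ↥(rowSpace D x y) → F4 := fun u v =>
    of2 (B (J u) v) + om ^ 2 * of2 (B u v)
  have Hadd : ∀ u u' v, H (u + u') v = H u v + H u' v := fun u u' v => by
    simp only [H, map_add, Badd]; ring
  have HJ : ∀ u v, H (J u) v = om * H u v := fun u v => by
    simp only [H, hJJ, Badd, map_add]
    linear_combination (of2 (B (J u) v)) * om_eq - (of2 (B (J u) v)) * (om * two_zero)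
      + (of2 (B u v)) * (- om_cube)
  have Hswap : ∀ u v, H v u = H u v ^ 2 := fun u v => by
    have e1 : B (J v) u = B (J u) v + B u v := by
      have e4 : J (J (J u)) = u := by
        rw [hJJ, hJJ, add_comm (J u) u, add_assoc]
        have : J u + J u = 0 := Subtype.ext (funext fun t => CharTwo.add_self_eq_zero _)
        rw [this, add_zero]
      calc B (J v) u = B (J (J (J u))) (J v) := by rw [e4, Bsymm]
        _ = B (J (J u)) v := hBJ _ _
        _ = B (J u) v + B u v := by rw [hJJ, Badd]
    have sq : ∀ a : ZMod 2, of2 a ^ 2 = of2 a := fun a => by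
      rw [← map_pow]
      exact congrArg of2 ((show ∀ a : ZMod 2, a ^ 2 = a by decide) a)
    simp only [H, e1, Bsymm v u, map_add]
    have e5 : (of2 (B (J u) v) + om ^ 2 * of2 (B u v)) ^ 2
        = of2 (B (J u) v) + om * of2 (B u v) := by
      linear_combination (om ^ 2 * of2 (B (J u) v) * of2 (B u v)) * two_zero + sq (B (J u) v)
        + om ^ 4 * sq (B u v) + (om * of2 (B u v)) * om_cube
    rw [e5]
    linear_combination (of2 (B u v)) * om_eq - (om * of2 (B u v)) * two_zero
  have Hsmul : ∀ (c : F4) u v, H (c • u) v = c * H u v := by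
    intro c u v
    induction c using AdjoinRoot.induction_on with
    | ih P =>
      induction P using Polynomial.induction_on' generalizing u with
      | add P Q hP hQ => rw [map_add, add_smul, Hadd, hP, hQ, add_mul]
      | monomial n a =>
        induction n generalizing u with
        | zero =>
          rw [monomial_zero_left]
          rcases (show ∀ c : ZMod 2, c = 0 ∨ c = 1 by decide) a with rfl | rfl
          · simp [H, B0']
          · simp
        | succ n ih =>
          rw [← monomial_mul_X, map_mul, mul_smul, AdjoinRoot.mk_X, ← om, ih, hom, HJ]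
          ring
  have Hrow : ∀ p q, H (row p) (row q) = of2 (psi D x y (o p) q) + om ^ 2 * of2 (psi D x y p q) :=
    fun p q => by simp only [H, hJrow, hBrow]; rfl
  have hnd : ∀ u, (∀ v, H u v = 0) → u = 0 := by
    intro u hu
    refine Subtype.ext (funext fun p => ?_)
    have h1 := hu (row p)
    simp only [H, hBrow] at h1
    rcases (show ∀ c : ZMod 2, c = 0 ∨ c = 1 by decide) ((u : ↥(sheet D x y) → ZMod 2) p) with e | e
    · exact e
    exfalso
    rw [e, map_one, mul_one] at h1
    rcases (show ∀ c : ZMod 2, c = 0 ∨ c = 1 by decide) ((J u : ↥(sheet D x y) → ZMod 2) p) with e' | e'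
    · rw [e', map_zero, zero_add] at h1; exact om_sq_ne.1 h1
    · rw [e', map_one] at h1
      exact om_sq_ne.2.1 (by linear_combination h1 - two_zero)
  -- coordinates
  haveI : Finite ↥(rowSpace D x y) := inferInstance
  haveI : Module.Finite F4 ↥(rowSpace D x y) := Module.Finite.of_finite
  let Hb : ↥(rowSpace D x y) →ₛₗ[sigma] ↥(rowSpace D x y) →ₗ[F4] F4 :=
    LinearMap.mk₂'ₛₗ sigma (RingHom.id F4) (fun a b => H b a)
      (fun a a' b => by
        rw [Hswap (a + a') b, Hadd, Hswap a b, Hswap a' b]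
        linear_combination (H a b * H a' b) * two_zero)
      (fun c a b => by
        rw [Hswap (c • a) b, Hsmul, Hswap a b, sigma_apply, smul_eq_mul, mul_pow])
      (fun a b b' => Hadd b b' a) (fun c a b => by rw [Hsmul]; rfl)
  set d := Module.finrank F4 ↥(rowSpace D x y) with hd
  obtain ⟨b, hspan, hb⟩ := CfsgLib.Forms.exists_orthonormal_family Hb sigma_ne_id sq_sq
    ⟨fun a b => (Hswap b a).symm⟩ d ⊤ (finrank_top F4 ↥(rowSpace D x y)) (fun a _ ha => hnd a fun v => by
      have e : H v a = 0 := ha v trivial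
      rw [Hswap v a, e, zero_pow two_ne_zero])
  let β := basisOfTopLeSpanOfCardEqFinrank b hspan.ge (Fintype.card_fin _)
  let τ := β.equivFun
  have hβ : ∀ i, β i = b i := fun i => by simp [β]
  have hform : ∀ u v, hh (τ u) (τ v) = H u v := by
    have key : ∀ u j, hh (τ u) (τ (β j)) = H u (β j) := by
      intro u j
      rw [show τ (β j) = Pi.single j 1 from funext fun i => by
        rw [show τ = β.equivFun from rfl, Module.Basis.equivFun_self]; simp [Pi.single_apply, eq_comm],
        hh_single]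
      have e : H u (β j) = Hb (β j) u := rfl
      conv_rhs => rw [e, ← β.sum_equivFun u, map_sum]
      rw [Finset.sum_eq_single j]
      · rw [map_smul, hβ, hb, if_pos rfl, smul_eq_mul, mul_one]
      · intro i _ hij
        rw [map_smul, hβ, hβ, hb, if_neg hij.symm, smul_zero]
      · simp
    intro u v
    have e : H u v = Hb v u := rfl
    rw [e]
    conv_rhs => rw [← β.sum_equivFun v]
    conv_lhs => rw [← β.sum_equivFun v]
    rw [map_sum, LinearMap.map_sum₂]
    have lin : ∀ (f : Fin d → F4) (u : Fin d → F4),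
        hh u (∑ i, f i • τ (β i)) = ∑ i, f i ^ 2 * hh u (τ (β i)) := fun f u => by
      have hadd : ∀ (s : Finset (Fin d)), hh u (∑ i ∈ s, f i • τ (β i)) =
          ∑ i ∈ s, f i ^ 2 * hh u (τ (β i)) := fun s => by
        induction s using Finset.cons_induction with
        | empty => simp [hh_zero_right]
        | cons a s ha ih => rw [Finset.sum_cons, Finset.sum_cons, hh_add_right, hh_smul_right, ih]
      exact hadd _
    simp only [map_smul] at *
    rw [lin]
    refine Finset.sum_congr rfl fun i _ => ?_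
    rw [key, map_smulₛₗ, LinearMap.smul_apply, sigma_apply, smul_eq_mul]
    rfl
  -- the values at rows
  have hpsi : ∀ p q : ↥(sheet D x y), psi D x y p q = 0 ∨ psi D x y p q = 1 := fun p q =>
    (show ∀ c : ZMod 2, c = 0 ∨ c = 1 by decide) _
  have hproj : ∀ p : ↥(sheet D x y), proj D x y (o (p : G)) = proj D x y p := fun p =>
    (h.rot p p.2).2.2.1
  have Horth : ∀ p q : ↥(sheet D x y),
      H (row p) (row q) = 0 ↔ Commute (proj D x y (p : G)) (proj D x y q) := by
    intro p q
    rw [Hrow]
    refine ⟨fun e => ?_, fun hc => ?_⟩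
    · by_contra hc
      have hc' : ¬ Commute (proj D x y (o (p : G))) (proj D x y q) := by rwa [hproj]
      rcases hpsi p q with e1 | e1
      · rw [e1, map_zero, mul_zero, add_zero] at e
        have hm : Mat y (p : G) q := (psi_eq_zero_iff.1 e1).resolve_left hc
        have hno : ¬ Mat y (o (p : G)) q := fun e' => (h.rot p p.2).2.1 (partner_unique hF q.2
          (proj_nbr hF p.2) ⟨(h.rot p p.2).1, hproj p⟩ ⟨p.2, rfl⟩ e' hm)
        rw [psi_one hc' hno, map_one] at e
        exact one_ne_zero e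
      · rw [e1, map_one, mul_one] at e
        rcases hpsi (osub h p) q with e2 | e2
        · rw [show psi D x y (o (p : G)) q = 0 from e2, map_zero, zero_add] at e
          exact om_sq_ne.1 e
        · rw [show psi D x y (o (p : G)) q = 1 from e2, map_one] at e
          exact om_sq_ne.2.1 (by linear_combination e - two_zero)
    · rw [psi_zero (Or.inl hc), psi_zero (Or.inl (by rw [hproj]; exact hc)), map_zero, mul_zero,
        add_zero]
  have Hmate : ∀ p q : ↥(sheet D x y), H (row p) (row q) = 1 ↔ Mat y (p : G) q := by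
    intro p q
    rw [Hrow]
    refine ⟨fun e => ?_, fun hm => ?_⟩
    · rcases hpsi p q with e1 | e1
      · rcases psi_eq_zero_iff.1 e1 with hc | hm
        · rw [e1, psi_zero (Or.inl (by rw [hproj]; exact hc)), map_zero, mul_zero, add_zero] at e
          exact absurd e zero_ne_one
        · exact hm
      · rw [e1, map_one, mul_one] at e
        rcases hpsi (osub h p) q with e2 | e2
        · rw [show psi D x y (o (p : G)) q = 0 from e2, map_zero, zero_add] at e
          exact absurd e om_sq_ne.2.1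
        · rw [show psi D x y (o (p : G)) q = 1 from e2, map_one, add_eq_left] at e
          exact absurd e om_sq_ne.1
    · have hc := proj_not_commute hF p.2 q.2 hm
      have hno : ¬ Mat y (o (p : G)) q := fun e' => (h.rot p p.2).2.1 (partner_unique hF q.2
        (proj_nbr hF p.2) ⟨(h.rot p p.2).1, hproj p⟩ ⟨p.2, rfl⟩ e' hm)
      rw [psi_zero (Or.inr hm), psi_one (by rw [hproj]; exact hc) hno, map_one, map_zero, mul_zero,
        add_zero]
  have Biso : ∀ p : ↥(sheet D x y), H (row p) (row p) = 0 := fun p =>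
    (Horth p p).2 (Commute.refl _)
  have row_inj : Function.Injective (row (D := D) (x := x) (y := y)) := fun p q e =>
    Subtype.ext (psi_injective hF p.2 q.2 (congrArg Subtype.val e))
  have row_ne : ∀ p : ↥(sheet D x y), row p ≠ 0 := fun p e =>
    psi_ne_zero hF p.2 (congrArg Subtype.val e)
  have row_scal : ∀ p s : ↥(sheet D x y),
      proj D x y (p : G) = proj D x y s ↔ ∃ c : F4, row s = c • row p := by
    intro p s
    refine ⟨fun e => ?_, ?_⟩
    · rcases fib_cases h p.2 s.2 e.symm with e' | e' | e'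
      · exact ⟨1, by rw [one_smul, show s = p from Subtype.ext e']⟩
      · exact ⟨om, by rw [hom, hJrow]; exact congrArg row (Subtype.ext e')⟩
      · exact ⟨om * om, by rw [mul_smul, hom, hom, hJrow, hJrow]; exact congrArg row (Subtype.ext e')⟩
    · rintro ⟨c, hc⟩
      rcases cases_four c with rfl | rfl | rfl | rfl
      · rw [zero_smul] at hc; exact absurd hc (row_ne s)
      · rw [one_smul] at hc; rw [row_inj hc]
      · rw [hom, hJrow] at hc; rw [row_inj hc]; exact (hproj p).symm
      · rw [pow_two, mul_smul, hom, hom, hJrow, hJrow] at hc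
        rw [row_inj hc]
        exact (rot_two h p.2).2.2.2.symm
  refine ⟨d, fun p => τ (row p), ?_, fun p q e => row_inj (τ.injective e),
    fun p e => row_ne p (τ.map_eq_zero_iff.1 e), fun p => by rw [hform, Biso], ?_, ?_,
    fun p s => by rw [hform, Horth], fun p s => by rw [hform, Hmate], fun p s r hm hr => ?_⟩
  · obtain ⟨a, ha, a', ha', haa⟩ := nbr_not_clique hF.toSetting hF.hx hF.hy hF.hxy
    obtain ⟨p, hp⟩ : (fib D x y a).Nonempty :=
      Set.nonempty_of_ncard_ne_zero (by rw [ncard_fib hF ha]; omega)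
    obtain ⟨q, hq⟩ : (fib D x y a').Nonempty :=
      Set.nonempty_of_ncard_ne_zero (by rw [ncard_fib hF ha']; omega)
    have hne : hh (τ (row ⟨p, hp.1⟩)) (τ (row ⟨q, hq.1⟩)) ≠ 0 := by
      rw [hform]
      intro e
      refine haa ?_
      have := (Horth _ _).1 e
      rwa [hp.2, hq.2] at this
    have h0 : hh (τ (row ⟨p, hp.1⟩)) (τ (row ⟨p, hp.1⟩)) = 0 := by rw [hform, Biso]
    have hn := row_ne ⟨p, hp.1⟩
    generalize τ (row ⟨p, hp.1⟩) = u at hne h0
    generalize τ (row ⟨q, hq.1⟩) = v at hne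
    by_contra hd2
    have hu : u ≠ 0 := fun e => hne (by rw [e, hh_zero_left])
    refine hu (funext fun i => ?_)
    have e : u i * u i ^ 2 = 0 := by
      rw [hh, Finset.sum_eq_single i (fun j _ hj => absurd (Fin.ext (by omega)) hj) (by simp)] at h0
      exact h0
    exact pow_eq_zero_iff (n := 3) (by norm_num) |>.1 (by linear_combination e)
  · intro w hw hiso
    have hw' : τ.symm w ≠ 0 := fun e => hw (τ.symm.map_eq_zero_iff.1 e)
    have hiso' : H (τ.symm w) (τ.symm w) = 0 := by rw [← hform, τ.apply_symm_apply, hiso]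
    rcases hmem (τ.symm w) with e | ⟨p, e⟩ | ⟨p, q, e⟩
    · exact absurd e hw'
    · exact ⟨p, by rw [← e, τ.apply_symm_apply]⟩
    · rw [e, Hadd, Hswap (row p + row q) (row p), Hswap (row p + row q) (row q), Hadd, Hadd,
        Biso, Biso, Hswap (row p) (row q), zero_add, add_zero, sq_sq] at hiso'
      have hz : psi D x y p q = 0 := by
        rcases cases_four (H (row p) (row q)) with a | a | a | a
        · exact psi_zero (Or.inl ((Horth p q).1 a))
        · exact psi_zero (Or.inr ((Hmate p q).1 a))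
        · exfalso
          rw [a] at hiso'
          exact one_ne_zero (show (1 : F4) = 0 by linear_combination -hiso' + om_eq)
        · exfalso
          rw [a] at hiso'
          exact one_ne_zero (show (1 : F4) = 0 by
            linear_combination -hiso' + om_eq + om * om_cube)
      have hr := isRow_add h p.2 q.2 hz
      rcases hr with hr | ⟨r, hr, hr'⟩
      · exact absurd (e.trans (show row p + row q = 0 from Subtype.ext hr)) hw'
      · exact ⟨⟨r, hr⟩, by
          rw [← show τ.symm w = row ⟨r, hr⟩ from e.trans (show row p + row q = row ⟨r, hr⟩ from Subtype.ext hr'), τ.apply_symm_apply]⟩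
  · intro p s
    rw [row_scal]
    refine exists_congr fun c => ⟨fun e => by rw [e, map_smul], fun e => τ.injective ?_⟩
    rw [map_smul]
    exact e
  · show τ (row p) + τ (row s) = τ (row r)
    rw [← map_add]
    refine congrArg τ (Subtype.ext ?_)
    show psi D x y p + psi D x y s = psi D x y r
    rw [hr]
    exact psi_triangle hF p.2 s.2 hm

omit h in
theorem exists_coords {D : Set G} {x y : G} (hf : Frame D x y) :
    ∃ (m : ℕ) (φ : ↥(sheet D x y) → (Fin m → F4)), Coords D x y m φ := by
  obtain ⟨o, h1, h2⟩ := exists_orientation hf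
  exact exists_coords' { hf with rot := h1, mat := h2 }

end CfsgLib.FischerPolar
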