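import Cfsg.Agent.Lib.ThreeTrans.OddLink

set_option autoImplicit false
set_option linter.unusedSectionVars false

/-! Singular lines of a class of 3-transpositions in which some link has twins that commute. -/

namespace CfsgLib.FischerPolar

open CfsgLib.ThreeTrans

variable {G : Type*} [Group G] {D : Set G}

/-- The hypotheses: a primitive class with commuting twins in a link. -/
structure Setting (D : Set G) : Prop where
  cls : Cfsg.IsThreeTranspositionClass D
  centre : Subgroup.center G = ⊥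
  prim : Cfsg.IsPrimitiveUnderConj D
  same : ∀ u ∈ D, ∀ v ∈ D, CfsgLib.ThreeTransp.SameComm D u v → u = v
  twin : ∃ x ∈ D, ∃ y ∈ link D x, ∃ z ∈ link D x, y ≠ z ∧
    ∀ u ∈ link D x, (Commute y u ↔ Commute z u)
  spread : ∀ x ∈ D, ∃ u ∈ link D x, ∃ v ∈ link D x, ¬ Commute u v

/-- The members commuting with two given elements. -/
def nbr (D : Set G) (a b : G) : Set G := com D a ∩ com D b

/-- The singular line of two commuting members: their double perp. -/
def line (D : Set G) (a b : G) : Set G := {d | d ∈ D ∧ nbr D a b ⊆ com D d}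

theorem mem_nbr {a b e : G} : e ∈ nbr D a b ↔ e ∈ D ∧ Commute a e ∧ Commute b e :=
  ⟨fun h => ⟨h.1.1, h.1.2, h.2.2⟩, fun h => ⟨⟨h.1, h.2.1⟩, ⟨h.1, h.2.2⟩⟩⟩

theorem line_comm (a b : G) : line D a b = line D b a := by
  simp only [line, nbr, Set.inter_comm]

theorem left_mem_line {a b : G} (ha : a ∈ D) : a ∈ line D a b :=
  ⟨ha, fun _ h => h.1⟩

theorem right_mem_line {a b : G} (hb : b ∈ D) : b ∈ line D a b :=
  ⟨hb, fun _ h => h.2⟩

variable [Finite G] (hS : Setting D)

include hS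

theorem Setting.edge : ∃ u ∈ D, ∃ v ∈ D, u ≠ v ∧ Commute u v := by
  obtain ⟨x, hx, y, hy, -⟩ := hS.twin
  exact ⟨x, hx, y, hy.1, hy.2.1.symm, hy.2.2⟩

theorem Setting.nonadj {x : G} (hx : x ∈ D) : ∃ e ∈ D, ¬ Commute x e := by
  by_contra! h
  have hle : Subgroup.closure D ≤ Subgroup.centralizer {x} := (Subgroup.closure_le _).2 fun e he =>
    Subgroup.mem_centralizer_singleton_iff.2 (h e he).eq.symm
  rw [hS.cls.2.2] at hle
  have h1 : x ∈ Subgroup.center G := Subgroup.mem_center_iff.2 fun g =>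
    Subgroup.mem_centralizer_singleton_iff.1 (hle (Subgroup.mem_top g))
  rw [hS.centre, Subgroup.mem_bot] at h1
  exact ne_one hS.cls.1 hx h1

/-- Commuting pairs are all conjugate. -/
theorem Setting.pair {a b c d : G} (ha : a ∈ D) (hb : b ∈ D) (hab : Commute a b) (hne : a ≠ b)
    (hc : c ∈ D) (hd : d ∈ D) (hcd : Commute c d) (hne' : c ≠ d) :
    ∃ g : G, g * a * g⁻¹ = c ∧ g * b * g⁻¹ = d :=
  exists_conj_pair hS.cls hS.prim hS.edge hS.same ha ⟨hb, hne.symm, hab⟩ hc ⟨hd, hne'.symm, hcd⟩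

theorem nbr_conj (g a b : G) :
    (fun e => g * e * g⁻¹) '' nbr D a b = nbr D (g * a * g⁻¹) (g * b * g⁻¹) := by
  have hinj : Function.Injective fun e => g * e * g⁻¹ := fun e f h =>
    mul_left_cancel (mul_right_cancel h)
  rw [nbr, nbr, Set.image_inter hinj, com_conj hS.cls, com_conj hS.cls]

theorem line_conj_mem (g : G) {a b d : G} (hd : d ∈ line D a b) :
    g * d * g⁻¹ ∈ line D (g * a * g⁻¹) (g * b * g⁻¹) := by
  refine ⟨CfsgLib.ThreeTransp.class_conj_mem hS.cls g hd.1, ?_⟩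
  rw [← nbr_conj hS, ← com_conj hS.cls]
  exact Set.image_mono hd.2

omit [Finite G] in
theorem commute_left {a b d : G} (ha : a ∈ D) (hab : Commute a b) (hd : d ∈ line D a b) :
    Commute d a :=
  (hd.2 (mem_nbr.2 ⟨ha, Commute.refl a, hab.symm⟩)).2

omit [Finite G] in
theorem commute_right {a b d : G} (hb : b ∈ D) (hab : Commute a b) (hd : d ∈ line D a b) :
    Commute d b :=
  (hd.2 (mem_nbr.2 ⟨hb, hab, Commute.refl b⟩)).2

theorem nbr_eq_left {a b d : G} (ha : a ∈ D) (hb : b ∈ D) (hab : Commute a b) (hne : a ≠ b)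
    (hd : d ∈ line D a b) (hda : d ≠ a) : nbr D a d = nbr D a b := by
  obtain ⟨g, hga, hgb⟩ := hS.pair ha hb hab hne ha hd.1 (commute_left hS ha hab hd).symm hda.symm
  have h1 : (nbr D a d).ncard = (nbr D a b).ncard := by
    have h := congrArg Set.ncard (nbr_conj hS g a b)
    rw [hga, hgb, Set.ncard_image_of_injective _ fun e f h => mul_left_cancel (mul_right_cancel h)] at h
    exact h.symm
  exact (Set.eq_of_subset_of_ncard_le (t := nbr D a d) (fun e he => ⟨he.1, hd.2 he⟩) h1.le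
    (Set.toFinite _)).symm

theorem nbr_eq {a b c d : G} (ha : a ∈ D) (hb : b ∈ D) (hab : Commute a b) (hne : a ≠ b)
    (hc : c ∈ line D a b) (hd : d ∈ line D a b) (hcd : c ≠ d) : nbr D c d = nbr D a b := by
  by_cases hca : c = a
  · subst hca; exact nbr_eq_left hS ha hb hab hne hd hcd.symm
  · have h1 := nbr_eq_left hS ha hb hab hne hc hca
    have hd' : d ∈ line D a c := ⟨hd.1, h1.le.trans hd.2⟩
    have hac : Commute a c := (commute_left hS ha hab hc).symm
    have h2 : nbr D c d = nbr D c a :=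
      nbr_eq_left hS hc.1 ha hac.symm hca (by rwa [line_comm]) hcd.symm
    rw [h2, nbr, Set.inter_comm]
    exact h1

theorem line_eq {a b c d : G} (ha : a ∈ D) (hb : b ∈ D) (hab : Commute a b) (hne : a ≠ b)
    (hc : c ∈ line D a b) (hd : d ∈ line D a b) (hcd : c ≠ d) : line D c d = line D a b := by
  simp only [line, nbr_eq hS ha hb hab hne hc hd hcd]

theorem commute_of_mem_line {a b c d : G} (ha : a ∈ D) (hb : b ∈ D) (hab : Commute a b)
    (hne : a ≠ b) (hc : c ∈ line D a b) (hd : d ∈ line D a b) : Commute c d := by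
  by_cases hca : c = a
  · subst hca; exact (commute_left hS ha hab hd).symm
  have h1 := nbr_eq_left hS ha hb hab hne hc hca
  have h2 : c ∈ nbr D a b := by
    rw [← h1]
    exact mem_nbr.2 ⟨hc.1, (commute_left hS ha hab hc).symm, Commute.refl c⟩
  exact (hd.2 h2).2.symm

/-- A member commuting with two points of a line commutes with all of it. -/
theorem commute_line {a b c d e : G} (ha : a ∈ D) (hb : b ∈ D) (hab : Commute a b) (hne : a ≠ b)
    (hc : c ∈ line D a b) (hd : d ∈ line D a b) (hcd : c ≠ d) (he : e ∈ D) (hec : Commute e c)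
    (hed : Commute e d) {f : G} (hf : f ∈ line D a b) : Commute e f :=
  (hf.2 (nbr_eq hS ha hb hab hne hc hd hcd ▸ mem_nbr.2 ⟨he, hec.symm, hed.symm⟩)).2.symm

/-- Every line has a third point. -/
theorem exists_third {a b : G} (ha : a ∈ D) (hb : b ∈ D) (hab : Commute a b) (hne : a ≠ b) :
    ∃ c ∈ line D a b, c ≠ a ∧ c ≠ b := by
  obtain ⟨x, hx, y, hy, z, hz, hyz, hall⟩ := hS.twin
  have hzl : z ∈ line D x y := by
    refine ⟨hz.1, fun e he => ?_⟩
    obtain ⟨he, hxe, hye⟩ := mem_nbr.1 he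
    refine ⟨he, ?_⟩
    by_cases hex : e = x
    · subst hex; exact hz.2.2.symm
    · exact (hall e ⟨he, hex, hxe⟩).1 hye
  obtain ⟨g, hgx, hgy⟩ := hS.pair hx hy.1 hy.2.2 hy.2.1.symm ha hb hab hne
  refine ⟨g * z * g⁻¹, ?_, fun h => hz.2.1 ?_, fun h => hyz ?_⟩
  · rw [← hgx, ← hgy]; exact line_conj_mem hS g hzl
  · rw [← hgx] at h; exact mul_left_cancel (mul_right_cancel h)
  · rw [← hgy] at h; exact (mul_left_cancel (mul_right_cancel h)).symm

theorem ncard_line {a b c d : G} (ha : a ∈ D) (hb : b ∈ D) (hab : Commute a b) (hne : a ≠ b)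
    (hc : c ∈ D) (hd : d ∈ D) (hcd : Commute c d) (hne' : c ≠ d) :
    (line D a b).ncard = (line D c d).ncard := by
  obtain ⟨g, hga, hgb⟩ := hS.pair ha hb hab hne hc hd hcd hne'
  refine Set.BijOn.ncard_eq (f := fun e => g * e * g⁻¹) ⟨fun e he => ?_, fun e _ f _ h =>
    mul_left_cancel (mul_right_cancel h), fun e he => ⟨g⁻¹ * e * g⁻¹⁻¹, ?_, by simp [mul_assoc]⟩⟩
  · rw [← hga, ← hgb]; exact line_conj_mem hS g he
  · have h1 := line_conj_mem hS g⁻¹ he
    rwa [← hga, ← hgb, conj_conj_eq, conj_conj_eq, inv_mul_cancel, one_mul, one_mul, inv_one,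
      mul_one, mul_one] at h1

end CfsgLib.FischerPolar
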