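import Cfsg.Agent.Lib.FischerPolar.Herm

set_option autoImplicit false
set_option linter.unusedSectionVars false
set_option linter.unusedVariables false
set_option linter.unusedSimpArgs false

/-! The vectors of the members commuting with one member of the triple. -/

namespace CfsgLib.FischerPolar

open CfsgLib.ThreeTrans

variable {m : ℕ}

/-- A vector of the model: a hyperbolic plane and the space of the cover, in orthonormal coordinates. -/
noncomputable def mk (a b : F4) (w : Fin m → F4) : Fin (m + 2) → F4 :=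
  Fin.cons (a * om ^ 2 + b) (Fin.cons (a * om + b) w)

/-- The first coordinate on the hyperbolic plane. -/
noncomputable def ca (v : Fin (m + 2) → F4) : F4 := v 0 + v 1

/-- The second coordinate on the hyperbolic plane. -/
noncomputable def cb (v : Fin (m + 2) → F4) : F4 := v 1 + ca v * om

/-- The component in the space of the cover. -/
def cw (v : Fin (m + 2) → F4) : Fin m → F4 := fun i => v i.succ.succ

theorem ca_mk (a b : F4) (w : Fin m → F4) : ca (mk a b w) = a := by
  simp only [ca, mk, Fin.cons_zero, Fin.cons_one]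
  linear_combination a * om_eq + (b - a) * two_zero

theorem cb_mk (a b : F4) (w : Fin m → F4) : cb (mk a b w) = b := by
  rw [cb, ca_mk]
  simp only [mk, Fin.cons_zero, Fin.cons_one]
  linear_combination a * om * two_zero

theorem cw_mk (a b : F4) (w : Fin m → F4) : cw (mk a b w) = w := by
  funext i
  simp [cw, mk]

theorem mk_eta (v : Fin (m + 2) → F4) : mk (ca v) (cb v) (cw v) = v := by
  funext i
  refine Fin.cases ?_ (fun j => Fin.cases ?_ (fun k => ?_) j) i
  · simp only [mk, cb, ca, Fin.cons_zero]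
    linear_combination (v 0 + v 1) * om_eq + (-(v 0)) * two_zero
  · rw [mk, Fin.cons_succ, Fin.cons_zero, Fin.succ_zero_eq_one]
    simp only [cb, ca]
    linear_combination ((v 0 + v 1) * om) * two_zero
  · simp [mk, cw]

theorem mk_inj {a b a' b' : F4} {w w' : Fin m → F4} (e : mk a b w = mk a' b' w') :
    a = a' ∧ b = b' ∧ w = w' :=
  ⟨by simpa [ca_mk] using congrArg ca e, by simpa [cb_mk] using congrArg cb e,
    by simpa [cw_mk] using congrArg cw e⟩

theorem mk_add (a b a' b' : F4) (w w' : Fin m → F4) :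
    mk a b w + mk a' b' w' = mk (a + a') (b + b') (w + w') := by
  funext i
  refine Fin.cases ?_ (fun j => Fin.cases ?_ (fun k => ?_) j) i <;> simp [mk] <;> ring

theorem mk_smul (c a b : F4) (w : Fin m → F4) : c • mk a b w = mk (c * a) (c * b) (c • w) := by
  funext i
  refine Fin.cases ?_ (fun j => Fin.cases ?_ (fun k => ?_) j) i <;> simp [mk] <;> ring

theorem hh_mk (a b a' b' : F4) (w w' : Fin m → F4) :
    hh (mk a b w) (mk a' b' w') = a * b' ^ 2 + b * a' ^ 2 + hh w w' := by
  rw [hh, Fin.sum_univ_succ, Fin.sum_univ_succ, ← add_assoc]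
  simp only [mk, Fin.cons_zero, Fin.cons_succ, hh]
  congr 1
  linear_combination (a * b' ^ 2 + b * a' ^ 2) * om_eq
    + (a * a' ^ 2 * (om ^ 3 + 2) + b * a' ^ 2 * om) * om_cube
    + (a * a' ^ 2 - a * b' ^ 2 - b * a' ^ 2 + b * b' ^ 2
      + a' * b' * ((a * om ^ 2 + b) * om ^ 2 + (a * om + b) * om)) * two_zero

/-- The rotation of the model. -/
noncomputable def rotV (v : Fin (m + 2) → F4) : Fin (m + 2) → F4 :=
  mk (cb v) (ca v + cb v) (cw v)

theorem rotV_mk (a b : F4) (w : Fin m → F4) : rotV (mk a b w) = mk b (a + b) w := by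
  rw [rotV, ca_mk, cb_mk, cw_mk]

theorem rotV_cube (v : Fin (m + 2) → F4) : rotV (rotV (rotV v)) = v := by
  conv_lhs => rw [← mk_eta v, rotV_mk, rotV_mk, rotV_mk]
  conv_rhs => rw [← mk_eta v]
  congr 1
  · linear_combination (cb v) * two_zero
  · linear_combination (ca v + cb v) * two_zero

theorem hh_rotV (u v : Fin (m + 2) → F4) : hh (rotV u) (rotV v) = hh u v := by
  conv_rhs => rw [← mk_eta u, ← mk_eta v]
  rw [rotV, rotV, hh_mk, hh_mk]
  linear_combination (cb u * cb v ^ 2 + cb u * ca v * cb v) * two_zero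

theorem rotV_smul (c : F4) (v : Fin (m + 2) → F4) : rotV (c • v) = c • rotV v := by
  conv_lhs => rw [← mk_eta v, mk_smul, rotV_mk]
  rw [rotV, mk_smul]
  congr 1
  ring

/-- The transvection with centre `v`. -/
noncomputable def tvec (v u : Fin m → F4) : Fin m → F4 := u + hh u v • v

theorem hh_tvec {v : Fin m → F4} (hv : hh v v = 0) (u u' : Fin m → F4) :
    hh (tvec v u) (tvec v u') = hh u u' := by
  simp only [tvec, hh_add_left, hh_add_right, hh_smul_left, hh_smul_right, hv]
  rw [hh_swap u' v]
  linear_combination (hh u v * hh u' v ^ 2) * two_zero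

theorem tvec_tvec {v : Fin m → F4} (hv : hh v v = 0) (u : Fin m → F4) : tvec v (tvec v u) = u := by
  simp only [tvec, hh_add_left, hh_smul_left, hv, mul_zero, add_zero]
  funext i
  simp only [Pi.add_apply, Pi.smul_apply, smul_eq_mul]
  linear_combination (hh u v * v i) * two_zero

theorem hh_tvec_left {v : Fin m → F4} (hv : hh v v = 0) (u u' : Fin m → F4) :
    hh (tvec v u) u' = hh u (tvec v u') := by
  conv_lhs => rw [← tvec_tvec hv u']
  exact hh_tvec hv u _

theorem rotV_tvec (v u : Fin (m + 2) → F4) : rotV (tvec v u) = tvec (rotV v) (rotV u) := by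
  rw [tvec, tvec, hh_rotV]
  generalize hh u v = c
  conv_lhs => rw [← mk_eta v, ← mk_eta u, mk_smul, mk_add, rotV_mk]
  rw [rotV, rotV, mk_smul, mk_add]
  congr 1
  ring

variable {G : Type*} [Group G] {D : Set G} [Finite G]

/-- The members commuting with a member of the triple. -/
def Near (D : Set G) (x y e : G) : Prop :=
  e ∈ D ∧ (Commute e x ∨ Commute e y ∨ Commute e (cj x y))

open Classical in
/-- The coordinates extended by zero. -/
noncomputable def cof {x y : G} (φ : ↥(sheet D x y) → (Fin m → F4)) (e : G) : Fin m → F4 :=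
  if he : e ∈ sheet D x y then φ ⟨e, he⟩ else 0

open Classical in
/-- The vector of a member commuting with `x`. -/
noncomputable def vec0 {x y : G} (φ : ↥(sheet D x y) → (Fin m → F4)) (e : G) :
    Fin (m + 2) → F4 :=
  if e = x then mk 1 0 0
  else if Commute e y then mk 0 0 (cof φ (Classical.epsilon fun p => p ∈ fib D x y e))
  else mk 1 0 (cof φ e)

open Classical in
/-- The vector of a near member. -/
noncomputable def vec {x y : G} (φ : ↥(sheet D x y) → (Fin m → F4)) (e : G) :
    Fin (m + 2) → F4 :=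
  if Commute e x then vec0 φ e
  else if Commute e y then rotV (vec0 φ (rho x y (rho x y e)))
  else rotV (rotV (vec0 φ (rho x y e)))

variable {x y : G} (h : Frame D x y) {φ : ↥(sheet D x y) → (Fin m → F4)}
  (hc : Coords D x y m φ)

include h

theorem commute_third_of {e : G} (h1 : Commute e x) (h2 : Commute e (cj x y)) : Commute e y := by
  have := commute_cj h1 h2
  rwa [cj_cj h.cls h.hx] at this

theorem commute_third_of' {e : G} (h1 : Commute e y) (h2 : Commute e (cj x y)) : Commute e x := by
  rw [third_eq h] at h2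
  have := commute_cj h1 h2
  rwa [cj_cj h.cls h.hy] at this

theorem rho_commute_left {e : G} : Commute (rho x y e) x ↔ Commute e (cj x y) := by
  have := commute_rho_iff h e (cj x y)
  rwa [rho_third h] at this

theorem rho_commute_right {e : G} : Commute (rho x y e) y ↔ Commute e x := by
  have := commute_rho_iff h e x
  rwa [rho_left h] at this

theorem rho_commute_third {e : G} : Commute (rho x y e) (cj x y) ↔ Commute e y := by
  have := commute_rho_iff h e y
  rwa [rho_right h] at this

theorem cases_com {e : G} (he : e ∈ D) (hex : Commute e x) :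
    e = x ∨ e ∈ nbr D x y ∨ e ∈ sheet D x y := by
  by_cases h1 : e = x
  · exact Or.inl h1
  by_cases h2 : Commute e y
  · exact Or.inr (Or.inl (mem_nbr.2 ⟨he, hex.symm, h2.symm⟩))
  · exact Or.inr (Or.inr ⟨he, h1, hex.symm, fun e' => h2 e'.symm⟩)

theorem near_rho {e : G} (he : Near D x y e) : Near D x y (rho x y e) := by
  obtain ⟨he, h1 | h1 | h1⟩ := he
  · exact ⟨rho_mem h he, Or.inr (Or.inl ((rho_commute_right h).2 h1))⟩
  · exact ⟨rho_mem h he, Or.inr (Or.inr ((rho_commute_third h).2 h1))⟩
  · exact ⟨rho_mem h he, Or.inl ((rho_commute_left h).2 h1)⟩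

theorem base_mem {a : G} (ha : a ∈ nbr D x y) :
    (Classical.epsilon fun p => p ∈ fib D x y a) ∈ fib D x y a :=
  Classical.epsilon_spec (p := fun p => p ∈ fib D x y a)
    (Set.nonempty_of_ncard_ne_zero (by rw [ncard_fib h ha]; omega) : (fib D x y a).Nonempty)

omit h in
theorem cof_eq {e : G} (he : e ∈ sheet D x y) : cof φ e = φ ⟨e, he⟩ := by
  classical
  exact dif_pos he

theorem vec_left : vec φ x = mk 1 0 0 := by
  rw [vec, if_pos (Commute.refl x), vec0, if_pos rfl]

theorem vec_sheet {p : G} (hp : p ∈ sheet D x y) : vec φ p = mk 1 0 (φ ⟨p, hp⟩) := by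
  rw [vec, if_pos hp.2.2.1.symm, vec0, if_neg hp.2.1, if_neg fun e => hp.2.2.2 e.symm, cof_eq hp]

theorem exists_vec_nbr {a : G} (ha : a ∈ nbr D x y) :
    ∃ p : ↥(sheet D x y), proj D x y (p : G) = a ∧ vec φ a = mk 0 0 (φ p) := by
  obtain ⟨h1, h2⟩ := base_mem h ha
  refine ⟨⟨_, h1⟩, h2, ?_⟩
  rw [vec, if_pos (mem_nbr.1 ha).2.1.symm, vec0, if_neg (mem_link_of_nbr h.toSetting h.hxy ha).2.1,
    if_pos (mem_nbr.1 ha).2.2.symm, cof_eq h1]

theorem vec_rho {e : G} (he : Near D x y e) : vec φ (rho x y e) = rotV (vec φ e) := by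
  classical
  obtain ⟨heD, hor⟩ := he
  by_cases hex : Commute e x
  · by_cases hey : Commute e y
    · rw [rho_fix h hex.symm hey.symm]
      obtain ⟨p, -, hp⟩ := exists_vec_nbr h (φ := φ) (mem_nbr.2 ⟨heD, hex.symm, hey.symm⟩)
      rw [hp, rotV_mk, add_zero]
    · have hez : ¬ Commute e (cj x y) := fun e' => hey (commute_third_of h hex e')
      rw [vec, if_neg fun e' => hez ((rho_commute_left h).1 e'),
        if_pos ((rho_commute_right h).2 hex), rho_cube h, vec, if_pos hex]
  · have h1 : ¬ Commute (rho x y e) y := fun e' => hex ((rho_commute_right h).1 e')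
    by_cases hey : Commute e y
    · have hez : ¬ Commute e (cj x y) := fun e' => hex (commute_third_of' h hey e')
      rw [vec, if_neg fun e' => hez ((rho_commute_left h).1 e'), if_neg h1, vec, if_neg hex,
        if_pos hey]
    · have hez : Commute e (cj x y) := (hor.resolve_left hex).resolve_left hey
      rw [vec, if_pos ((rho_commute_left h).2 hez)]
      conv_rhs => rw [vec, if_neg hex, if_neg hey, rotV_cube]

theorem near_cases {e : G} (he : Near D x y e) :
    Commute e x ∨ (∃ t ∈ D, Commute t x ∧ e = rho x y t) ∨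
      ∃ t ∈ D, Commute t x ∧ e = rho x y (rho x y t) := by
  obtain ⟨heD, h1 | h1 | h1⟩ := he
  · exact Or.inl h1
  · refine Or.inr (Or.inl ⟨_, rho_mem h (rho_mem h heD), ?_, (rho_cube h e).symm⟩)
    rw [rho_commute_left h, rho_commute_third h]; exact h1
  · refine Or.inr (Or.inr ⟨_, rho_mem h heD, (rho_commute_left h).2 h1, (rho_cube h e).symm⟩)

theorem near_of_com {t : G} (ht : t ∈ D) (htx : Commute t x) : Near D x y t := ⟨ht, Or.inl htx⟩

include hc

theorem commute_iff_com {u v : G} (hu : u ∈ D) (hux : Commute u x) (hv : v ∈ D)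
    (hvx : Commute v x) : Commute u v ↔ hh (vec φ u) (vec φ v) = 0 := by
  rcases cases_com h hu hux with rfl | hu' | hu' <;> rcases cases_com h hv hvx with rfl | hv' | hv'
  · simp [vec_left h, hh_mk, hh_zero_left]
  · obtain ⟨q, -, hq⟩ := exists_vec_nbr h (φ := φ) hv'
    simp [vec_left h, hq, hh_mk, hh_zero_left, hvx.symm]
  · simp [vec_left h, vec_sheet h hv', hh_mk, hh_zero_left, hvx.symm]
  · obtain ⟨q, -, hq⟩ := exists_vec_nbr h (φ := φ) hu'
    simp [vec_left h, hq, hh_mk, hh_zero_right, hux]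
  · obtain ⟨p, hp', hp⟩ := exists_vec_nbr h (φ := φ) hu'
    obtain ⟨q, hq', hq⟩ := exists_vec_nbr h (φ := φ) hv'
    simp [hp, hq, hh_mk, hc.orth, hp', hq']
  · obtain ⟨p, hp', hp⟩ := exists_vec_nbr h (φ := φ) hu'
    simp [hp, vec_sheet h hv', hh_mk, hc.orth, hp']
    exact commute_proj h hv' hu hux
  · simp [vec_left h, vec_sheet h hu', hh_mk, hh_zero_right, hux]
  · obtain ⟨q, hq', hq⟩ := exists_vec_nbr h (φ := φ) hv'
    simp [hq, vec_sheet h hu', hh_mk, hc.orth, hq']
    rw [Commute.symm_iff, commute_proj h hu' hv hvx, Commute.symm_iff]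
  · simp [vec_sheet h hu', vec_sheet h hv', hh_mk, hc.orth]
    exact commute_iff_proj h hu' hv'

theorem commute_com_rho {u t : G} (hu : u ∈ D) (hux : Commute u x) (ht : t ∈ D)
    (htx : Commute t x) : (Commute u (rho x y t) ↔ hh (vec φ u) (rotV (vec φ t)) = 0) ∧
      (Commute u (rho x y (rho x y t)) ↔ hh (vec φ u) (rotV (rotV (vec φ t))) = 0) := by
  by_cases htN : t ∈ nbr D x y
  · obtain ⟨-, a, b⟩ := mem_nbr.1 htN
    obtain ⟨q, -, hq⟩ := exists_vec_nbr h (φ := φ) htN
    have e : rotV (vec φ t) = vec φ t := by rw [hq, rotV_mk, add_zero]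
    rw [rho_fix h a b, rho_fix h a b, e, e]
    exact ⟨commute_iff_com h hc hu hux ht htx, commute_iff_com h hc hu hux ht htx⟩
  by_cases huN : u ∈ nbr D x y
  · obtain ⟨p, -, hp⟩ := exists_vec_nbr h (φ := φ) huN
    have e : rotV (vec φ u) = vec φ u := by rw [hp, rotV_mk, add_zero]
    have e1 : hh (vec φ u) (rotV (vec φ t)) = hh (vec φ u) (vec φ t) := by
      conv_lhs => rw [← e, hh_rotV]
    have e2 : hh (vec φ u) (rotV (rotV (vec φ t))) = hh (vec φ u) (vec φ t) := by
      conv_lhs => rw [← e, hh_rotV, ← e, hh_rotV]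
    have k : ∀ t, Commute u (rho x y t) ↔ Commute u t := fun t => by
      rw [Commute.symm_iff, commute_rho_nbr h huN, Commute.symm_iff]
    rw [k, k, k, e1, e2]
    exact ⟨commute_iff_com h hc hu hux ht htx, commute_iff_com h hc hu hux ht htx⟩
  have hy' : ¬ Commute x y := h.hxy
  have hz' : ¬ Commute x (cj x y) := third_not_left h
  have ht' := (cases_com h ht htx).imp id fun e => e.resolve_left htN
  rcases (cases_com h hu hux).imp id (fun e => e.resolve_left huN) with rfl | hu'
  · rcases ht' with rfl | ht'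
    · rw [rho_left h, rho_right h, vec_left h, rotV_mk, rotV_mk, hh_mk, hh_mk]
      constructor
      · simp [hy', hh_zero_left]
      · simp [hz', hh_zero_left, two_zero]
    · rw [vec_left h, vec_sheet h ht', rotV_mk, rotV_mk, hh_mk, hh_mk]
      constructor
      · simp only [Commute.symm_iff (a := u), rho_commute_left h]
        simp [hh_zero_left, sheet_third h ht']
      · rw [Commute.symm_iff, rho_commute_left h, rho_commute_third h]
        simp [hh_zero_left, two_zero, show ¬ Commute t y from fun e => ht'.2.2.2 e.symm]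
  · rcases ht' with rfl | ht'
    · rw [rho_left h, rho_right h, vec_left h, vec_sheet h hu', rotV_mk, rotV_mk, hh_mk, hh_mk]
      constructor
      · simp [hh_zero_right, show ¬ Commute u y from fun e => hu'.2.2.2 e.symm]
      · simp [hh_zero_right, two_zero, sheet_third h hu']
    · rw [vec_sheet h hu', vec_sheet h ht', rotV_mk, rotV_mk, hh_mk, hh_mk]
      have key : ∀ {p s : ↥(sheet D x y)}, (1 : F4) + hh (φ p) (φ s) = 0 ↔ Mat y (p : G) s := by
        intro p s
        rw [← hc.mate]
        constructor <;> intro e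
        · linear_combination e - two_zero
        · rw [e]; exact add_self 1
      constructor
      · rw [← mat_iff_rho h hu'.2.2.1, ← key (p := ⟨u, hu'⟩) (s := ⟨t, ht'⟩)]
        simp
      · have e : Commute u (rho x y (rho x y t)) ↔ Mat y t u := by
          rw [mat_iff_rho h ht'.2.2.1, ← commute_rho_iff h u, rho_cube h, Commute.symm_iff]
        rw [e]
        have k2 := key (p := ⟨t, ht'⟩) (s := ⟨u, hu'⟩)
        rw [← k2]
        have sw := hh_swap (φ ⟨u, hu'⟩) (φ ⟨t, ht'⟩)
        rw [sw]
        simp only [zero_add, add_zero, zero_mul, mul_one, one_mul, one_pow]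
        constructor <;> intro e'
        · have e2 : hh (φ ⟨u, hu'⟩) (φ ⟨t, ht'⟩) ^ 2 = 1 := by linear_combination e' - two_zero
          rw [show hh (φ ⟨u, hu'⟩) (φ ⟨t, ht'⟩) = 1 from by rw [← sq_sq (hh _ _), e2, one_pow]]
          linear_combination two_zero
        · have e2 : hh (φ ⟨u, hu'⟩) (φ ⟨t, ht'⟩) = 1 := by linear_combination e' - two_zero
          rw [e2]; linear_combination two_zero

theorem commute_iff_near {u v : G} (hu : Near D x y u) (hv : Near D x y v) :
    Commute u v ↔ hh (vec φ u) (vec φ v) = 0 := by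
  have base : ∀ {u v : G}, u ∈ D → Commute u x → Near D x y v →
      (Commute u v ↔ hh (vec φ u) (vec φ v) = 0) := by
    intro u v hu hux hv
    rcases near_cases h hv with hvx | ⟨t, ht, htx, rfl⟩ | ⟨t, ht, htx, rfl⟩
    · exact commute_iff_com h hc hu hux hv.1 hvx
    · rw [vec_rho h (near_of_com h ht htx)]
      exact (commute_com_rho h hc hu hux ht htx).1
    · rw [vec_rho h (near_rho h (near_of_com h ht htx)), vec_rho h (near_of_com h ht htx)]
      exact (commute_com_rho h hc hu hux ht htx).2
  rcases near_cases h hu with hux | ⟨t, ht, htx, rfl⟩ | ⟨t, ht, htx, rfl⟩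
  · exact base hu.1 hux hv
  · have hv' := near_rho h (near_rho h hv)
    rw [← rho_cube h v, commute_rho_iff h, vec_rho h (near_of_com h ht htx), vec_rho h hv', hh_rotV]
    exact base ht htx hv'
  · have hv' := near_rho h hv
    have ht' := near_of_com h ht htx
    rw [← rho_cube h v, commute_rho_iff h, commute_rho_iff h, vec_rho h (near_rho h ht'),
      vec_rho h ht', vec_rho h (near_rho h hv'), vec_rho h hv', hh_rotV, hh_rotV]
    exact base ht htx hv'

theorem vec_iso {u : G} (hu : Near D x y u) : hh (vec φ u) (vec φ u) = 0 :=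
  (commute_iff_near h hc hu hu).1 (Commute.refl u)

theorem vec_ne_zero {u : G} (hu : Near D x y u) : vec φ u ≠ 0 := by
  have base : ∀ {u : G}, u ∈ D → Commute u x → vec φ u ≠ 0 := by
    intro u hu hux e
    have z : (0 : Fin (m + 2) → F4) = mk 0 0 (0 : Fin m → F4) := by
      conv_lhs => rw [← mk_eta (0 : Fin (m + 2) → F4)]
      have za : ca (0 : Fin (m + 2) → F4) = 0 := by simp [ca]
      have zb : cb (0 : Fin (m + 2) → F4) = 0 := by simp [cb, za]
      rw [za, zb, show cw (0 : Fin (m + 2) → F4) = (0 : Fin m → F4) from rfl]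
    rw [z] at e
    rcases cases_com h hu hux with rfl | hu' | hu'
    · rw [vec_left h] at e; exact one_ne_zero (mk_inj e).1
    · obtain ⟨p, -, hp⟩ := exists_vec_nbr h (φ := φ) hu'
      rw [hp] at e; exact hc.ne p (mk_inj e).2.2
    · rw [vec_sheet h hu'] at e; exact one_ne_zero (mk_inj e).1
  have rot0 : ∀ {v : Fin (m + 2) → F4}, v ≠ 0 → rotV v ≠ 0 := fun {v} hv e => hv (by
    have e3 := rotV_cube v
    have z : rotV (0 : Fin (m + 2) → F4) = 0 := by
      have := rotV_smul (m := m) 0 0
      rwa [zero_smul, zero_smul] at this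
    rw [← e3, e, z, z])
  rcases near_cases h hu with hux | ⟨t, ht, htx, rfl⟩ | ⟨t, ht, htx, rfl⟩
  · exact base hu.1 hux
  · rw [vec_rho h (near_of_com h ht htx)]; exact rot0 (base ht htx)
  · rw [vec_rho h (near_rho h (near_of_com h ht htx)), vec_rho h (near_of_com h ht htx)]
    exact rot0 (rot0 (base ht htx))

theorem vec_injective {u v : G} (hu : Near D x y u) (hv : Near D x y v) {c : F4}
    (e : vec φ v = c • vec φ u) : u = v := by
  have base : ∀ {u v : G}, u ∈ D → Commute u x → Near D x y v → vec φ v = c • vec φ u → u = v := by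
    intro u v hu hux hv e
    have hcne : c ≠ 0 := fun e0 => vec_ne_zero h hc hv (by rw [e, e0, zero_smul])
    have hvx : Commute v x := (commute_iff_near h hc hv (near_of_com h h.hx (Commute.refl x))).2 (by
      rw [e, hh_smul_left, (commute_iff_near h hc (near_of_com h hu hux)
        (near_of_com h h.hx (Commute.refl x))).1 hux, mul_zero])
    rcases cases_com h hu hux with e1 | hu' | hu' <;> rcases cases_com h hv.1 hvx with e2 | hv' | hv'
    · rw [e1, e2]
    · subst e1
      obtain ⟨q, -, hq⟩ := exists_vec_nbr h (φ := φ) hv'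
      rw [vec_left h, hq, mk_smul] at e
      exact absurd ((mk_inj e).1.symm.trans (rfl : (0 : F4) = 0)) (by simpa using hcne)
    · subst e1
      rw [vec_left h, vec_sheet h hv', mk_smul, smul_zero] at e
      exact absurd (mk_inj e).2.2 (hc.ne _)
    · subst e2
      obtain ⟨p, -, hp⟩ := exists_vec_nbr h (φ := φ) hu'
      rw [vec_left h, hp, mk_smul, mul_zero] at e
      exact absurd (mk_inj e).1 one_ne_zero
    · obtain ⟨p, hp', hp⟩ := exists_vec_nbr h (φ := φ) hu'
      obtain ⟨q, hq', hq⟩ := exists_vec_nbr h (φ := φ) hv'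
      rw [hp, hq, mk_smul] at e
      rw [← hp', ← hq']
      exact (hc.scal p q).2 ⟨c, (mk_inj e).2.2⟩
    · obtain ⟨p, -, hp⟩ := exists_vec_nbr h (φ := φ) hu'
      rw [hp, vec_sheet h hv', mk_smul, mul_zero] at e
      exact absurd (mk_inj e).1 one_ne_zero
    · subst e2
      rw [vec_left h, vec_sheet h hu', mk_smul] at e
      exact absurd (mk_inj e).2.2.symm (smul_ne_zero hcne (hc.ne _))
    · obtain ⟨q, -, hq⟩ := exists_vec_nbr h (φ := φ) hv'
      rw [hq, vec_sheet h hu', mk_smul, mul_one] at e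
      exact absurd (mk_inj e).1.symm hcne
    · rw [vec_sheet h hu', vec_sheet h hv', mk_smul, mul_one] at e
      obtain ⟨e1, -, e3⟩ := mk_inj e
      rw [← e1, one_smul] at e3
      exact (congrArg Subtype.val (hc.inj e3)).symm
  rcases near_cases h hu with hux | ⟨t, ht, htx, rfl⟩ | ⟨t, ht, htx, rfl⟩
  · exact base hu.1 hux hv e
  · have hv' := near_rho h (near_rho h hv)
    rw [base ht htx hv' (by
      rw [vec_rho h (near_rho h hv), vec_rho h hv, e, vec_rho h (near_of_com h ht htx), rotV_smul,
        rotV_smul, rotV_cube]), rho_cube h]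
  · have ht' := near_of_com h ht htx
    rw [base ht htx (near_rho h hv) (by
      rw [vec_rho h hv, e, vec_rho h (near_rho h ht'), vec_rho h ht', rotV_smul, rotV_cube]),
      rho_cube h]

theorem exists_near {v : Fin (m + 2) → F4} (hv : v ≠ 0) (hiso : hh v v = 0)
    (hz : ca v = 0 ∨ cb v = 0 ∨ ca v = cb v) :
    ∃ (u : G) (c : F4), Near D x y u ∧ c ≠ 0 ∧ v = c • vec φ u := by
  have base : ∀ {v : Fin (m + 2) → F4}, v ≠ 0 → hh v v = 0 → cb v = 0 →
      ∃ (u : G) (c : F4), Near D x y u ∧ c ≠ 0 ∧ v = c • vec φ u := by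
    intro v hv hiso hb
    have hvw := mk_eta v
    have hw : hh (cw v) (cw v) = 0 := by
      rw [← hvw, hh_mk, hb] at hiso
      simpa using hiso
    by_cases hw0 : cw v = 0
    · refine ⟨x, ca v, near_of_com h h.hx (Commute.refl x), fun e => hv ?_, ?_⟩
      · rw [← hvw, e, hb, hw0]
        have := mk_smul (m := m) 0 0 0 0
        simpa using this.symm
      · rw [vec_left h, mk_smul, mul_one, mul_zero, smul_zero, ← hb, ← hw0]
        exact hvw.symm
    by_cases ha : ca v = 0
    · obtain ⟨p, hp⟩ := hc.onto _ hw0 hw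
      obtain ⟨q, hq', hq⟩ := exists_vec_nbr h (φ := φ) (proj_nbr h p.2)
      obtain ⟨c, hc'⟩ := (hc.scal q p).1 hq'
      refine ⟨_, c, near_of_com h (mem_nbr.1 (proj_nbr h p.2)).1
        (mem_nbr.1 (proj_nbr h p.2)).2.1.symm, fun e => hc.ne p (by rw [hc', e, zero_smul]), ?_⟩
      rw [hq, mk_smul, mul_zero, ← hc', hp]
      conv_lhs => rw [← hvw, ha, hb]
    · obtain ⟨p, hp⟩ := hc.onto ((ca v)⁻¹ • cw v) (smul_ne_zero (inv_ne_zero ha) hw0) (by
        rw [hh_smul_left, hh_smul_right, hw, mul_zero, mul_zero])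
      refine ⟨p, ca v, near_of_com h p.2.1 p.2.2.2.1.symm, ha, ?_⟩
      rw [vec_sheet h p.2, Subtype.coe_eta, hp, mk_smul, mul_one, mul_zero, smul_smul,
        mul_inv_cancel₀ ha, one_smul, ← hb]
      exact hvw.symm
  have rot0 : ∀ {v : Fin (m + 2) → F4}, v ≠ 0 → rotV v ≠ 0 := fun {v} hv e => hv (by
    have z : rotV (0 : Fin (m + 2) → F4) = 0 := by
      have := rotV_smul (m := m) 0 0
      rwa [zero_smul, zero_smul] at this
    rw [← rotV_cube v, e, z, z])
  rcases hz with h0 | h0 | h0
  · obtain ⟨u, c, hu, hc0, e⟩ := base (v := rotV (rotV v)) (rot0 (rot0 hv))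
      (by rw [hh_rotV, hh_rotV]; exact hiso) (by
        conv_lhs => rw [← mk_eta v, rotV_mk, rotV_mk, cb_mk]
        rw [h0]; linear_combination (cb v) * two_zero)
    refine ⟨rho x y u, c, near_rho h hu, hc0, ?_⟩
    rw [vec_rho h hu, ← rotV_smul, ← e, rotV_cube]
  · exact base hv hiso h0
  · obtain ⟨u, c, hu, hc0, e⟩ := base (v := rotV v) (rot0 hv) (by rw [hh_rotV]; exact hiso) (by
      conv_lhs => rw [← mk_eta v, rotV_mk, cb_mk]
      rw [h0]; exact add_self _)
    refine ⟨rho x y (rho x y u), c, near_rho h (near_rho h hu), hc0, ?_⟩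
    rw [vec_rho h (near_rho h hu), vec_rho h hu, ← rotV_smul, ← rotV_smul, ← e, rotV_cube]

end CfsgLib.FischerPolar
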