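import Cfsg.Agent.Lib.FischerPolar.Plane

set_option autoImplicit false
set_option linter.unusedSectionVars false
set_option linter.unusedVariables false

/-! A rotation of all fibres of the cover compatible with all matchings. -/

namespace CfsgLib.FischerPolar

open CfsgLib.ThreeTrans

variable {G : Type*} [Group G] {D : Set G} [Finite G]

/-- The members commuting with no member of the triple. -/
def Far (D : Set G) (x y e : G) : Prop :=
  e ∈ D ∧ ¬ Commute e x ∧ ¬ Commute e y ∧ ¬ Commute e (cj x y)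

open Classical in
/-- The rotation of a fibre given by the traces of a far member. -/
noncomputable def rotE (D : Set G) (x y e a u : G) : G :=
  if u = pt D e x a then pt D (rho x y (rho x y e)) x a
  else if u = pt D (rho x y (rho x y e)) x a then pt D (rho x y e) x a
  else pt D e x a

/-- A rotation of a fibre. -/
def IsRot (D : Set G) (x y a : G) (f : G → G) : Prop :=
  ∀ p ∈ fib D x y a, f p ∈ fib D x y a ∧ f p ≠ p ∧ f (f (f p)) = p

/-- Two rotations agree with the matching. -/
def Compat (D : Set G) (x y a b : G) (f g : G → G) : Prop :=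
  ∀ p ∈ fib D x y a, ∀ s ∈ fib D x y b, Mat y p s → Mat y (f p) (g s)

variable {x y : G} (h : Frame D x y)

include h

theorem rho_mem {e : G} (he : e ∈ D) : rho x y e ∈ D :=
  cj_mem h.cls h.hx (cj_mem h.cls h.hy he)

theorem commute_rho_iff (u v : G) : Commute (rho x y u) (rho x y v) ↔ Commute u v := by
  rw [rho, rho, commute_cj_iff h.cls h.hx, commute_cj_iff h.cls h.hy]

theorem rho_fix {a : G} (hxa : Commute x a) (hya : Commute y a) : rho x y a = a := by
  rw [rho, cj_eq_self h.cls h.hy hya, cj_eq_self h.cls h.hx hxa]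

theorem rho_left : rho x y x = y := by
  rw [rho, ← third_eq h, cj_cj h.cls h.hx]

theorem rho_right : rho x y y = cj x y := by
  rw [rho, cj_eq_self h.cls h.hy (Commute.refl y)]

theorem rho_third : rho x y (cj x y) = x := by
  rw [rho, third_eq h, cj_cj h.cls h.hy, cj_eq_self h.cls h.hx (Commute.refl x)]

theorem rho_cube (e : G) : rho x y (rho x y (rho x y e)) = e := by
  have h3 := cube_eq_one h.cls.1 h.hx h.hy h.hxy
  have h4 : (y * x) ^ 3 = 1 := cube_eq_one h.cls.1 h.hy h.hx fun e => h.hxy e.symm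
  rw [pow_succ, pow_two] at h3 h4
  simp only [rho, cj]
  calc _ = ((x * y) * (x * y) * (x * y)) * e * ((y * x) * (y * x) * (y * x)) := by
        simp only [mul_assoc]
    _ = e := by rw [h3, h4, one_mul, mul_one]

theorem far_rho {e : G} (he : Far D x y e) : Far D x y (rho x y e) := by
  refine ⟨rho_mem h he.1, fun hc => he.2.2.2 ?_, fun hc => he.2.1 ?_, fun hc => he.2.2.1 ?_⟩
  · rwa [← commute_rho_iff h, rho_third h]
  · rwa [← commute_rho_iff h, rho_left h]
  · rwa [← commute_rho_iff h, rho_right h]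

theorem commute_rho_nbr {e a : G} (ha : a ∈ nbr D x y) : Commute (rho x y e) a ↔ Commute e a := by
  conv_rhs => rw [← commute_rho_iff h, rho_fix h (mem_nbr.1 ha).2.1 (mem_nbr.1 ha).2.2]

theorem trace_spec {e a : G} (he : e ∈ D) (hex : ¬ Commute e x) (ha : a ∈ nbr D x y)
    (hea : ¬ Commute e a) : pt D e x a ∈ fib D x y a ∧ Commute e (pt D e x a) := by
  obtain ⟨h1, h2⟩ := pt_spec h.toSetting h.hx he (mem_link_of_nbr h.toSetting h.hxy ha)
  refine ⟨(mem_fib_iff h ha).2 ⟨h1, fun e' => hex (e' ▸ h2), fun e' => hea ?_⟩, h2⟩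
  rw [e'] at h2
  exact h2

theorem trace_unique {e a u : G} (he : e ∈ D) (hex : ¬ Commute e x) (ha : a ∈ nbr D x y)
    (hu : u ∈ fib D x y a) (heu : Commute e u) : u = pt D e x a :=
  pt_unique h.toSetting h.hx he (fun e' => hex e'.symm) (mem_link_of_nbr h.toSetting h.hxy ha)
    ((mem_fib_iff h ha).1 hu).1 heu

theorem traces {e a : G} (he : Far D x y e) (ha : a ∈ nbr D x y) (hea : ¬ Commute e a) :
    pt D e x a ∈ fib D x y a ∧ pt D (rho x y (rho x y e)) x a ∈ fib D x y a ∧
      pt D (rho x y e) x a ∈ fib D x y a ∧ pt D e x a ≠ pt D (rho x y (rho x y e)) x a ∧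
      pt D e x a ≠ pt D (rho x y e) x a ∧
      pt D (rho x y (rho x y e)) x a ≠ pt D (rho x y e) x a := by
  have main : ∀ {e : G}, Far D x y e → ¬ Commute e a →
      pt D e x a ∈ fib D x y a ∧ pt D e x a ≠ pt D (rho x y (rho x y e)) x a := fun {e} he hea => by
    obtain ⟨hu, heu⟩ := trace_spec h he.1 he.2.1 ha hea
    refine ⟨hu, fun hcon => he.2.2.2 ?_⟩
    have hea' : ¬ Commute (rho x y (rho x y e)) a := by
      rwa [commute_rho_nbr h ha, commute_rho_nbr h ha]
    have he' := far_rho h (far_rho h he)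
    obtain ⟨-, h2⟩ := trace_spec h he'.1 he'.2.1 ha hea'
    rw [← hcon] at h2
    set u := pt D e x a
    have h3 : Commute e (rho x y u) := by
      have := (commute_rho_iff h _ _).2 h2
      rwa [rho_cube h] at this
    have hk : cj u (rho x y u) = cj x y := by
      rw [rho, cj_cj_comm hu.1.2.2.1.symm, cj_comm h.cls h.hy hu.1.1 hu.1.2.2.2, cj_cj h.cls hu.1.1]
    rw [← hk]
    exact commute_cj heu h3
  have he1 := far_rho h he
  have he2 := far_rho h he1
  have hea1 : ¬ Commute (rho x y e) a := by rwa [commute_rho_nbr h ha]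
  have hea2 : ¬ Commute (rho x y (rho x y e)) a := by rwa [commute_rho_nbr h ha]
  obtain ⟨m0, n0⟩ := main he hea
  obtain ⟨m1, n1⟩ := main he1 hea1
  obtain ⟨m2, n2⟩ := main he2 hea2
  rw [rho_cube h] at n1 n2
  exact ⟨m0, m2, m1, n0, n1.symm, n2⟩

theorem rotE_vals {e a : G} (he : Far D x y e) (ha : a ∈ nbr D x y) (hea : ¬ Commute e a) :
    rotE D x y e a (pt D e x a) = pt D (rho x y (rho x y e)) x a ∧
    rotE D x y e a (pt D (rho x y (rho x y e)) x a) = pt D (rho x y e) x a ∧
    rotE D x y e a (pt D (rho x y e) x a) = pt D e x a := by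
  obtain ⟨-, -, -, n01, n02, n12⟩ := traces h he ha hea
  refine ⟨if_pos rfl, ?_, ?_⟩
  · rw [rotE, if_neg n01.symm, if_pos rfl]
  · rw [rotE, if_neg n02.symm, if_neg n12.symm]

theorem rotE_isRot {e a : G} (he : Far D x y e) (ha : a ∈ nbr D x y) (hea : ¬ Commute e a) :
    IsRot D x y a (rotE D x y e a) := by
  intro p hp
  obtain ⟨m0, m1, m2, n01, n02, n12⟩ := traces h he ha hea
  obtain ⟨v0, v1, v2⟩ := rotE_vals h he ha hea
  rcases third_fib h ha m0 m1 m2 n01 n02 n12 hp with rfl | rfl | rfl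
  · exact ⟨v0.symm ▸ m1, v0.symm ▸ n01.symm, by rw [v0, v1, v2]⟩
  · exact ⟨v1.symm ▸ m2, v1.symm ▸ n12.symm, by rw [v1, v2, v0]⟩
  · exact ⟨v2.symm ▸ m0, v2.symm ▸ n02, by rw [v2, v0, v1]⟩

theorem rotE_shift {e a p : G} (he : Far D x y e) (ha : a ∈ nbr D x y) (hea : ¬ Commute e a)
    (hp : p ∈ fib D x y a) :
    rotE D x y (rho x y (rho x y e)) a p = rotE D x y e a p := by
  obtain ⟨m0, m1, m2, n01, n02, n12⟩ := traces h he ha hea
  obtain ⟨v0, v1, v2⟩ := rotE_vals h he ha hea
  have he' := far_rho h (far_rho h he)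
  have hea' : ¬ Commute (rho x y (rho x y e)) a := by
    rwa [commute_rho_nbr h ha, commute_rho_nbr h ha]
  obtain ⟨w0, w1, w2⟩ := rotE_vals h he' ha hea'
  simp only [rho_cube h] at w0 w1 w2
  rcases third_fib h ha m0 m1 m2 n01 n02 n12 hp with rfl | rfl | rfl
  · rw [v0, w2]
  · rw [v1, w0]
  · rw [v2, w1]

theorem partner_trace {e a b s : G} (he : Far D x y e) (ha : a ∈ nbr D x y) (hb : b ∈ nbr D x y)
    (hea : ¬ Commute e a) (heb : ¬ Commute e b) (hs : s ∈ fib D x y b)
    (hm : Mat y (pt D e x a) s) : s = pt D e x b ↔ Commute e (cj a b) := by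
  obtain ⟨hu, heu⟩ := trace_spec h he.1 he.2.1 ha hea
  have hc := mat_cj_eq h hu.1 hs.1 hm
  rw [hu.2, hs.2] at hc
  constructor
  · intro e'
    obtain ⟨-, hev⟩ := trace_spec h he.1 he.2.1 hb heb
    rw [← hc]
    exact commute_cj heu (e' ▸ hev)
  · intro hec
    refine trace_unique h he.1 he.2.1 hb hs ?_
    rw [← hc] at hec
    exact (commute_cj_right h.cls hu.1.1 heu).1 hec

theorem compat_rotE {e a b : G} (he : Far D x y e) (ha : a ∈ nbr D x y) (hb : b ∈ nbr D x y)
    (hea : ¬ Commute e a) (heb : ¬ Commute e b) (hab : ¬ Commute a b) :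
    Compat D x y a b (rotE D x y e a) (rotE D x y e b) := by
  have step : ∀ {e : G}, Far D x y e → ¬ Commute e a → ¬ Commute e b → ∀ {s : G},
      s ∈ fib D x y b → Mat y (pt D e x a) s →
        Mat y (rotE D x y e a (pt D e x a)) (rotE D x y e b s) := by
    intro e he hea heb s hs hm
    have he1 := far_rho h he
    have he2 := far_rho h he1
    have hea1 : ¬ Commute (rho x y e) a := by rwa [commute_rho_nbr h ha]
    have hea2 : ¬ Commute (rho x y (rho x y e)) a := by rwa [commute_rho_nbr h ha]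
    have heb1 : ¬ Commute (rho x y e) b := by rwa [commute_rho_nbr h hb]
    have heb2 : ¬ Commute (rho x y (rho x y e)) b := by rwa [commute_rho_nbr h hb]
    have hc : cj a b ∈ nbr D x y := mem_nbr.2 ⟨cj_mem h.cls (mem_nbr.1 ha).1 (mem_nbr.1 hb).1,
      commute_cj (mem_nbr.1 ha).2.1 (mem_nbr.1 hb).2.1, commute_cj (mem_nbr.1 ha).2.2 (mem_nbr.1 hb).2.2⟩
    obtain ⟨m0, m1, m2, n01, n02, n12⟩ := traces h he hb heb
    obtain ⟨A0, A1, A2, a01, a02, a12⟩ := traces h he ha hea
    obtain ⟨v0, v1, v2⟩ := rotE_vals h he hb heb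
    rw [(rotE_vals h he ha hea).1]
    have hab1 : ¬ Commute b (proj D x y (pt D (rho x y (rho x y e)) x a)) := by
      rw [A1.2]; exact fun e' => hab e'.symm
    have hab2 : ¬ Commute b (proj D x y (pt D (rho x y e) x a)) := by
      rw [A2.2]; exact fun e' => hab e'.symm
    obtain ⟨s1, hs1, hs1'⟩ := exists_partner h A1.1 hb hab1
    obtain ⟨s2, hs2, hs2'⟩ := exists_partner h A2.1 hb hab2
    have p0 := partner_trace h he ha hb hea heb hs hm
    have p1 := partner_trace h he2 ha hb hea2 heb2 hs1 (mat_symm h hs1')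
    have p2 := partner_trace h he1 ha hb hea1 heb1 hs2 (mat_symm h hs2')
    by_cases hec : Commute e (cj a b)
    · have e1 := p1.2 (by rwa [commute_rho_nbr h hc, commute_rho_nbr h hc])
      rw [p0.2 hec, v0, ← e1]
      exact mat_symm h hs1'
    · have q0 : s ≠ pt D e x b := fun e' => hec (p0.1 e')
      have q1 : s1 ≠ pt D (rho x y (rho x y e)) x b := fun e' => hec (by
        have := p1.1 e'
        rwa [commute_rho_nbr h hc, commute_rho_nbr h hc] at this)
      have q2 : s2 ≠ pt D (rho x y e) x b := fun e' => hec (by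
        have := p2.1 e'
        rwa [commute_rho_nbr h hc] at this)
      have u01 : s ≠ s1 := fun e' => a01 (by
        subst e'
        exact partner_unique h hs.1 ha A0 A1 hm (mat_symm h hs1'))
      have u02 : s ≠ s2 := fun e' => a02 (by
        subst e'
        exact partner_unique h hs.1 ha A0 A2 hm (mat_symm h hs2'))
      have u12 : s1 ≠ s2 := fun e' => a12 (by
        subst e'
        exact partner_unique h hs1.1 ha A1 A2 (mat_symm h hs1') (mat_symm h hs2'))
      rcases third_fib h hb m0 m1 m2 n01 n02 n12 hs with e0 | e0 | e0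
      · exact absurd e0 q0
      · rw [e0, v1]
        rcases third_fib h hb m0 m1 m2 n01 n02 n12 hs1 with e1 | e1 | e1
        · rcases third_fib h hb m0 m1 m2 n01 n02 n12 hs2 with e2 | e2 | e2
          · exact absurd (e1.trans e2.symm) u12
          · exact absurd (e0.trans e2.symm) u02
          · exact absurd e2 q2
        · exact absurd e1 q1
        · exact e1 ▸ mat_symm h hs1'
      · rw [e0, v2]
        rcases third_fib h hb m0 m1 m2 n01 n02 n12 hs1 with e1 | e1 | e1
        · exact e1 ▸ mat_symm h hs1'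
        · exact absurd e1 q1
        · exact absurd (e0.trans e1.symm) u01
  intro p hp s hs hm
  obtain ⟨m0, m1, m2, n01, n02, n12⟩ := traces h he ha hea
  have he1 := far_rho h he
  have he2 := far_rho h he1
  have hea1 : ¬ Commute (rho x y e) a := by rwa [commute_rho_nbr h ha]
  have hea2 : ¬ Commute (rho x y (rho x y e)) a := by rwa [commute_rho_nbr h ha]
  have heb1 : ¬ Commute (rho x y e) b := by rwa [commute_rho_nbr h hb]
  have heb2 : ¬ Commute (rho x y (rho x y e)) b := by rwa [commute_rho_nbr h hb]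
  rcases third_fib h ha m0 m1 m2 n01 n02 n12 hp with rfl | rfl | rfl
  · exact step he hea heb hs hm
  · rw [← rotE_shift h he ha hea m1, ← rotE_shift h he hb heb hs]
    exact step he2 hea2 heb2 hs hm
  · have r1 : ∀ {c u : G}, c ∈ nbr D x y → ¬ Commute e c → u ∈ fib D x y c →
        rotE D x y (rho x y e) c u = rotE D x y e c u := fun {c u} hc hec hu => by
      have hec2 : ¬ Commute (rho x y (rho x y e)) c := by
        rwa [commute_rho_nbr h hc, commute_rho_nbr h hc]
      have := rotE_shift h he2 hc hec2 hu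
      rw [rho_cube h, rotE_shift h he hc hec hu] at this
      exact this
    rw [← r1 ha hea m2, ← r1 hb heb hs]
    exact step he1 hea1 heb1 hs hm

theorem exists_far {a b d : G} (ha : a ∈ nbr D x y) (hb : b ∈ nbr D x y) (hd : d ∈ nbr D x y)
    (hab : ¬ Commute a b) (hda : ¬ Commute d a) :
    ∃ e, Far D x y e ∧ ¬ Commute e a ∧ ¬ Commute e b ∧ ¬ Commute e d ∧
      ∀ c ∈ nbr D x y, Commute c a → ¬ Commute c b → ¬ Commute e c := by
  obtain ⟨haD, hxa, hya⟩ := mem_nbr.1 ha
  obtain ⟨hbD, hxb, hyb⟩ := mem_nbr.1 hb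
  obtain ⟨hdD, hxd, hyd⟩ := mem_nbr.1 hd
  obtain ⟨s, hs⟩ : (fib D x y b).Nonempty :=
    Set.nonempty_of_ncard_ne_zero (by rw [ncard_fib h hb]; omega)
  have hc : cj d a ∈ nbr D x y := mem_nbr.2 ⟨cj_mem h.cls hdD haD, commute_cj hxd hxa,
    commute_cj hyd hya⟩
  let bad : Set G := {p | p ∈ fib D x y a ∧ Mat y p s} ∪ {p | p ∈ fib D x y a ∧ Mat y (cj d p) s}
  have hbad : bad.ncard ≤ 2 := by
    refine (Set.ncard_union_le _ _).trans (add_le_add ((Set.ncard_le_one (Set.toFinite _)).2 ?_)
      ((Set.ncard_le_one (Set.toFinite _)).2 ?_))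
    · rintro u ⟨hu, hum⟩ v ⟨hv, hvm⟩
      exact partner_unique h hs.1 ha hu hv hum hvm
    · rintro u ⟨hu, hum⟩ v ⟨hv, hvm⟩
      have key : ∀ {w : G}, w ∈ fib D x y a → cj d w ∈ fib D x y (cj d a) := fun {w} hw =>
        ⟨sheet_cj h hdD hxd.symm hyd.symm hw.1, by rw [proj_cj h hdD hxd.symm hyd.symm hw.1, hw.2]⟩
      exact cj_injective h.cls hdD (partner_unique h hs.1 hc (key hu) (key hv) hum hvm)
  obtain ⟨p, hp, hp'⟩ := Set.exists_mem_notMem_of_ncard_lt_ncard
    (s := bad) (t := fib D x y a) (by rw [ncard_fib h ha]; omega)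
  have hps : ¬ Mat y p s := fun e => hp' (Or.inl ⟨hp, e⟩)
  have hpd : ¬ Mat y (cj d p) s := fun e => hp' (Or.inr ⟨hp, e⟩)
  have hρs : ¬ Commute p (rho x y s) := fun e => hps ((mat_iff_rho h hp.1.2.2.1).2 e)
  have hρx : ¬ Commute (rho x y s) x := fun e => by
    exact sheet_third h hs.1 ((commute_rho_iff h s (cj x y)).1 (by rwa [rho_third h]))
  have hρy : Commute (rho x y s) y := by
    have h1 := (commute_rho_iff h s x).2 hs.1.2.2.1.symm
    rwa [rho_left h] at h1
  have key : ∀ {c : G}, Commute (cj p (rho x y s)) c ↔ Commute (rho x y s) (cj p c) := fun {c} => by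
    conv_lhs => rw [← cj_cj h.cls hp.1.1 c]
    rw [commute_cj_iff h.cls hp.1.1]
  refine ⟨cj p (rho x y s), ⟨cj_mem h.cls hp.1.1 (rho_mem h hs.1.1), ?_, ?_, ?_⟩, ?_, ?_, ?_, ?_⟩
  · exact fun e => not_commute_cj h.cls hp.1.1 hp.1.2.2.1 (fun e' => hρx e'.symm) e.symm
  · rw [cj_comm h.cls hp.1.1 (rho_mem h hs.1.1) hρs]
    exact fun e => not_commute_cj h.cls (rho_mem h hs.1.1) hρy.symm hp.1.2.2.2 e.symm
  · rw [key, cj_cj_comm hp.1.2.2.1.symm, cj_comm h.cls hp.1.1 h.hy fun e => hp.1.2.2.2 e.symm]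
    intro e
    refine hab ?_
    rw [show cj x (cj y p) = rho x y p from rfl, commute_rho_iff h] at e
    have := (commute_iff_proj h hs.1 hp.1).1 e
    rw [hs.2, hp.2] at this
    exact this.symm
  · rw [key, cj_eq_self h.cls hp.1.1 ((commute_proj h hp.1 haD hxa.symm).2
      (hp.2.symm ▸ Commute.refl a)).symm, commute_rho_nbr h ha, Commute.symm_iff,
      commute_proj h hs.1 haD hxa.symm, hs.2]
    exact hab
  · have hbp : ¬ Commute p b := fun e => hab (by
      have := (commute_proj h hp.1 hbD hxb.symm).1 e.symm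
      rw [hp.2] at this
      exact this.symm)
    rw [key, cj_comm h.cls hp.1.1 hbD hbp, Commute.symm_iff,
      ← mat_iff_rho h (commute_cj hxb hp.1.2.2.1)]
    intro e
    refine hps ((mat_cj h (p := p) (s := s) hbD hyb.symm).1 ?_)
    rwa [cj_eq_self h.cls hbD ((commute_proj h hs.1 hbD hxb.symm).2 (hs.2.symm ▸ Commute.refl b))]
  · have hdp : ¬ Commute p d := fun e => hda (by
      have := (commute_proj h hp.1 hdD hxd.symm).1 e.symm
      rwa [hp.2] at this)
    rw [key, cj_comm h.cls hp.1.1 hdD hdp, Commute.symm_iff,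
      ← mat_iff_rho h (commute_cj hxd hp.1.2.2.1)]
    exact hpd
  · intro c hcN hca hcb
    obtain ⟨hcD, hxc, hyc⟩ := mem_nbr.1 hcN
    rw [key, cj_eq_self h.cls hp.1.1 ((commute_proj h hp.1 hcD hxc.symm).2
      (hp.2.symm ▸ hca)).symm, commute_rho_nbr h hcN, Commute.symm_iff,
      commute_proj h hs.1 hcD hxc.symm, hs.2]
    exact hcb

theorem rot_cases {a : G} {f g : G → G} (ha : a ∈ nbr D x y) (hf : IsRot D x y a f)
    (hg : IsRot D x y a g) :
    (∀ p ∈ fib D x y a, f p = g p) ∨ ∀ p ∈ fib D x y a, f p = g (g p) := by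
  obtain ⟨p, hp⟩ : (fib D x y a).Nonempty :=
    Set.nonempty_of_ncard_ne_zero (by rw [ncard_fib h ha]; omega)
  obtain ⟨g1, g2, g3⟩ := hg p hp
  obtain ⟨g4, g5, -⟩ := hg _ g1
  have g6 : g (g p) ≠ p := fun e => g2 (by rw [e] at g3; exact g3)
  obtain ⟨f1, f2, f3⟩ := hf p hp
  obtain ⟨f4, f5, -⟩ := hf _ f1
  have f6 : f (f p) ≠ p := fun e => f2 (by rw [e] at f3; exact f3)
  have cases3 : ∀ {u : G}, u ∈ fib D x y a → u = p ∨ u = g p ∨ u = g (g p) := fun hu =>
    third_fib h ha hp g1 g4 g2.symm g6.symm g5.symm hu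
  rcases cases3 f1 with e | e | e
  · exact absurd e f2
  · left
    have e2 : f (g p) = g (g p) := by
      rw [← e]
      rcases cases3 f4 with e' | e' | e'
      · exact absurd e' f6
      · exact absurd (e'.trans e.symm) f5
      · rw [e]; rw [e] at e'; exact e'
    intro u hu
    rcases cases3 hu with rfl | rfl | rfl
    · exact e
    · exact e2
    · rw [← e2, ← e, f3, e, e2, g3]
  · right
    have e2 : f (g (g p)) = g p := by
      rw [← e]
      rcases cases3 f4 with e' | e' | e'
      · exact absurd e' f6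
      · exact e'
      · exact absurd (e'.trans e.symm) f5
    intro u hu
    rcases cases3 hu with rfl | rfl | rfl
    · exact e
    · rw [← e2, ← e, f3, e, e2, g3]
    · rw [e2]
      have := congrArg g g3
      exact this.symm

theorem compat_symm {a b : G} {f g : G → G} (hc : Compat D x y a b f g) : Compat D x y b a g f :=
  fun p hp s hs hm => mat_symm h (hc s hs p hp (mat_symm h hm))

theorem compat_unique {a b : G} {f g g' : G → G} (ha : a ∈ nbr D x y) (hb : b ∈ nbr D x y)
    (hab : ¬ Commute a b) (hf : IsRot D x y a f) (hg : IsRot D x y b g) (hg' : IsRot D x y b g')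
    (h1 : Compat D x y a b f g) (h2 : Compat D x y a b f g') : ∀ s ∈ fib D x y b, g s = g' s := by
  intro s hs
  obtain ⟨p, hp, hm⟩ := exists_partner h hs.1 ha (hs.2.symm ▸ hab)
  exact partner_unique h (hf p hp).1.1 hb (hg s hs).1 (hg' s hs).1 (mat_symm h (h1 p hp s hs hm))
    (mat_symm h (h2 p hp s hs hm))

/-- A rotation is the one given by `e`. -/
def Plus (D : Set G) (x y e a : G) (f : G → G) : Prop :=
  ∀ p ∈ fib D x y a, f p = rotE D x y e a p

theorem compat_iff {e a b : G} {f g : G → G} (he : Far D x y e) (ha : a ∈ nbr D x y)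
    (hb : b ∈ nbr D x y) (hea : ¬ Commute e a) (heb : ¬ Commute e b) (hab : ¬ Commute a b)
    (hf : IsRot D x y a f) (hg : IsRot D x y b g) :
    Compat D x y a b f g ↔ (Plus D x y e a f ↔ Plus D x y e b g) := by
  have hra := rotE_isRot h he ha hea
  have hrb := rotE_isRot h he hb heb
  have hc := compat_rotE h he ha hb hea heb hab
  have hc2 : Compat D x y a b (fun p => rotE D x y e a (rotE D x y e a p))
      (fun p => rotE D x y e b (rotE D x y e b p)) := fun p hp s hs hm =>
    hc _ (hra p hp).1 _ (hrb s hs).1 (hc p hp s hs hm)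
  constructor
  · intro hcf
    refine ⟨fun hp => ?_, fun hp => ?_⟩
    · exact compat_unique h ha hb hab hra hg hrb
        (fun p hp' s hs hm => hp p hp' ▸ hcf p hp' s hs hm) hc
    · exact compat_unique h hb ha (fun e' => hab e'.symm) hrb hf hra
        (fun p hp' s hs hm => hp p hp' ▸ compat_symm h hcf p hp' s hs hm) (compat_symm h hc)
  · intro hiff
    by_cases hp : Plus D x y e a f
    · intro p hp' s hs hm
      rw [hp p hp', hiff.1 hp s hs]
      exact hc p hp' s hs hm
    · have e1 := (rot_cases h ha hf hra).resolve_left hp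
      have e2 := (rot_cases h hb hg hrb).resolve_left fun e' => hp (hiff.2 e')
      intro p hp' s hs hm
      rw [e1 p hp', e2 s hs]
      exact hc2 p hp' s hs hm

theorem exists_compat {a b : G} {f : G → G} (ha : a ∈ nbr D x y) (hb : b ∈ nbr D x y)
    (hab : ¬ Commute a b) (hf : IsRot D x y a f) :
    ∃ g, IsRot D x y b g ∧ Compat D x y a b f g := by
  classical
  obtain ⟨e, he, hea, heb, -, -⟩ := exists_far h ha hb hb hab fun e' => hab e'.symm
  have hrb := rotE_isRot h he hb heb
  by_cases hp : Plus D x y e a f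
  · exact ⟨_, hrb, (compat_iff h he ha hb hea heb hab hf hrb).2 ⟨fun _ _ _ => rfl, fun _ => hp⟩⟩
  · have hrot : IsRot D x y b fun p => rotE D x y e b (rotE D x y e b p) := by
      intro p hp'
      obtain ⟨r1, r2, r3⟩ := hrb p hp'
      refine ⟨(hrb _ r1).1, fun e' => r2 ?_, ?_⟩
      · have e2 : rotE D x y e b (rotE D x y e b p) = p := e'
        rw [e2] at r3
        exact r3
      · show rotE D x y e b (rotE D x y e b (rotE D x y e b (rotE D x y e b
            (rotE D x y e b (rotE D x y e b p))))) = p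
        rw [r3, r3]
    refine ⟨_, hrot, ?_⟩
    · refine (compat_iff h he ha hb hea heb hab hf hrot).2 ⟨fun e' => absurd e' hp, fun e' => ?_⟩
      exfalso
      obtain ⟨p, hp'⟩ : (fib D x y b).Nonempty :=
        Set.nonempty_of_ncard_ne_zero (by rw [ncard_fib h hb]; omega)
      have := e' _ hp'
      obtain ⟨r1, -, -⟩ := hrb p hp'
      exact (hrb _ r1).2.1 this

theorem compat_walk {a b c d : G} {fa fb fc fd : G → G} (ha : a ∈ nbr D x y) (hb : b ∈ nbr D x y)
    (hc : c ∈ nbr D x y) (hd : d ∈ nbr D x y) (hab : ¬ Commute a b) (hbc : ¬ Commute b c)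
    (hcd : ¬ Commute c d) (had : ¬ Commute a d) (ra : IsRot D x y a fa) (rb : IsRot D x y b fb)
    (rc : IsRot D x y c fc) (rd : IsRot D x y d fd) (c1 : Compat D x y a b fa fb)
    (c2 : Compat D x y b c fb fc) (c3 : Compat D x y c d fc fd) : Compat D x y a d fa fd := by
  have tri : ∀ {a b c : G} {fa fb fc : G → G}, a ∈ nbr D x y → b ∈ nbr D x y → c ∈ nbr D x y →
      ¬ Commute a b → ¬ Commute b c → ¬ Commute a c → IsRot D x y a fa → IsRot D x y b fb →
      IsRot D x y c fc → Compat D x y a b fa fb → Compat D x y b c fb fc →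
      Compat D x y a c fa fc := by
    intro a b c fa fb fc ha hb hc hab hbc hac ra rb rc c1 c2
    obtain ⟨e, he, hea, heb, hec, -⟩ := exists_far h ha hb hc hab fun e' => hac e'.symm
    exact (compat_iff h he ha hc hea hec hac ra rc).2
      (((compat_iff h he ha hb hea heb hab ra rb).1 c1).trans
        ((compat_iff h he hb hc heb hec hbc rb rc).1 c2))
  by_cases hac : Commute a c
  · obtain ⟨e, he, hea, heb, hed, hall⟩ := exists_far h ha hb hd hab fun e' => had e'.symm
    have hec := hall c hc hac.symm fun e' => hbc e'.symm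
    exact (compat_iff h he ha hd hea hed had ra rd).2
      ((((compat_iff h he ha hb hea heb hab ra rb).1 c1).trans
        ((compat_iff h he hb hc heb hec hbc rb rc).1 c2)).trans
        ((compat_iff h he hc hd hec hed hcd rc rd).1 c3))
  · exact tri ha hc hd hac hcd had ra rc rd (tri ha hb hc hab hbc hac ra rb rc c1 c2) c3

theorem exists_common_nbr {a c : G} (ha : a ∈ nbr D x y) (hc : c ∈ nbr D x y) :
    ∃ b ∈ nbr D x y, ¬ Commute a b ∧ ¬ Commute c b := by
  have far : ∀ {a : G}, a ∈ nbr D x y → ∃ u ∈ nbr D x y, ¬ Commute a u := fun {a} ha => by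
    obtain ⟨w, hw, haw⟩ := link_nonadj h.toSetting h.hx (mem_link_of_nbr h.toSetting h.hxy ha)
    refine ⟨_, pt_mem_nbr h.toSetting h.hx h.hy hw, fun hc => haw ?_⟩
    obtain ⟨h1, h2⟩ := pt_spec h.toSetting h.hx h.hy hw
    have hne : x ≠ pt D y x w := fun e' => h.hxy (by rw [e']; exact h2.symm)
    exact commute_line h.toSetting h.hx hw.1 hw.2.2 hw.2.1.symm (left_mem_line h.hx) h1 hne
      (mem_nbr.1 ha).1 (mem_nbr.1 ha).2.1.symm hc (right_mem_line hw.1)
  obtain ⟨u, hu, hau⟩ := far ha
  obtain ⟨v, hv, hcv⟩ := far hc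
  by_cases hcu : Commute c u
  swap
  · exact ⟨u, hu, hau, hcu⟩
  by_cases hav : Commute a v
  swap
  · exact ⟨v, hv, hav, hcv⟩
  obtain ⟨huD, hxu, hyu⟩ := mem_nbr.1 hu
  obtain ⟨hvD, hxv, hyv⟩ := mem_nbr.1 hv
  by_cases huv : Commute u v
  · have hne : u ≠ v := fun e' => hcv (e' ▸ hcu)
    obtain ⟨k, hk, hku, hkv⟩ := exists_third h.toSetting huD hvD huv hne
    refine ⟨k, mem_nbr.2 ⟨hk.1, commute_line h.toSetting huD hvD huv hne (left_mem_line huD)
      (right_mem_line hvD) hne h.hx hxu hxv hk, commute_line h.toSetting huD hvD huv hne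
      (left_mem_line huD) (right_mem_line hvD) hne h.hy hyu hyv hk⟩, fun e' => hau ?_,
      fun e' => hcv ?_⟩
    · exact commute_line h.toSetting huD hvD huv hne (right_mem_line hvD) hk hkv.symm
        (mem_nbr.1 ha).1 hav e' (left_mem_line huD)
    · exact commute_line h.toSetting huD hvD huv hne (left_mem_line huD) hk hku.symm
        (mem_nbr.1 hc).1 hcu e' (right_mem_line hvD)
  · refine ⟨cj u v, mem_nbr.2 ⟨cj_mem h.cls huD hvD, commute_cj hxu hxv, commute_cj hyu hyv⟩, ?_, ?_⟩
    · rw [cj_comm h.cls huD hvD huv]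
      exact not_commute_cj h.cls hvD hav hau
    · exact not_commute_cj h.cls huD hcu hcv

/-- A rotation of the whole sheet preserving all matchings. -/
theorem exists_orientation : ∃ o : G → G, (∀ p ∈ sheet D x y, o p ∈ sheet D x y ∧ o p ≠ p ∧
    proj D x y (o p) = proj D x y p ∧ o (o (o p)) = p) ∧
    ∀ p ∈ sheet D x y, ∀ s ∈ sheet D x y, Mat y p s → Mat y (o p) (o s) := by
  classical
  obtain ⟨a0, ha0, b0, hb0, hab0⟩ := nbr_not_clique h.toSetting h.hx h.hy h.hxy
  obtain ⟨e0, he0, hea0, -⟩ := exists_far h ha0 hb0 hb0 hab0 fun e => hab0 e.symm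
  set f0 := rotE D x y e0 a0
  have r0 : IsRot D x y a0 f0 := rotE_isRot h he0 ha0 hea0
  let Good : G → (G → G) → Prop := fun a f => IsRot D x y a f ∧
    ∀ b ∈ nbr D x y, ¬ Commute a0 b → ¬ Commute a b → ∀ g, IsRot D x y b g →
      Compat D x y a0 b f0 g → Compat D x y a b f g
  have hex : ∀ a ∈ nbr D x y, ∃ f, Good a f := by
    intro a ha
    obtain ⟨b, hb, h0b, hab⟩ := exists_common_nbr h ha0 ha
    obtain ⟨g, rg, cg⟩ := exists_compat h ha0 hb h0b r0
    obtain ⟨f, rf, cf⟩ := exists_compat h hb ha (fun e => hab e.symm) rg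
    refine ⟨f, rf, fun b' hb' h0b' hab' g' rg' cg' => ?_⟩
    exact compat_walk h ha hb ha0 hb' hab (fun e => h0b e.symm) h0b' hab' rf rg r0 rg'
      (compat_symm h cf) (compat_symm h cg) cg'
  have hadj : ∀ a ∈ nbr D x y, ∀ a' ∈ nbr D x y, ¬ Commute a a' → ∀ f f', Good a f → Good a' f' →
      Compat D x y a a' f f' := by
    intro a ha a' ha' haa f f' gf gf'
    -- a member near `a0` is matched with `f0`
    have near : ∀ a ∈ nbr D x y, ¬ Commute a0 a → ∀ f, Good a f → Compat D x y a0 a f0 f := by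
      intro a ha h0a f gf
      obtain ⟨b, hb, h0b, hab⟩ := exists_common_nbr h ha0 ha
      obtain ⟨g, rg, cg⟩ := exists_compat h ha0 hb h0b r0
      obtain ⟨f', rf', cf'⟩ := exists_compat h ha0 ha h0a r0
      have c1 := gf.2 b hb h0b hab g rg cg
      -- the triangle
      obtain ⟨e, he, he0', heb, hea, -⟩ := exists_far h ha0 hb ha h0b fun e => h0a e.symm
      exact (compat_iff h he ha0 ha he0' hea h0a r0 gf.1).2
        (((compat_iff h he ha0 hb he0' heb h0b r0 rg).1 cg).trans
          ((compat_iff h he ha hb hea heb hab gf.1 rg).1 c1).symm)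
    by_cases h0a : Commute a0 a
    · by_cases h0a' : Commute a0 a'
      · obtain ⟨b, hb, h0b, hab⟩ := exists_common_nbr h ha0 ha
        have mk : ∀ w ∈ nbr D x y, ¬ Commute a0 w → ¬ Commute a w → ¬ Commute a' w →
            Compat D x y a a' f f' := by
          intro w hw h0w haw ha'w
          obtain ⟨g, rg, cg⟩ := exists_compat h ha0 hw h0w r0
          have c1 := gf.2 w hw h0w haw g rg cg
          have c2 := gf'.2 w hw h0w ha'w g rg cg
          obtain ⟨e, he, hea, hew, hea', -⟩ := exists_far h ha hw ha' haw fun e => haa e.symm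
          exact (compat_iff h he ha ha' hea hea' haa gf.1 gf'.1).2
            (((compat_iff h he ha hw hea hew haw gf.1 rg).1 c1).trans
              ((compat_iff h he ha' hw hea' hew ha'w gf'.1 rg).1 c2).symm)
        by_cases hb' : Commute a' b
        swap
        · exact mk b hb h0b hab hb'
        obtain ⟨haD, hxa, hya⟩ := mem_nbr.1 ha
        obtain ⟨hbD, hxb, hyb⟩ := mem_nbr.1 hb
        refine mk (cj a b) (mem_nbr.2 ⟨cj_mem h.cls haD hbD, commute_cj hxa hxb, commute_cj hya hyb⟩)
          (not_commute_cj h.cls haD h0a h0b) (not_commute_cj h.cls haD (Commute.refl a) hab) ?_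
        rw [cj_comm h.cls haD hbD hab]
        exact not_commute_cj h.cls hbD hb' fun e => haa e.symm
      · obtain ⟨b, hb, h0b, hab⟩ := exists_common_nbr h ha0 ha
        obtain ⟨g, rg, cg⟩ := exists_compat h ha0 hb h0b r0
        exact compat_walk h ha hb ha0 ha' hab (fun e => h0b e.symm) h0a' haa gf.1 rg r0 gf'.1
          (gf.2 b hb h0b hab g rg cg) (compat_symm h cg) (near a' ha' h0a' f' gf')
    · obtain ⟨b, hb, h0b, hab⟩ := exists_common_nbr h ha0 ha'
      obtain ⟨g, rg, cg⟩ := exists_compat h ha0 hb h0b r0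
      exact compat_walk h ha ha0 hb ha' (fun e => h0a e.symm) h0b (fun e => hab e.symm) haa gf.1 r0
        rg gf'.1 (compat_symm h (near a ha h0a f gf)) cg
        (compat_symm h (gf'.2 b hb h0b hab g rg cg))
  let F : G → G → G := fun a => if ha : a ∈ nbr D x y then (hex a ha).choose else id
  have hF : ∀ a ∈ nbr D x y, Good a (F a) := fun a ha => by
    simp only [F, dif_pos ha]
    exact (hex a ha).choose_spec
  refine ⟨fun p => F (proj D x y p) p, fun p hp => ?_, fun p hp s hs hm => ?_⟩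
  · obtain ⟨h1, h2, h3⟩ := (hF _ (proj_nbr h hp)).1 p ⟨hp, rfl⟩
    refine ⟨h1.1, h2, h1.2, ?_⟩
    have h4 := (hF _ (proj_nbr h hp)).1 _ h1
    simp only [h1.2, h4.1.2]
    exact h3
  · exact hadj _ (proj_nbr h hp) _ (proj_nbr h hs) (proj_not_commute h hp hs hm) _ _
      (hF _ (proj_nbr h hp)) (hF _ (proj_nbr h hs)) p ⟨hp, rfl⟩ s ⟨hs, rfl⟩ hm

end CfsgLib.FischerPolar
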