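import Cfsg.Agent.Lib.FischerPolar.Psi

set_option autoImplicit false
set_option linter.unusedSectionVars false
set_option linter.unusedVariables false

/-! Two commuting members of the sheet and the singular plane through them. -/

namespace CfsgLib.FischerPolar

open CfsgLib.ThreeTrans

variable {G : Type*} [Group G] {D : Set G} [Finite G]

variable {x y : G} (h : Frame D x y)

include h

theorem line_avoid {p q : G} (hp : p ∈ sheet D x y) (hq : q ∈ sheet D x y) (hpq : Commute p q)
    (hne : proj D x y p ≠ proj D x y q) : x ∉ line D p q := fun hx => hne (by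
  have hpq' : p ≠ q := fun e => hne (congrArg _ e)
  have e1 := line_eq h.toSetting hp.1 hq.1 hpq hpq' (right_mem_line hq.1) hx hq.2.1
  have e2 := line_eq h.toSetting hp.1 hq.1 hpq hpq' (left_mem_line hp.1) hx hp.2.1
  rw [line_comm q x] at e1
  rw [line_comm p x] at e2
  have e3 : proj D x y p ∈ line D x q := e1.trans e2.symm ▸ proj_line h hp
  exact pt_unique h.toSetting h.hx h.hy h.hxy (sheet_link h hq) e3 (mem_nbr.1 (proj_nbr h hp)).2.2)

/-- The point `c` of the neighbourhood on the line, and the member over it. -/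
theorem cross_spec {p q : G} (hp : p ∈ sheet D x y) (hq : q ∈ sheet D x y) (hpq : Commute p q)
    (hne : proj D x y p ≠ proj D x y q) :
    pt D y p q ∈ nbr D x y ∧ pt D y p q ∈ line D p q ∧ cross x y p q ∈ fib D x y (pt D y p q) ∧
      cross x y p q ∈ line D p (proj D x y q) := by
  have hne' : p ≠ q := fun e => hne (congrArg _ e)
  have hD := h.cls
  obtain ⟨hcl, hcy⟩ := pt_spec h.toSetting hp.1 h.hy ⟨hq.1, hne'.symm, hpq⟩
  set c := pt D y p q
  have hxc : Commute x c := commute_line h.toSetting hp.1 hq.1 hpq hne' (left_mem_line hp.1)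
    (right_mem_line hq.1) hne' h.hx hp.2.2.1 hq.2.2.1 hcl
  have hcN : c ∈ nbr D x y := mem_nbr.2 ⟨hcl.1, hxc, hcy⟩
  have hpc : Commute p c := (commute_left h.toSetting hp.1 hpq hcl).symm
  obtain ⟨hbD, hxb, hyb⟩ := mem_nbr.1 (proj_nbr h hq)
  have hpb : Commute p (proj D x y q) := (commute_proj h hq hp.1 hp.2.2.1.symm).1 hpq
  let g : G → G := fun e => cj y (cj x (cj p (cj y e)))
  have hg : ∀ u v, Commute (g u) (g v) ↔ Commute u v := fun u v => by
    simp only [g, commute_cj_iff hD h.hy, commute_cj_iff hD h.hx, commute_cj_iff hD hp.1]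
  have ginj : Function.Injective g := fun u v e =>
    cj_injective hD h.hy (cj_injective hD hp.1 (cj_injective hD h.hx (cj_injective hD h.hy e)))
  have gline : ∀ {u v w : G}, w ∈ line D u v → g w ∈ line D (g u) (g v) := fun hw =>
    line_cj_mem h.toSetting h.hy (line_cj_mem h.toSetting h.hx
      (line_cj_mem h.toSetting hp.1 (line_cj_mem h.toSetting h.hy hw)))
  have gfix : ∀ {e : G}, Commute x e → Commute y e → Commute p e → g e = e :=
    fun {e} h1 h2 h3 => by
      show cj y (cj x (cj p (cj y e))) = e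
      rw [cj_eq_self hD h.hy h2, cj_eq_self hD hp.1 h3, cj_eq_self hD h.hx h1, cj_eq_self hD h.hy h2]
  have hyp : ¬ Commute y p := hp.2.2.2
  have gx : g x = p := by
    show cj y (cj x (cj p (cj y x))) = p
    rw [← third_eq h, cj_cj_comm hp.2.2.1.symm, cj_cj hD h.hx, cj_comm hD hp.1 h.hy fun e => hyp e.symm,
      cj_cj hD h.hy]
  have gp : g p = x := by
    show cj y (cj x (cj p (cj y p))) = x
    rw [cj_comm hD h.hy hp.1 hyp, cj_cj hD hp.1, third_eq h, cj_cj hD h.hy]
  have gq : g q = cross x y p q := by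
    show cj y (cj x (cj p (cj y q))) = _
    rw [cross, cj_comm hD h.hy hq.1 hq.2.2.2]
  have hr1 : g q ∈ line D x c := by
    have h1 := gline hcl
    rw [gp, gfix hxc hcy hpc] at h1
    have hne1 : x ≠ g q := fun e => hne' (ginj (by rw [gp]; exact e))
    have hc1 : Commute x (g q) := by rw [← gp, hg]; exact hpq
    have hD1 : g q ∈ D := cj_mem hD h.hy (cj_mem hD h.hx (cj_mem hD hp.1 (cj_mem hD h.hy hq.1)))
    rw [line_eq h.toSetting h.hx hD1 hc1 hne1 (left_mem_line h.hx) h1
      (mem_link_of_nbr h.toSetting h.hxy hcN).2.1.symm]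
    exact right_mem_line hD1
  have hr2 : g q ∈ line D p (proj D x y q) := by
    have h1 : q ∈ line D x (proj D x y q) := line_proj h hq ▸ right_mem_line hq.1
    have h2 := gline h1
    rwa [gx, gfix hxb hyb hpb] at h2
  refine ⟨hcN, hcl, ?_, gq ▸ hr2⟩
  rw [← gq]
  refine (mem_fib_iff h hcN).2 ⟨hr1, fun e => hne' (ginj (by rw [gp, e])), fun e => ?_⟩
  have e1 := ginj (e.trans (gfix hxc hcy hpc).symm)
  exact sheet_ne_nbr h hq hcN e1

omit [Finite G] in
theorem cross_comm {p q : G} (hpq : Commute p q) : cross x y p q = cross x y q p := by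
  rw [cross, cross, cj_cj_comm hpq]

theorem pt_comm {p q : G} (hp : p ∈ sheet D x y) (hq : q ∈ sheet D x y) (hpq : Commute p q)
    (hne : proj D x y p ≠ proj D x y q) : pt D y p q = pt D y q p := by
  obtain ⟨h1, h2, -⟩ := cross_spec h hp hq hpq hne
  have hne' : q ≠ p := fun e => hne (congrArg _ e.symm)
  exact pt_unique h.toSetting hq.1 h.hy (fun e => hq.2.2.2 e.symm) ⟨hp.1, hne'.symm, hpq.symm⟩
    (by rwa [line_comm]) (mem_nbr.1 h1).2.2

theorem cross_spec' {p q : G} (hp : p ∈ sheet D x y) (hq : q ∈ sheet D x y) (hpq : Commute p q)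
    (hne : proj D x y p ≠ proj D x y q) : cross x y p q ∈ line D q (proj D x y p) := by
  rw [cross_comm h hpq]
  exact (cross_spec h hq hp hpq.symm hne.symm).2.2.2

theorem pt_mem_line_proj {p q : G} (hp : p ∈ sheet D x y) (hq : q ∈ sheet D x y) (hpq : Commute p q)
    (hne : proj D x y p ≠ proj D x y q) :
    pt D y p q ∈ line D (proj D x y p) (proj D x y q) := by
  obtain ⟨hcN, hcl, -, -⟩ := cross_spec h hp hq hpq hne
  set c := pt D y p q
  have hne' : p ≠ q := fun e => hne (congrArg _ e)
  have hS := h.toSetting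
  refine ⟨(mem_nbr.1 hcN).1, fun e he => ⟨(mem_nbr.1 he).1, ?_⟩⟩
  obtain ⟨heD, hae, hbe⟩ := mem_nbr.1 he
  by_cases hex : Commute e x
  · exact (commute_line hS hp.1 hq.1 hpq hne' (left_mem_line hp.1) (right_mem_line hq.1) hne' heD
      ((commute_proj h hp heD hex).2 hae.symm) ((commute_proj h hq heD hex).2 hbe.symm) hcl).symm
  by_contra hce
  have hec : ¬ Commute e c := fun e' => hce e'.symm
  have hav := line_avoid h hp hq hpq hne
  have off : ∀ {u : G}, u ∈ sheet D x y → Commute (proj D x y u) e → ¬ Commute e u := fun {u} hu h1 h2 =>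
    hex (commute_line hS h.hx hu.1 hu.2.2.1 hu.2.1.symm (right_mem_line hu.1) (proj_line h hu)
      (proj_ne h hu) heD h2 h1.symm (left_mem_line h.hx))
  obtain ⟨w, hw, hew⟩ := exists_on_line hS hp.1 hq.1 hpq hne' heD
  have hwp : w ≠ p := fun e' => off hp hae (e' ▸ hew)
  have hwq : w ≠ q := fun e' => off hq hbe (e' ▸ hew)
  have hwc : w ≠ c := fun e' => hec (e' ▸ hew)
  have hxw : Commute x w := commute_line hS hp.1 hq.1 hpq hne' (left_mem_line hp.1)
    (right_mem_line hq.1) hne' h.hx hp.2.2.1 hq.2.2.1 hw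
  have hws : w ∈ sheet D x y := ⟨hw.1, fun e' => hav (e' ▸ hw), hxw, fun e' => hwc
    (unique_point hS hp.1 hq.1 hpq hne' h.hy hw hcl e' (mem_nbr.1 hcN).2.2 (left_mem_line hp.1)
      hp.2.2.2)⟩
  have hsame : ∀ {u : G}, u ∈ sheet D x y → u ∈ line D p q → u ≠ w →
      proj D x y w ≠ proj D x y u := fun {u} hu hul huw e' => hav (by
    have h1 : u ∈ line D x w := by
      rw [line_proj h hws, e', ← line_proj h hu]
      exact right_mem_line hu.1
    have h2 := line_eq hS h.hx hw.1 hxw hws.2.1.symm h1 (right_mem_line hw.1) huw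
    have h3 := line_eq hS hp.1 hq.1 hpq hne' hul hw huw
    rw [← h3, h2]
    exact left_mem_line h.hx)
  have cwp := commute_of_mem_line hS hp.1 hq.1 hpq hne' hw (left_mem_line hp.1)
  have cwq := commute_of_mem_line hS hp.1 hq.1 hpq hne' hw (right_mem_line hq.1)
  have key : ∀ {u : G}, u ∈ sheet D x y → u ∈ line D p q → u ≠ w → Commute w u →
      Commute (proj D x y u) e →
      ∃ r ∈ fib D x y c, r ∈ line D u (proj D x y w) ∧ Commute e r := fun {u} hu hul huw cwu hue => by
    have hne2 := hsame hu hul huw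
    obtain ⟨h1, h2, h3, h4⟩ := cross_spec h hws hu cwu hne2
    have hc2 : pt D y w u = c := by
      refine (pt_unique hS hw.1 h.hy (fun e' => hws.2.2.2 e'.symm) ⟨hu.1, huw, cwu⟩ ?_
        (mem_nbr.1 hcN).2.2).symm
      rw [line_eq hS hp.1 hq.1 hpq hne' hw hul huw.symm]
      exact hcl
    have hwu' : Commute w (proj D x y u) := (commute_proj h hu hw.1 hxw.symm).1 cwu
    refine ⟨_, hc2 ▸ h3, cross_spec' h hws hu cwu hne2, ?_⟩
    exact commute_line hS hw.1 (mem_nbr.1 (proj_nbr h hu)).1 hwu' (sheet_ne_nbr h hws (proj_nbr h hu))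
      (left_mem_line hw.1) (right_mem_line (mem_nbr.1 (proj_nbr h hu)).1)
      (sheet_ne_nbr h hws (proj_nbr h hu)) heD hew hue.symm h4
  obtain ⟨r1, hr1, hr1', her1⟩ := key hp (left_mem_line hp.1) hwp.symm cwp hae
  obtain ⟨r2, hr2, hr2', her2⟩ := key hq (right_mem_line hq.1) hwq.symm cwq hbe
  have hl := mem_link_of_nbr hS h.hxy hcN
  have heq : r1 = r2 := unique_point hS h.hx hl.1 hl.2.2 hl.2.1.symm heD ((mem_fib_iff h hcN).1 hr1).1
    ((mem_fib_iff h hcN).1 hr2).1 her1 her2 (left_mem_line h.hx) hex
  subst heq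
  obtain ⟨hw'D, hxw', hyw'⟩ := mem_nbr.1 (proj_nbr h hws)
  have cl : ∀ {u : G}, u ∈ sheet D x y → Commute w u → Commute u (proj D x y w) := fun {u} hu cwu =>
    (commute_proj h hws hu.1 hu.2.2.1.symm).1 cwu.symm
  have hn := sheet_ne_nbr h hr1.1 (proj_nbr h hws)
  have e1 := line_eq hS hp.1 hw'D (cl hp cwp) (sheet_ne_nbr h hp (proj_nbr h hws)) hr1'
    (right_mem_line hw'D) hn
  have e2 := line_eq hS hq.1 hw'D (cl hq cwq) (sheet_ne_nbr h hq (proj_nbr h hws)) hr2'
    (right_mem_line hw'D) hn
  have hql : q ∈ line D p (proj D x y w) := by rw [← e1, e2]; exact left_mem_line hq.1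
  have e3 := line_eq hS hp.1 hw'D (cl hp cwp) (sheet_ne_nbr h hp (proj_nbr h hws))
    (left_mem_line hp.1) hql hne'
  have hw'l : proj D x y w ∈ line D p q := by rw [e3]; exact right_mem_line hw'D
  have hwc' : proj D x y w = c := unique_point hS hp.1 hq.1 hpq hne' h.hy hw'l hcl hyw'
    (mem_nbr.1 hcN).2.2 (left_mem_line hp.1) hp.2.2.2
  have e4 := line_eq hS hp.1 hq.1 hpq hne' hw hcl hwc
  have e5 := line_eq hS h.hx hw.1 hxw hws.2.1.symm (right_mem_line hw.1) (hwc' ▸ proj_line h hws) hwc
  exact hav (by rw [← e4, e5]; exact left_mem_line h.hx)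

theorem psi_plane {p q : G} (hp : p ∈ sheet D x y) (hq : q ∈ sheet D x y) (hpq : Commute p q)
    (hne : proj D x y p ≠ proj D x y q) :
    psi D x y p + psi D x y q = psi D x y (cross x y p q) := by
  obtain ⟨hcN, hcl, hr, hrl⟩ := cross_spec h hp hq hpq hne
  have hrl' := cross_spec' h hp hq hpq hne
  have hS := h.toSetting
  have hne' : p ≠ q := fun e => hne (congrArg _ e)
  have hav := line_avoid h hp hq hpq hne
  set a := proj D x y p with ha
  set b := proj D x y q with hb
  set c := pt D y p q with hc
  set r := cross x y p q with hrdef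
  obtain ⟨haD, hxa, hya⟩ := mem_nbr.1 (proj_nbr h hp)
  obtain ⟨hbD, hxb, hyb⟩ := mem_nbr.1 (proj_nbr h hq)
  obtain ⟨hcD, hxc, hyc⟩ := mem_nbr.1 hcN
  have hpb : Commute p b := (commute_proj h hq hp.1 hp.2.2.1.symm).1 hpq
  have hqa : Commute q a := (commute_proj h hp hq.1 hq.2.2.1.symm).1 hpq.symm
  have hnpb := sheet_ne_nbr h hp (proj_nbr h hq)
  have hnqa := sheet_ne_nbr h hq (proj_nbr h hp)
  funext t
  show psi D x y p t + psi D x y q t = psi D x y r t
  obtain ⟨hdD, hxd, hyd⟩ := mem_nbr.1 (proj_nbr h t.2)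
  set d := proj D x y (t : G) with hd
  have hdp : Commute d p ↔ Commute d a := commute_proj h hp hdD hxd.symm
  have hdq : Commute d q ↔ Commute d b := commute_proj h hq hdD hxd.symm
  -- translate the matching into commuting with one member
  have hτD : cj y (t : G) ∈ D := cj_mem h.cls h.hy t.2.1
  have hτN : ∀ {u : G}, u ∈ nbr D x y → (Commute (cj y (t : G)) u ↔ Commute d u) := fun {u} hu => by
    obtain ⟨huD, hxu, hyu⟩ := mem_nbr.1 hu
    conv_lhs => rw [← cj_eq_self h.cls h.hy hyu]
    rw [commute_cj_iff h.cls h.hy, Commute.symm_iff, commute_proj h t.2 huD hxu.symm,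
      Commute.symm_iff]
  have lineτ : ∀ {u v w : G}, u ∈ D → v ∈ D → Commute u v → u ≠ v → w ∈ line D u v →
      Commute (cj y (t : G)) u → Commute (cj y (t : G)) v → Commute (cj y (t : G)) w :=
    fun hu hv huv hne hw h1 h2 => commute_line hS hu hv huv hne (left_mem_line hu)
      (right_mem_line hv) hne hτD h1 h2 hw
  by_cases hda : Commute d a
  · by_cases hdb : Commute d b
    · have hdc : Commute d c := commute_line hS hp.1 hq.1 hpq hne' (left_mem_line hp.1)
        (right_mem_line hq.1) hne' hdD (hdp.2 hda) (hdq.2 hdb) hcl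
      rw [psi_zero (Or.inl (ha ▸ hda.symm)), psi_zero (Or.inl (hb ▸ hdb.symm)),
        psi_zero (Or.inl (hr.2.symm ▸ hdc.symm))]
      rfl
    · have hpc : p ≠ c := sheet_ne_nbr h hp hcN
      have hdc : ¬ Commute d c := fun e => hdb (hdq.1 (commute_line hS hp.1 hq.1 hpq hne'
        (left_mem_line hp.1) hcl hpc hdD (hdp.2 hda) e (right_mem_line hq.1)))
      have hra : r ≠ a := sheet_ne_nbr h hr.1 (proj_nbr h hp)
      have hτa := (hτN (proj_nbr h hp)).2 hda
      have e : Mat y q t ↔ Mat y r t := ⟨fun e' => (lineτ hq.1 haD hqa hnqa hrl' e'.symm hτa).symm,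
        fun e' => (commute_line hS hq.1 haD hqa hnqa hrl' (right_mem_line haD) hra hτD e'.symm hτa
          (left_mem_line hq.1)).symm⟩
      rw [psi_zero (Or.inl (ha ▸ hda.symm)), zero_add]
      by_cases hm : Mat y q t
      · rw [psi_zero (Or.inr hm), psi_zero (Or.inr (e.1 hm))]
      · rw [psi_one (hb ▸ fun e' => hdb e'.symm) hm,
          psi_one (hr.2.symm ▸ fun e' => hdc e'.symm) fun e' => hm (e.2 e')]
  · by_cases hdb : Commute d b
    · have hqc : q ≠ c := sheet_ne_nbr h hq hcN
      have hdc : ¬ Commute d c := fun e => hda (hdp.1 (commute_line hS hp.1 hq.1 hpq hne'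
        (right_mem_line hq.1) hcl hqc hdD (hdq.2 hdb) e (left_mem_line hp.1)))
      have hrb : r ≠ b := sheet_ne_nbr h hr.1 (proj_nbr h hq)
      have hτb := (hτN (proj_nbr h hq)).2 hdb
      have e : Mat y p t ↔ Mat y r t := ⟨fun e' => (lineτ hp.1 hbD hpb hnpb hrl e'.symm hτb).symm,
        fun e' => (commute_line hS hp.1 hbD hpb hnpb hrl (right_mem_line hbD) hrb hτD e'.symm hτb
          (left_mem_line hp.1)).symm⟩
      rw [psi_zero (p := q) (Or.inl (hb ▸ hdb.symm)), add_zero]
      by_cases hm : Mat y p t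
      · rw [psi_zero (Or.inr hm), psi_zero (Or.inr (e.1 hm))]
      · rw [psi_one (ha ▸ fun e' => hda e'.symm) hm,
          psi_one (hr.2.symm ▸ fun e' => hdc e'.symm) fun e' => hm (e.2 e')]
    · by_cases hdc : Commute d c
      · have hτc := (hτN hcN).2 hdc
        have hpc : p ≠ c := sheet_ne_nbr h hp hcN
        have hqc : q ≠ c := sheet_ne_nbr h hq hcN
        have e : Mat y p t ↔ Mat y q t :=
          ⟨fun e' => (commute_line hS hp.1 hq.1 hpq hne' (left_mem_line hp.1) hcl hpc hτD e'.symm hτc
              (right_mem_line hq.1)).symm,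
            fun e' => (commute_line hS hp.1 hq.1 hpq hne' (right_mem_line hq.1) hcl hqc hτD e'.symm
              hτc (left_mem_line hp.1)).symm⟩
        rw [psi_zero (p := r) (Or.inl (hr.2.symm ▸ hdc.symm))]
        by_cases hm : Mat y p t
        · rw [psi_zero (Or.inr hm), psi_zero (Or.inr (e.1 hm))]; rfl
        · rw [psi_one (ha ▸ fun e' => hda e'.symm) hm,
            psi_one (hb ▸ fun e' => hdb e'.symm) fun e' => hm (e.2 e')]
          decide
      · have v1 : ¬ Commute (proj D x y p) d := fun e => hda e.symm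
        have v2 : ¬ Commute (proj D x y q) d := fun e => hdb e.symm
        have v3 : ¬ Commute (proj D x y r) d := hr.2.symm ▸ fun e => hdc e.symm
        have n1 : Mat y p t → ¬ Mat y q t := fun e1 e2 => hdc ((hτN hcN).1
          (lineτ hp.1 hq.1 hpq hne' hcl e1.symm e2.symm))
        have meet : ∀ {u c' : G}, u ∈ sheet D x y → u ∈ line D p q → c' ∈ line D p q →
            proj D x y u = c' → False := fun {u c'} hu hul hc'l e => hav (by
          have hxu := hu.2.2.1
          have huc : u ≠ c' := e ▸ proj_ne h hu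
          have e1 := line_eq hS h.hx hu.1 hxu hu.2.1.symm (right_mem_line hu.1) (e ▸ proj_line h hu) huc
          have e2 := line_eq hS hp.1 hq.1 hpq hne' hul hc'l huc
          rw [← e2, e1]; exact left_mem_line h.hx)
        have hrp : p ≠ r := fun e => meet hp (left_mem_line hp.1) hcl (by
          have h2 := hr.2; rwa [← e] at h2)
        have hrq : q ≠ r := fun e => meet hq (right_mem_line hq.1) hcl (by
          have h2 := hr.2; rwa [← e] at h2)
        have n2 : Mat y p t → ¬ Mat y r t := fun e1 e2 => hdb ((hτN (proj_nbr h hq)).1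
          (commute_line hS hp.1 hbD hpb hnpb (left_mem_line hp.1) hrl hrp hτD e1.symm e2.symm
            (right_mem_line hbD)))
        have n3 : Mat y q t → ¬ Mat y r t := fun e1 e2 => hda ((hτN (proj_nbr h hp)).1
          (commute_line hS hq.1 haD hqa hnqa (left_mem_line hq.1) hrl' hrq hτD e1.symm e2.symm
            (right_mem_line haD)))
        have ex : Mat y p t ∨ Mat y q t ∨ Mat y r t := by
          by_contra hno
          push Not at hno
          obtain ⟨hnp, hnq, hnr⟩ := hno
          have hbN := proj_nbr h hq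
          -- the three members over `b`
          have hab : Commute a b := (commute_iff_proj h hp hq).1 hpq
          have good : ∀ {q' : G}, q' ∈ fib D x y b → Commute p q' ∧ proj D x y p ≠ proj D x y q' :=
            fun {q'} hq' => ⟨(commute_iff_proj h hp hq'.1).2 (by rw [hq'.2]; exact hab),
              by rw [hq'.2]; exact hne⟩
          have cinj : ∀ {q1 q2 : G}, q1 ∈ fib D x y b → q2 ∈ fib D x y b → pt D y p q1 = pt D y p q2 →
              q1 = q2 := fun {q1 q2} h1 h2 e => by_contra fun hn => by
            obtain ⟨g1, g1'⟩ := good h1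
            obtain ⟨g2, g2'⟩ := good h2
            obtain ⟨m1, l1, -⟩ := cross_spec h hp h1.1 g1 g1'
            obtain ⟨-, l2, -⟩ := cross_spec h hp h2.1 g2 g2'
            rw [← e] at l2
            have n1 := sheet_ne_nbr h hp m1
            have n1' : p ≠ q1 := fun e' => g1' (congrArg _ e')
            have n2' : p ≠ q2 := fun e' => g2' (congrArg _ e')
            have e1 := line_eq hS hp.1 h1.1.1 g1 n1' (left_mem_line hp.1) l1 n1
            have e2 := line_eq hS hp.1 h2.1.1 g2 n2' (left_mem_line hp.1) l2 n1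
            have hq2 : q2 ∈ line D p q1 := by rw [← e1, e2]; exact right_mem_line h2.1.1
            have e3 := line_eq hS hp.1 h1.1.1 g1 n1' (right_mem_line h1.1.1) hq2 hn
            have e4 := line_eq hS h.hx hbD hxb (mem_link_of_nbr hS h.hxy hbN).2.1.symm
              ((mem_fib_iff h hbN).1 h1).1 ((mem_fib_iff h hbN).1 h2).1 hn
            exact line_avoid h hp h1.1 g1 g1' (by rw [← e3, e4]; exact left_mem_line h.hx)
          have hoff : ∀ {q' : G}, q' ∈ fib D x y b →
              pt D y p q' ≠ a ∧ pt D y p q' ≠ b ∧ cross x y p q' ≠ p ∧ cross x y p q' ≠ b :=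
            fun {q'} hq' => by
              obtain ⟨g1, g1'⟩ := good hq'
              obtain ⟨m1, l1, m2, m3⟩ := cross_spec h hp hq'.1 g1 g1'
              have hav' := line_avoid h hp hq'.1 g1 g1'
              have n1' : p ≠ q' := fun e' => g1' (congrArg _ e')
              have mt : ∀ {u : G}, u ∈ sheet D x y → u ∈ line D p q' → pt D y p q' = proj D x y u →
                  False := fun {u} hu hul e => hav' (by
                have huc : u ≠ pt D y p q' := sheet_ne_nbr h hu m1
                have e1 := line_eq hS h.hx hu.1 hu.2.2.1 hu.2.1.symm (right_mem_line hu.1)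
                  (e.symm ▸ proj_line h hu) huc
                have e2 := line_eq hS hp.1 hq'.1.1 g1 n1' hul l1 huc
                rw [← e2, e1]; exact left_mem_line h.hx)
              refine ⟨fun e => mt hp (left_mem_line hp.1) e,
                fun e => mt hq'.1 (right_mem_line hq'.1.1) (e.trans hq'.2.symm),
                fun e => mt hp (left_mem_line hp.1) ?_, sheet_ne_nbr h m2.1 hbN⟩
              have h2 := m2.2
              rw [e] at h2
              exact h2.symm
          have hF := ncard_fib h hbN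
          obtain ⟨q1, q2, q3, h12, h13, h23, hFe⟩ := Set.ncard_eq_three.1 hF
          have hq1 : q1 ∈ fib D x y b := by rw [hFe]; simp
          have hq2 : q2 ∈ fib D x y b := by rw [hFe]; simp
          have hq3 : q3 ∈ fib D x y b := by rw [hFe]; simp
          have hane : a ≠ b := hne
          have inj2 : ∀ {q1 q2 : G}, q1 ∈ fib D x y b → q2 ∈ fib D x y b →
              cross x y p q1 = cross x y p q2 → q1 = q2 := fun h1 h2 e => cinj h1 h2 (by
            obtain ⟨-, -, r1, -⟩ := cross_spec h hp h1.1 (good h1).1 (good h1).2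
            obtain ⟨-, -, r2, -⟩ := cross_spec h hp h2.1 (good h2).1 (good h2).2
            have e1 := r1.2
            rw [e, r2.2] at e1
            exact e1.symm)
          have cover : ∀ {u v : G}, u ∈ D → v ∈ D → Commute u v → u ≠ v → ∀ (f : G → G),
              (∀ q' ∈ fib D x y b, f q' ∈ line D u v ∧ f q' ≠ u ∧ f q' ≠ v) →
              (∀ q1 ∈ fib D x y b, ∀ q2 ∈ fib D x y b, f q1 = f q2 → q1 = q2) →
              ∀ w ∈ line D u v, w ≠ u → w ≠ v → ∃ q' ∈ fib D x y b, f q' = w := by
            intro u v hu hv huv hne2 f hf hinj w hw hwu hwv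
            have e : f '' fib D x y b = line D u v \ {u, v} := by
              refine Set.eq_of_subset_of_ncard_le ?_ ?_ (Set.toFinite _)
              · rintro _ ⟨q', hq', rfl⟩
                exact ⟨(hf q' hq').1, fun e' => e'.elim (hf q' hq').2.1 (hf q' hq').2.2⟩
              · rw [Set.InjOn.ncard_image (fun a ha b hb e' => hinj a ha b hb e'), hF,
                  Set.ncard_sdiff (Set.insert_subset (left_mem_line hu) (Set.singleton_subset_iff.2
                    (right_mem_line hv))), Set.ncard_pair hne2, h.five u hu v hv huv hne2]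
            have hw' : w ∈ line D u v \ {u, v} := ⟨hw, fun e' => e'.elim hwu hwv⟩
            rw [← e] at hw'
            exact hw'
          -- a member over `b` whose point commutes with `d`
          obtain ⟨w, hw, hdw⟩ := exists_on_line hS haD hbD hab hane hdD
          obtain ⟨qj, hqj, hj⟩ := cover haD hbD hab hane (fun q' => pt D y p q')
            (fun q' hq' => ⟨by
              have := pt_mem_line_proj h hp hq'.1 (good hq').1 (good hq').2
              rwa [hq'.2, ← ha] at this, (hoff hq').1, (hoff hq').2.1⟩)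
            (fun _ h1 _ h2 e => cinj h1 h2 e) w hw (fun e => hda (by rw [e] at hdw; exact hdw)) fun e => hdb (by rw [e] at hdw; exact hdw)
          -- a member over `b` whose crossing is matched with `t`
          obtain ⟨w', hw', hτw⟩ := exists_on_line hS hp.1 hbD hpb hnpb hτD
          obtain ⟨qi, hqi, hi⟩ := cover hp.1 hbD hpb hnpb (fun q' => cross x y p q')
            (fun q' hq' => ⟨by
              have := (cross_spec h hp hq'.1 (good hq').1 (good hq').2).2.2.2
              rwa [hq'.2] at this, (hoff hq').2.2.1, (hoff hq').2.2.2⟩)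
            (fun _ h1 _ h2 e => inj2 h1 h2 e) w' hw' (fun e => hnp (e ▸ hτw.symm))
            fun e => hdb ((hτN hbN).1 (e ▸ hτw))
          obtain ⟨qk, hqk, hk⟩ := exists_partner h t.2 hbN fun e => hdb e.symm
          obtain ⟨-, -, hri, hril⟩ := cross_spec h hp hqi.1 (good hqi).1 (good hqi).2
          have hril' := cross_spec' h hp hqi.1 (good hqi).1 (good hqi).2
          have hmi : Mat y (cross x y p qi) t := hi ▸ hτw.symm
          have hdci : ¬ Commute d (pt D y p qi) := fun e =>
            proj_not_commute h hri.1 t.2 hmi (by rw [hri.2]; exact e.symm)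
          have hjk : qj ≠ qk := fun e => hnp (by
            subst e
            obtain ⟨mj, lj, -, -⟩ := cross_spec h hp hqj.1 (good hqj).1 (good hqj).2
            have hτc : Commute (cj y (t : G)) (pt D y p qj) := (hτN mj).2 (by
              rw [show pt D y p qj = w from hj]; exact hdw)
            have n1' : p ≠ qj := fun e' => (good hqj).2 (congrArg _ e')
            exact (commute_line hS hp.1 hqj.1.1 (good hqj).1 n1' (right_mem_line hqj.1.1) lj
              (sheet_ne_nbr h hqj.1 mj) hτD hk.symm hτc (left_mem_line hp.1)).symm)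
          have hij : qi ≠ qj := fun e => hdci (by
            rw [e, show pt D y p qj = w from hj]; exact hdw)
          have hik : qi ≠ qk := fun e => hda ((hτN (proj_nbr h hp)).1 (by
            subst e
            rw [← ha] at hril'
            exact commute_line hS hqi.1.1 haD ((commute_proj h hp hqi.1.1 hqi.1.2.2.1.symm).1
              (good hqi).1.symm) (sheet_ne_nbr h hqi.1 (proj_nbr h hp)) (left_mem_line hqi.1.1) hril'
              (fun e' => (hoff hqi).2.1 (by
                have h2 := hri.2
                rw [← e'] at h2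
                exact h2.symm.trans hqi.2)) hτD hk.symm hmi.symm (right_mem_line haD)))
          rcases third_fib h hbN hqi hqj hqk hij hik hjk ⟨hq, rfl⟩ with e | e | e
          · exact hnr (by rw [hrdef, e]; exact hmi)
          · refine hdc ?_
            rw [hc, e, show pt D y p qj = w from hj]
            exact hdw
          · exact hnq (e ▸ hk)
        rcases ex with e | e | e
        · rw [psi_zero (Or.inr e), psi_one v2 (n1 e), psi_one v3 (n2 e)]; rfl
        · rw [psi_zero (Or.inr e), psi_one v1 fun e' => n1 e' e, psi_one v3 (n3 e)]; rfl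
        · rw [psi_zero (Or.inr e), psi_one v1 fun e' => n2 e' e, psi_one v2 fun e' => n3 e' e]
          decide

end CfsgLib.FischerPolar
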