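import Cfsg.Agent.Lib.FischerPolar.Far

set_option autoImplicit false
set_option linter.unusedSectionVars false
set_option linter.unusedVariables false
set_option linter.unusedSimpArgs false

/-! The members are the isotropic points of the model. -/

namespace CfsgLib.FischerPolar

open CfsgLib.ThreeTrans

variable {m : ℕ} {G : Type*} [Group G] {D : Set G} [Finite G]

theorem hh_cross (a : F4) {n : ℕ} (u v : Fin n → F4) :
    hh (u + a • v) (u + a • v) = hh u u + (a ^ 2 * hh u v + (a ^ 2 * hh u v) ^ 2) + a ^ 3 * hh v v := by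
  simp only [hh_add_left, hh_add_right, hh_smul_left, hh_smul_right]
  rw [hh_swap u v, mul_pow, sq_sq]
  ring

variable {x y : G} (h : Frame D x y) {φ : ↥(sheet D x y) → (Fin m → F4)}
  (hc : Coords D x y m φ)

include h hc

/-- The rows of the sheet separate vectors. -/
theorem eq_zero_of_orth {u : Fin m → F4} (hu : ∀ p, hh u (φ p) = 0) : u = 0 := by
  by_contra hne
  rcases hh_self_cases u with hi | hi
  · obtain ⟨p, rfl⟩ := hc.onto u hne hi
    obtain ⟨w, hw, hpw⟩ := link_nonadj h.toSetting h.hx
      (mem_link_of_nbr h.toSetting h.hxy (proj_nbr h p.2))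
    have hd := pt_mem_nbr h.toSetting h.hx h.hy hw
    obtain ⟨h1, h2⟩ := pt_spec h.toSetting h.hx h.hy hw
    obtain ⟨t, ht⟩ : (fib D x y (pt D y x w)).Nonempty :=
      Set.nonempty_of_ncard_ne_zero (by rw [ncard_fib h hd]; omega)
    have := (hc.orth p ⟨t, ht.1⟩).1 (hu _)
    rw [ht.2] at this
    have hne' : x ≠ pt D y x w := fun e' => h.hxy (by rw [e']; exact h2.symm)
    exact hpw (commute_line h.toSetting h.hx hw.1 hw.2.2 hw.2.1.symm (left_mem_line h.hx) h1 hne'
      (mem_nbr.1 (proj_nbr h p.2)).1 (mem_nbr.1 (proj_nbr h p.2)).2.1.symm this (right_mem_line hw.1))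
  · obtain ⟨a, ha, b, hb, hab⟩ := nbr_not_clique h.toSetting h.hx h.hy h.hxy
    obtain ⟨p, hp⟩ : (fib D x y a).Nonempty :=
      Set.nonempty_of_ncard_ne_zero (by rw [ncard_fib h ha]; omega)
    obtain ⟨s, hs⟩ : (fib D x y b).Nonempty :=
      Set.nonempty_of_ncard_ne_zero (by rw [ncard_fib h hb]; omega)
    set P := φ ⟨p, hp.1⟩
    set Q := φ ⟨s, hs.1⟩
    have hQP : hh Q P ≠ 0 := fun e => hab (by
      have := (hc.orth _ _).1 e; rw [hp.2, hs.2] at this; exact this.symm)
    set c := (om * (hh Q P)⁻¹) ^ 2 with hcdef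
    have hiso : hh (u + (Q + c • P)) (u + (Q + c • P)) = 0 := by
      rw [show u + (Q + c • P) = u + (1 : F4) • (Q + c • P) by rw [one_smul], hh_cross]
      rw [hh_add_right, hh_smul_right, hu, hu, hi, hh_cross, hc.iso, hc.iso, hcdef, sq_sq]
      simp only [mul_assoc, inv_mul_cancel₀ hQP, mul_one, mul_zero, zero_add, add_zero, one_pow,
        zero_pow two_ne_zero, one_mul]
      linear_combination om_eq
    have hne2 : u + (Q + c • P) ≠ 0 := fun e => by
      have := congrArg (fun f => hh f P) e
      have hPu : hh u P = 0 := hu _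
      have hPP : hh P P = 0 := hc.iso _
      simp only [hh_add_left, hh_smul_left, hPu, hPP, hh_zero_left, mul_zero, add_zero,
        zero_add] at this
      exact hQP this
    obtain ⟨r, hr⟩ := hc.onto _ hne2 hiso
    have := hu r
    rw [hr, hh_add_right, hh_add_right, hh_smul_right, hi, hu, hu, mul_zero] at this
    exact one_ne_zero (by linear_combination this)

theorem exists_row_ne {w : Fin m → F4} (hw : hh w w = 1) : ∃ t, hh w (φ t) ≠ 0 := by
  by_contra! hall
  rw [eq_zero_of_orth h hc hall, hh_zero_left] at hw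
  exact zero_ne_one hw

/-- A row with prescribed nonzero value. -/
theorem exists_row_value {w : Fin m → F4} {t : ↥(sheet D x y)} (ht : hh w (φ t) ≠ 0) {g : F4}
    (hg : g ≠ 0) : ∃ t' : ↥(sheet D x y), proj D x y (t' : G) = proj D x y t ∧ hh w (φ t') = g := by
  set a := (g * (hh w (φ t))⁻¹) ^ 2 with hadef
  have ha : a ≠ 0 := pow_ne_zero 2 (mul_ne_zero hg (inv_ne_zero ht))
  obtain ⟨t', ht'⟩ := hc.onto (a • φ t) (smul_ne_zero ha (hc.ne _))
    (by rw [hh_smul_left, hh_smul_right, hc.iso, mul_zero, mul_zero])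
  refine ⟨t', ((hc.scal t t').2 ⟨a, ht'⟩).symm, ?_⟩
  rw [ht', hh_smul_right, hadef, sq_sq, mul_assoc, inv_mul_cancel₀ ht, mul_one]

theorem farVec_iso {e : G} {v : Fin (m + 2) → F4} (hv : FarVec φ e v) :
    hh v v = 0 ∧ v ≠ 0 ∧ cb v = 1 ∧ ca v ≠ 0 ∧ ca v ≠ 1 := by
  obtain ⟨α, w, rfl, h0, h1, hw, -⟩ := hv
  refine ⟨?_, fun e => h0 ?_, cb_mk _ _ _, (ca_mk α 1 w).symm ▸ h0, (ca_mk α 1 w).symm ▸ h1⟩
  · rw [hh_mk, hw]; linear_combination trace_one h0 h1 + two_zero
  · have := congrArg ca e
    rwa [ca_mk, show ca (0 : Fin (m + 2) → F4) = 0 by simp [ca]] at this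

theorem farVec_unique {e : G} {v v' : Fin (m + 2) → F4} (hv : FarVec φ e v)
    (hv' : FarVec φ e v') : v = v' := by
  obtain ⟨α, w, rfl, h0, h1, hw, hP⟩ := hv
  obtain ⟨α', w', rfl, h0', h1', hw', hP'⟩ := hv'
  have hiff : ∀ u, Near D x y u → (hh (mk α 1 w) (vec φ u) = 0 ↔ hh (mk α' 1 w') (vec φ u) = 0) :=
    fun u hu => (hP u hu).symm.trans (hP' u hu)
  have hN : ∀ t : ↥(sheet D x y), hh w (φ t) = 0 ↔ hh w' (φ t) = 0 := by
    intro t
    obtain ⟨q, hq, hvq⟩ := exists_vec_nbr h (φ := φ) (proj_nbr h t.2)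
    have := hiff _ (near_of_com h (mem_nbr.1 (proj_nbr h t.2)).1
      (mem_nbr.1 (proj_nbr h t.2)).2.1.symm)
    obtain ⟨c, hc'⟩ := (hc.scal q t).1 hq
    rw [hc', hh_smul_right, hh_smul_right]
    rw [hvq] at this
    simp only [hh_mk, mul_zero, zero_pow two_ne_zero, zero_add] at this
    simp [this]
  have hS : ∀ t : ↥(sheet D x y), hh w (φ t) = 1 ↔ hh w' (φ t) = 1 := by
    intro t
    have := hiff _ (near_of_com h t.2.1 t.2.2.2.1.symm)
    rw [vec_sheet h t.2] at this
    simp only [hh_mk, mul_zero, zero_pow two_ne_zero, zero_add, one_mul, one_pow, mul_one] at this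
    exact ⟨fun e' => by linear_combination this.1 (by rw [e']; exact add_self 1) - two_zero,
      fun e' => by linear_combination this.2 (by rw [e']; exact add_self 1) - two_zero⟩
  have hwval : ∀ t, hh (w + w') (φ t) = 0 := by
    intro t
    rw [hh_add_left]
    by_cases e0 : hh w (φ t) = 0
    · rw [e0, (hN t).1 e0, add_zero]
    obtain ⟨t', ht', ht''⟩ := exists_row_value h hc e0 one_ne_zero
    obtain ⟨c, hc'⟩ := (hc.scal t' t).1 ht'
    have e1 := (hS t').1 ht''
    rw [hc', hh_smul_right, hh_smul_right, ht'', e1]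
    exact add_self _
  have hww : w = w' := funext fun i => by
    have := congrFun (eq_zero_of_orth h hc hwval) i
    simp only [Pi.add_apply, Pi.zero_apply] at this
    linear_combination this - w' i * two_zero
  subst hww
  obtain ⟨t, ht⟩ := exists_row_ne h hc hw
  obtain ⟨t', -, ht'⟩ := exists_row_value h hc ht h0
  have htn := near_of_com h t'.2.1 t'.2.2.2.1.symm
  have := hiff _ (near_rho h htn)
  rw [vec_rho h htn, vec_sheet h t'.2, rotV_mk] at this
  simp only [hh_mk, mul_zero, zero_pow two_ne_zero, zero_add, add_zero, one_pow, mul_one] at this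
  rw [ht'] at this
  have e2 := this.1 (add_self α)
  have : α = α' := by linear_combination e2 - α' * two_zero
  rw [this]

theorem exists_farVec {e : G} (he : Far D x y e) : ∃ v, FarVec φ e v := by
  by_cases hall : ∃ a ∈ nbr D x y, ¬ Commute e a
  · obtain ⟨a, ha, hea⟩ := hall
    exact exists_farVec' h hc he ha hea
  push Not at hall
  exfalso
  have hS := h.toSetting
  obtain ⟨a, ha, b0, hb0, hab0⟩ := nbr_not_clique hS h.hx h.hy h.hxy
  obtain ⟨haD, hxa, hya⟩ := mem_nbr.1 ha
  have hea := hall a ha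
  have hne : e ≠ a := fun e' => he.2.1 (e' ▸ hxa.symm)
  obtain ⟨q, hq, hqe, hqa⟩ := exists_third hS he.1 haD hea hne
  have off : ∀ {u : G}, u ∈ D → Commute u a → Commute q u → Commute e u := fun {u} hu hua hqu =>
    (commute_line hS he.1 haD hea hne hq (right_mem_line haD) hqa hu hqu.symm hua
      (left_mem_line he.1)).symm
  have hqfar : Far D x y q := ⟨hq.1, fun e' => he.2.1 (off h.hx hxa e'),
    fun e' => he.2.2.1 (off h.hy hya e'), fun e' => he.2.2.2 (off (third_mem h) (nbr_third h ha).symm e')⟩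
  have excl : ∀ b ∈ nbr D x y, ¬ Commute b a → ¬ Commute q b := fun b hb hba e' =>
    hba (commute_line hS he.1 haD hea hne (left_mem_line he.1) hq hqe.symm (mem_nbr.1 hb).1
      (hall b hb).symm e'.symm (right_mem_line haD))
  obtain ⟨v, hv⟩ := exists_farVec' h hc hqfar hb0 (excl b0 hb0 fun e' => hab0 e'.symm)
  obtain ⟨α, w, rfl, h0, h1, hw, hP⟩ := hv
  obtain ⟨p, hp, hva⟩ := exists_vec_nbr h (φ := φ) ha
  have hwa := (hP a (near_of_com h haD hxa.symm)).1 (commute_of_mem_line hS he.1 haD hea hne hq
    (right_mem_line haD))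
  rw [hva, hh_mk] at hwa
  simp only [mul_zero, zero_pow two_ne_zero, zero_add] at hwa
  obtain ⟨s1, hs1⟩ : ∃ s : ↥(sheet D x y), hh (φ s) (φ p) ≠ 0 := by
    by_contra! hall'
    exact hc.ne p (eq_zero_of_orth h hc fun s => hh_comm_zero (hall' s))
  set s2 := φ s1 + hh (φ s1) w • w with hs2
  have hs2a : hh s2 (φ p) ≠ 0 := by
    rw [hs2, hh_add_left, hh_smul_left, hwa, mul_zero, add_zero]; exact hs1
  obtain ⟨c, hc2⟩ := exists_isotropic (hc.iso p) hs2a
  have hne2 : s2 + c • φ p ≠ 0 := fun e' => hs2a (by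
    have := congrArg (fun f => hh f (φ p)) e'
    simpa [hh_add_left, hh_smul_left, hc.iso, hh_zero_left] using this)
  obtain ⟨t, ht⟩ := hc.onto _ hne2 hc2
  have hwt : hh w (φ t) = 0 := by
    rw [ht]
    simp only [hs2, hh_add_right, hh_smul_right, hwa, hw]
    rw [hh_swap (φ s1) w, mul_one, mul_zero, add_zero]
    exact add_self _
  obtain ⟨bq, hbq, hvb⟩ := exists_vec_nbr h (φ := φ) (proj_nbr h t.2)
  obtain ⟨d, hd⟩ := (hc.scal t bq).1 hbq.symm
  have hb := proj_nbr h t.2
  have hqb : Commute q (proj D x y t) := (hP _ (near_of_com h (mem_nbr.1 hb).1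
    (mem_nbr.1 hb).2.1.symm)).2 (by
    rw [hvb, hh_mk, hd, hh_smul_right, hwt]; simp)
  refine excl _ hb (fun e' => ?_) hqb
  have := (hc.orth t p).2 (by rw [hp]; exact e')
  rw [ht, hh_add_left, hh_smul_left, hc.iso, mul_zero, add_zero] at this
  exact hs2a this

theorem farVec_injective {e e' : G} (he : Far D x y e) (he' : Far D x y e') {v : Fin (m + 2) → F4}
    (hv : FarVec φ e v) (hv' : FarVec φ e' v) : e = e' := by
  obtain ⟨α, w, rfl, h0, h1, hw, hP⟩ := hv
  obtain ⟨α', w', hvv, -, -, -, hP'⟩ := hv'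
  have hiff : ∀ u, Near D x y u → (Commute e u ↔ Commute e' u) :=
    fun u hu => (hP u hu).trans (hP' u hu).symm
  obtain ⟨t, ht⟩ := exists_row_ne h hc hw
  set a := proj D x y (t : G) with hadef
  have ha := proj_nbr h t.2
  have han := near_of_com h (mem_nbr.1 ha).1 (mem_nbr.1 ha).2.1.symm
  have hea : ¬ Commute e a := fun e1 => ht (by
    obtain ⟨q, hq, hvq⟩ := exists_vec_nbr h (φ := φ) ha
    obtain ⟨c, hc'⟩ := (hc.scal q t).1 hq
    have := (hP a han).1 e1
    rw [hvq, hh_mk] at this
    simp only [mul_zero, zero_pow two_ne_zero, zero_add] at this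
    rw [hc', hh_smul_right, this, mul_zero])
  have hea' : ¬ Commute e' a := fun e1 => hea ((hiff a han).2 e1)
  have he1 := far_rho h he
  have hea1 : ¬ Commute (rho x y e) a := by rwa [commute_rho_nbr h ha]
  obtain ⟨hp, hp'⟩ := trace_spec h he1.1 he1.2.1 ha hea1
  set p := pt D (rho x y e) x a
  have hpn := near_of_com h hp.1.1 hp.1.2.2.1.symm
  have hep : Commute e (rho x y (rho x y p)) := by
    have := (commute_rho_iff h _ _).2 ((commute_rho_iff h _ _).2 hp')
    rwa [rho_cube h] at this
  have hep' : Commute e' (rho x y (rho x y p)) := (hiff _ (near_rho h (near_rho h hpn))).1 hep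
  obtain ⟨s, hs, a1, a2, a3⟩ := exists_rep h hc he hp.1 hep (by rw [hp.2]; exact hea)
  obtain ⟨s', hs', b1, b2, b3⟩ := exists_rep h hc he' hp.1 hep' (by rw [hp.2]; exact hea')
  have key : ∀ u, u ∈ D → Commute u x → (Commute (rho x y s) u ↔ Commute (rho x y s') u) := by
    intro u hu hux
    have := hiff _ (near_of_com h (cj_mem h.cls hp.1.1 hu) (commute_cj hp.1.2.2.1 hux.symm).symm)
    rwa [a3, b3, commute_cj_iff h.cls hp.1.1, commute_cj_iff h.cls hp.1.1] at this
  have hN : ∀ d ∈ nbr D x y, (Commute d (proj D x y s) ↔ Commute d (proj D x y s')) := by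
    intro d hd
    obtain ⟨hdD, hxd, hyd⟩ := mem_nbr.1 hd
    have k := key d hdD hxd.symm
    rwa [commute_rho_nbr h hd, commute_rho_nbr h hd, Commute.symm_iff, commute_proj h hs hdD hxd.symm,
      Commute.symm_iff (a := s'), commute_proj h hs' hdD hxd.symm] at k
  have hpsi : psi D x y s = psi D x y s' := by
    funext u
    have k1 := key u u.2.1 u.2.2.2.1.symm
    rw [Commute.symm_iff, Commute.symm_iff (a := rho x y s'), ← mat_iff_rho h u.2.2.2.1,
      ← mat_iff_rho h u.2.2.2.1] at k1
    have k2 := hN _ (proj_nbr h u.2)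
    by_cases hz : Commute (proj D x y s) (proj D x y u) ∨ Mat y s u
    · rw [psi_zero hz, psi_zero (hz.imp (fun e1 => (k2.1 e1.symm).symm)
        fun e1 => mat_symm h (k1.1 (mat_symm h e1)))]
    · push Not at hz
      rw [psi_one hz.1 hz.2, psi_one (fun e1 => hz.1 (k2.2 e1.symm).symm)
        fun e1 => hz.2 (mat_symm h (k1.2 (mat_symm h e1)))]
  rw [a3, b3, psi_injective h hs hs' hpsi]

theorem exists_far_of {v : Fin (m + 2) → F4} (hiso : hh v v = 0) (ha : ca v ≠ 0) (hb : cb v ≠ 0)
    (hab : ca v ≠ cb v) :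
    ∃ (e : G) (c : F4) (v' : Fin (m + 2) → F4),
      Far D x y e ∧ c ≠ 0 ∧ FarVec φ e v' ∧ v = c • v' := by
  set c := cb v with hcdef
  set α := c⁻¹ * ca v with hαdef
  set w := c⁻¹ • cw v with hwdef
  have hv : v = c • mk α 1 w := by
    rw [mk_smul, hαdef, hwdef, smul_smul, ← mul_assoc, mul_inv_cancel₀ hb, one_smul, one_mul,
      mul_one]
    exact (mk_eta v).symm
  have h0 : α ≠ 0 := mul_ne_zero (inv_ne_zero hb) ha
  have h1 : α ≠ 1 := fun e => hab (by
    have := congrArg (fun z => c * z) e
    simpa [hαdef, ← mul_assoc, mul_inv_cancel₀ hb] using this)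
  have hw : hh w w = 1 := by
    have e : hh (mk α 1 w) (mk α 1 w) = 0 := by
      rw [hv, hh_smul_left, hh_smul_right] at hiso
      simpa [hb] using hiso
    rw [hh_mk] at e
    linear_combination e - trace_one h0 h1 - two_zero
  clear_value α w c
  obtain ⟨t, ht⟩ := exists_row_ne h hc hw
  have hg0 : (1 : F4) + α ≠ 0 := fun e => h1 (by linear_combination e - two_zero)
  have hg1 : (1 : F4) + α ≠ 1 := fun e => h0 (by linear_combination e)
  obtain ⟨p, -, hp⟩ := exists_row_value h hc ht hg0
  set r := w + α • φ p with hrdef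
  have hriso : hh r r = 0 := by
    rw [hrdef, hh_cross, hp, hw, hc.iso, mul_zero, add_zero]
    have e1 : α ^ 2 * (1 + α) = α := by
      linear_combination cube_one h0 + trace_one h0 h1 + (1 - α) * two_zero
    rw [e1, trace_one h0 h1]
    exact add_self 1
  have hrp : hh r (φ p) = 1 + α := by
    rw [hrdef, hh_add_left, hh_smul_left, hc.iso, hp, mul_zero, add_zero]
  have hrne : r ≠ 0 := fun e => hg0 (by rw [← hrp, e, hh_zero_left])
  obtain ⟨s, hs⟩ := hc.onto r hrne hriso
  have hps : ¬ Commute (proj D x y (p : G)) (proj D x y s) := fun e =>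
    hg0 (by rw [← hrp, ← hs]; exact (hc.orth s p).2 e.symm)
  have hm : ¬ Mat y (p : G) s := fun e =>
    hg1 (by rw [← hrp, ← hs]; exact (hc.mate s p).2 (mat_symm h e))
  obtain ⟨hfar, v', hv', hv'e⟩ := farVec_of_cj h hc p.2 s.2 hps hm
  refine ⟨_, c, v', hfar, hb, hv', ?_⟩
  rw [hv, hv'e, Subtype.coe_eta, Subtype.coe_eta, hs, hrp]
  have e1 : (1 : F4) + (1 + α) = α := by linear_combination two_zero
  rw [e1, hrdef]
  refine congrArg (c • ·) (congrArg (mk α 1) (funext fun i => ?_))
  simp only [Pi.add_apply, Pi.smul_apply, smul_eq_mul]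
  linear_combination -(α * φ p i) * two_zero

/-- The line through a far member and a member of the sheet. -/
theorem far_span {e t : G} (he : Far D x y e) (ht : t ∈ sheet D x y) (het : Commute e t) {α : F4}
    {w : Fin m → F4} (h0 : α ≠ 0) (h1 : α ≠ 1) (hw : hh w w = 1)
    (hP : ∀ u, Near D x y u → (Commute e u ↔ hh (mk α 1 w) (vec φ u) = 0)) :
    ∃ s, ∃ hs : s ∈ sheet D x y, rho x y s ∈ line D e t ∧ rho x y s ≠ t ∧
      hh (φ ⟨t, ht⟩) (φ ⟨s, hs⟩) = 1 ∧ w = α • φ ⟨t, ht⟩ + φ ⟨s, hs⟩ := by
  have hS := h.toSetting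
  have hne : e ≠ t := fun e' => he.2.1 (e' ▸ ht.2.2.1.symm)
  obtain ⟨u, hu, hyu⟩ := exists_on_line hS he.1 ht.1 het hne h.hy
  have hut : u ≠ t := fun e' => ht.2.2.2 (e' ▸ hyu)
  have hux : ¬ Commute u x := fun e' => he.2.1 (commute_line hS he.1 ht.1 het hne hu
    (right_mem_line ht.1) hut h.hx e'.symm ht.2.2.1 (left_mem_line he.1)).symm
  have huy : u ≠ y := fun e' => he.2.2.1 (commute_of_mem_line hS he.1 ht.1 het hne
    (left_mem_line he.1) (e' ▸ hu))
  have huz : ¬ Commute u (cj x y) := fun e' => hux (commute_third_of' h hyu.symm e')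
  set s := rho x y (rho x y u) with hsdef
  have hρs : rho x y s = u := rho_cube h u
  have hsx : Commute s x := by
    rw [hsdef, rho_commute_left h, rho_commute_third h]; exact hyu.symm
  have hs : s ∈ sheet D x y := ⟨rho_mem h (rho_mem h hu.1), fun e' => huy (by
    rw [← hρs, e', rho_left h]), hsx.symm, fun e' => huz (by
    rw [← hρs, rho_commute_third h]; exact e'.symm)⟩
  have hm : Mat y t s := (mat_iff_rho h ht.2.2.1).2 (by
    rw [hρs]; exact commute_of_mem_line hS he.1 ht.1 het hne (right_mem_line ht.1) hu)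
  have hval : hh (φ ⟨t, ht⟩) (φ ⟨s, hs⟩) = 1 := (hc.mate _ _).2 hm
  have hval' : hh (φ ⟨s, hs⟩) (φ ⟨t, ht⟩) = 1 := by rw [hh_swap, hval, one_pow]
  refine ⟨s, hs, hρs ▸ hu, hρs ▸ hut, hval, ?_⟩
  set P := φ ⟨t, ht⟩ with hPdef
  set S := φ ⟨s, hs⟩ with hSdef
  have hsn := near_of_com h hs.1 hs.2.2.1.symm
  have htn := near_of_com h ht.1 ht.2.2.1.symm
  have hwP : hh w P = 1 := by
    have h2 := (hP t htn).1 het
    rw [vec_sheet h ht, hh_mk] at h2
    simp only [mul_zero, zero_pow two_ne_zero, zero_add, one_pow, mul_one] at h2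
    linear_combination h2 - two_zero
  have hwS : hh w S = α := by
    have h2 := (hP _ (near_rho h hsn)).1
      (commute_of_mem_line hS he.1 ht.1 het hne (left_mem_line he.1) (hρs ▸ hu))
    rw [vec_rho h hsn, vec_sheet h hs, rotV_mk, hh_mk] at h2
    simp only [mul_zero, zero_pow two_ne_zero, zero_add, add_zero, one_pow, mul_one] at h2
    linear_combination h2 - α * two_zero
  set w0 := w + (α • P + S) with hw0def
  have hw0P : hh w0 P = 0 := by
    rw [hw0def, hh_add_left, hh_add_left, hh_smul_left, hwP, hval', hPdef, hc.iso, mul_zero,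
      zero_add]
    exact add_self 1
  have hw0S : hh w0 S = 0 := by
    simp only [hw0def, hh_add_left, hh_smul_left, hwS, hval, mul_one]
    rw [hSdef, hc.iso, add_zero]
    exact add_self α
  have hiso : hh w0 w0 = 0 := by
    have : hh w0 w0 = hh w w + (hh (α • P + S) w) := by
      conv_lhs => rw [hw0def, hh_add_right, hh_add_right, hh_smul_right, ← hw0def, hw0P, hw0S,
        mul_zero, add_zero, add_zero, hw0def, hh_add_left]
    rw [this, hw, hh_add_left, hh_smul_left, hh_swap w P, hh_swap w S, hwP, hwS, one_pow, mul_one]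
    linear_combination trace_one h0 h1 + two_zero
  have test : ∀ k, k ≠ 0 → hh k k = 0 → hh k P = 0 → hh k S = 0 → hh w0 k = 0 := by
    intro k hk hki hkP hkS
    have hv0 : mk 0 0 k ≠ (0 : Fin (m + 2) → F4) := fun e' => hk (by
      have := congrArg cw e'; rw [cw_mk] at this; exact this)
    obtain ⟨z, c, hzn, hc0, hz⟩ := exists_near h hc hv0 (by rw [hh_mk, hki]; simp)
      (Or.inl (ca_mk _ _ _))
    have hzc : ∀ {a : Fin (m + 2) → F4}, hh a (mk 0 0 k) = 0 ↔ hh a (vec φ z) = 0 := fun {a} => by
      rw [hz]; exact hh_smul_eq_zero hc0 _ _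
    have c1 : Commute z t := (commute_iff_near h hc hzn htn).2 (hh_comm_zero (hzc.1 (by
      rw [vec_sheet h ht, hh_mk, ← hPdef, hh_comm_zero hkP]; simp)))
    have c2 : Commute z u := by
      rw [← hρs]
      refine (commute_iff_near h hc hzn (near_rho h hsn)).2 (hh_comm_zero (hzc.1 ?_))
      rw [vec_rho h hsn, vec_sheet h hs, rotV_mk, hh_mk, ← hSdef, hh_comm_zero hkS]
      simp
    have c3 := commute_line hS he.1 ht.1 het hne hu (right_mem_line ht.1) hut hzn.1 c2 c1
      (left_mem_line he.1)
    have h2 := hzc.2 ((hP z hzn).1 c3.symm)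
    rw [hh_mk] at h2
    simp only [mul_zero, zero_pow two_ne_zero, zero_add] at h2
    rw [hw0def, hh_add_left, h2, zero_add, hh_add_left, hh_smul_left, hh_comm_zero hkP,
      hh_comm_zero hkS, mul_zero, add_zero]
  by_cases hw00 : w0 = 0
  · funext i
    have := congrFun hw00 i
    simp only [hw0def, Pi.add_apply, Pi.smul_apply, smul_eq_mul, Pi.zero_apply] at this ⊢
    linear_combination this - (α * P i + S i) * two_zero
  exfalso
  obtain ⟨r, hr⟩ := hc.onto w0 hw00 hiso
  obtain ⟨s1, hs1⟩ : ∃ s : ↥(sheet D x y), hh (φ s) w0 ≠ 0 := by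
    by_contra! hall'
    exact hw00 (eq_zero_of_orth h hc fun s => hh_comm_zero (hall' s))
  set s2 := φ s1 + (hh (φ s1) S • P + hh (φ s1) P • S) with hs2
  have hPw : hh P w0 = 0 := hh_comm_zero hw0P
  have hSw : hh S w0 = 0 := hh_comm_zero hw0S
  have k1 : hh s2 w0 ≠ 0 := by
    simp only [hs2, hh_add_left, hh_smul_left, hPw, hSw, mul_zero, add_zero]; exact hs1
  have k2 : hh s2 P = 0 := by
    simp only [hs2, hh_add_left, hh_smul_left, hval']
    rw [hPdef, hc.iso, mul_zero, mul_one, zero_add]
    exact add_self _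
  have k3 : hh s2 S = 0 := by
    simp only [hs2, hh_add_left, hh_smul_left, hval]
    rw [hSdef, hc.iso, mul_zero, mul_one, add_zero]
    exact add_self _
  obtain ⟨c, hck⟩ := exists_isotropic hiso k1
  have e1 : hh (s2 + c • w0) P = 0 := by rw [hh_add_left, hh_smul_left, k2, hw0P, mul_zero, add_zero]
  have e2 : hh (s2 + c • w0) S = 0 := by rw [hh_add_left, hh_smul_left, k3, hw0S, mul_zero, add_zero]
  have e3 : hh (s2 + c • w0) w0 = hh s2 w0 := by
    rw [hh_add_left, hh_smul_left, hiso, mul_zero, add_zero]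
  have hne3 : s2 + c • w0 ≠ 0 := fun e' => k1 (by rw [← e3, e', hh_zero_left])
  exact k1 (e3 ▸ hh_comm_zero (test _ hne3 hck e1 e2))

theorem far_orth {e e' : G} (he : Far D x y e) (he' : Far D x y e') (hne : e ≠ e')
    (hcom : Commute e e') {v v' : Fin (m + 2) → F4} (hv : FarVec φ e v) (hv' : FarVec φ e' v') :
    hh v v' = 0 := by
  have hS := h.toSetting
  obtain ⟨α, w, rfl, h0, h1, hw, hP⟩ := hv
  obtain ⟨α', w', rfl, h0', h1', hw', hP'⟩ := hv'
  obtain ⟨t, ht, hxt⟩ := exists_on_line hS he.1 he'.1 hcom hne h.hx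
  have het := commute_of_mem_line hS he.1 he'.1 hcom hne (left_mem_line he.1) ht
  have he't := commute_of_mem_line hS he.1 he'.1 hcom hne (right_mem_line he'.1) ht
  have htx : t ≠ x := fun e1 => he.2.1 (e1 ▸ het)
  have hte : t ≠ e := fun e1 => he.2.1 (by rw [← e1]; exact hxt.symm)
  have hte' : t ≠ e' := fun e1 => he'.2.1 (by rw [← e1]; exact hxt.symm)
  rcases (cases_com h ht.1 hxt.symm).resolve_left htx with htN | hts
  · -- the line meets the neighbourhood
    obtain ⟨q, -, hvt⟩ := exists_vec_nbr h (φ := φ) htN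
    set uc := φ q with hucdef
    have huc0 : hh uc uc = 0 := hc.iso q
    have htn := near_of_com h ht.1 hxt.symm
    have hwu : hh w uc = 0 := by
      have := (hP t htn).1 het
      simpa [hvt, hh_mk] using this
    have hwu' : hh w' uc = 0 := by
      have := (hP' t htn).1 he't
      simpa [hvt, hh_mk] using this
    have test : ∀ (a b : F4) (k : Fin m → F4), hh k k = 0 → (a = 0 ∨ b = 0 ∨ a = b) →
        mk a b k ≠ (0 : Fin (m + 2) → F4) → hh (mk α 1 w) (mk a b k) = 0 →
        hh (mk α' 1 w') (mk a b k) = 0 → hh uc k = 0 := by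
      intro a b k hk hab hne0 t1 t2
      have hiso : hh (mk a b k) (mk a b k) = 0 := by
        rw [hh_mk, hk]
        rcases hab with rfl | rfl | rfl
        · simp
        · simp
        · linear_combination a ^ 3 * two_zero
      obtain ⟨z, c, hzn, hc0, hz⟩ := exists_near h hc hne0 hiso (by rw [ca_mk, cb_mk]; exact hab)
      rw [hz, hh_smul_eq_zero hc0] at t1 t2
      have c3 := commute_line hS he.1 he'.1 hcom hne (left_mem_line he.1) (right_mem_line he'.1) hne
        hzn.1 ((hP z hzn).2 t1).symm ((hP' z hzn).2 t2).symm ht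
      have := (commute_iff_near h hc htn hzn).1 c3.symm
      rw [← hh_smul_eq_zero hc0, ← hz, hvt, hh_mk] at this
      simpa using this
    by_cases hex : ∃ s, hh s w = 0 ∧ hh s w' = 0 ∧ hh s uc ≠ 0
    · exfalso
      obtain ⟨s, s1, s2, s3⟩ := hex
      obtain ⟨c, hck⟩ := exists_isotropic huc0 s3
      have k3 : hh (s + c • uc) uc = hh s uc := by
        rw [hh_add_left, hh_smul_left, huc0, mul_zero, add_zero]
      have hne0 : mk 0 0 (s + c • uc) ≠ (0 : Fin (m + 2) → F4) := fun e1 => s3 (by
        have := congrArg cw e1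
        rw [cw_mk, show cw (0 : Fin (m + 2) → F4) = (0 : Fin m → F4) from rfl] at this
        rw [← k3, this, hh_zero_left])
      refine s3 (k3 ▸ hh_comm_zero (test 0 0 _ hck (Or.inl rfl) hne0 ?_ ?_))
      · simp [hh_mk, hh_add_right, hh_smul_right, hh_comm_zero s1, hwu]
      · simp [hh_mk, hh_add_right, hh_smul_right, hh_comm_zero s2, hwu']
    push Not at hex
    obtain ⟨s1, hs1⟩ : ∃ s : Fin m → F4, hh s uc = 1 := by
      obtain ⟨s, hs⟩ : ∃ s, hh uc s ≠ 0 := by
        by_contra! hall'
        exact hc.ne q (hh_nondeg hall')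
      have hs' : hh s uc ≠ 0 := fun e1 => hs (hh_comm_zero e1)
      exact ⟨(hh s uc)⁻¹ • s, by rw [hh_smul_left, inv_mul_cancel₀ hs']⟩
    set s2 := s1 + hh s1 w • w with hs2def
    have hs2w : hh s2 w = 0 := by rw [hs2def, hh_add_left, hh_smul_left, hw, mul_one]; exact add_self _
    have hs2u : hh s2 uc = 1 := by
      rw [hs2def, hh_add_left, hh_smul_left, hwu, mul_zero, add_zero, hs1]
    set γ := hh s2 w' with hγdef
    have hγ : γ ≠ 0 := fun e1 => one_ne_zero (hs2u ▸ hex s2 hs2w e1)
    set P := hh w' w with hPdef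
    have hPsw : hh w w' = P ^ 2 := hh_swap w' w
    have hkey : ∀ k, hh k uc = γ⁻¹ * hh k (w' + P • w) := by
      intro k
      set k' := k + hh k w • w
      set k'' := k' + (hh k' w' * γ⁻¹) • s2
      have a1 : hh k' w = 0 := by
        simp only [k', hh_add_left, hh_smul_left, hw, mul_one]; exact add_self _
      have a2 : hh k'' w = 0 := by
        simp only [k'', hh_add_left, hh_smul_left, a1, hs2w, mul_zero, add_zero]
      have a3 : hh k'' w' = 0 := by
        simp only [k'', hh_add_left, hh_smul_left, ← hγdef]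
        rw [mul_assoc, inv_mul_cancel₀ hγ, mul_one]; exact add_self _
      have a4 := hex k'' a2 a3
      simp only [k'', k', hh_add_left, hh_smul_left, hwu, hs2u, hPsw] at a4
      rw [hh_add_right, hh_smul_right]
      linear_combination a4 - γ⁻¹ * (hh k w' + P ^ 2 * hh k w) * two_zero
    set κ := γ⁻¹ ^ 2 with hκdef
    have huc : uc = κ • (w' + P • w) := by
      have hz : uc + κ • (w' + P • w) = 0 := hh_nondeg fun k => hh_comm_zero (by
        rw [hh_add_right, hh_smul_right, hκdef, sq_sq, ← hkey k]; exact add_self _)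
      funext i
      have := congrFun hz i
      simp only [Pi.add_apply, Pi.zero_apply] at this
      linear_combination this - (κ • (w' + P • w)) i * two_zero
    have hκ0 : κ ≠ 0 := pow_ne_zero 2 (inv_ne_zero hγ)
    have hP0 : P ≠ 0 := by
      intro e1
      rw [huc, hh_smul_right, hh_add_right, hh_smul_right, hw', ← hPdef, e1] at hwu'
      simp [hκ0] at hwu'
    -- a vector with prescribed values
    have pick : ∀ A A' : F4, ∃ k, hh k k = 0 ∧ hh w k = A ∧ hh w' k = A' ∨
        κ ^ 2 * (A' ^ 2 + P ^ 2 * A ^ 2) = 0 := by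
      intro A A'
      by_cases hC : κ ^ 2 * (A' ^ 2 + P ^ 2 * A ^ 2) = 0
      · exact ⟨0, Or.inr hC⟩
      set C := κ ^ 2 * (A' ^ 2 + P ^ 2 * A ^ 2) with hCdef
      set k := A ^ 2 • w + C • s2 with hkdef
      have b1 : hh k w = A ^ 2 := by
        rw [hkdef, hh_add_left, hh_smul_left, hh_smul_left, hw, hs2w, mul_one, mul_zero, add_zero]
      have b2 : hh k uc = C := by
        rw [hkdef, hh_add_left, hh_smul_left, hh_smul_left, hwu, hs2u, mul_one, mul_zero, zero_add]
      have b3 : hh k w' = A' ^ 2 := by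
        have b2' := b2
        rw [huc, hh_smul_right, hh_add_right, hh_smul_right, b1, hCdef] at b2'
        have := mul_left_cancel₀ (pow_ne_zero 2 hκ0) b2'
        linear_combination this
      obtain ⟨c, hck⟩ := exists_isotropic huc0 (show hh k uc ≠ 0 by rw [b2]; exact hC)
      refine ⟨k + c • uc, Or.inl ⟨hck, ?_, ?_⟩⟩
      · rw [hh_add_right, hh_smul_right, hwu, mul_zero, add_zero, hh_swap k w, b1, sq_sq]
      · rw [hh_add_right, hh_smul_right, hwu', mul_zero, add_zero, hh_swap k w', b3, sq_sq]
    have hPone : P = 1 := by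
      obtain ⟨k, ⟨k0, k1, k2⟩ | hk⟩ := pick 1 1
      · have hne0 : mk 1 0 k ≠ (0 : Fin (m + 2) → F4) := fun e1 => one_ne_zero (α := F4) (by
          have := congrArg ca e1; rwa [ca_mk, show ca (0 : Fin (m + 2) → F4) = 0 by simp [ca]] at this)
        have := hh_comm_zero (test 1 0 k k0 (Or.inr (Or.inl rfl)) hne0
          (by simp [hh_mk, k1, add_self]) (by simp [hh_mk, k2, add_self]))
        rw [huc, hh_smul_right, hh_add_right, hh_smul_right, hh_swap w' k, hh_swap w k, k1, k2,
          one_pow, mul_one, mul_eq_zero] at this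
        have e1 := this.resolve_left (pow_ne_zero 2 hκ0)
        have e2 : P ^ 2 = 1 := by linear_combination e1 - two_zero
        rw [← sq_sq P, e2, one_pow]
      · rw [one_pow, mul_one, mul_eq_zero] at hk
        have e2 : P ^ 2 = 1 := by
          linear_combination hk.resolve_left (pow_ne_zero 2 hκ0) - two_zero
        rw [← sq_sq P, e2, one_pow]
    have hαα : α = α' := by
      have sqinj : α' ^ 2 + α ^ 2 = 0 → α = α' := fun e1 => by
        have : α ^ 2 = α' ^ 2 := by linear_combination e1 - α' ^ 2 * two_zero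
        rw [← sq_sq α, this, sq_sq]
      obtain ⟨k, ⟨k0, k1, k2⟩ | hk⟩ := pick α α'
      · have hne0 : mk 0 1 k ≠ (0 : Fin (m + 2) → F4) := fun e1 => one_ne_zero (α := F4) (by
          have := congrArg cb e1
          rwa [cb_mk, show cb (0 : Fin (m + 2) → F4) = 0 by simp [cb, ca]] at this)
        have := hh_comm_zero (test 0 1 k k0 (Or.inl rfl) hne0
          (by simp [hh_mk, k1, add_self]) (by simp [hh_mk, k2, add_self]))
        rw [huc, hh_smul_right, hh_add_right, hh_smul_right, hh_swap w' k, hh_swap w k, k1, k2,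
          hPone, one_pow, one_mul, mul_eq_zero] at this
        exact sqinj (this.resolve_left (pow_ne_zero 2 hκ0))
      · rw [hPone, one_pow, one_mul, mul_eq_zero] at hk
        exact sqinj (hk.resolve_left (pow_ne_zero 2 hκ0))
    rw [hh_mk, hPsw, hPone, ← hαα, one_pow, mul_one, one_mul]
    linear_combination trace_one h0 h1 + two_zero
  · -- the line meets the sheets
    obtain ⟨s, hs, hsl, hst, hval, hweq⟩ := far_span h hc he hts het h0 h1 hw hP
    obtain ⟨s', hs', hsl', hst', hval', hweq'⟩ := far_span h hc he' hts he't h0' h1' hw' hP'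
    have hL := line_eq hS he.1 he'.1 hcom hne (left_mem_line he.1) ht hte.symm
    have hL' := line_eq hS he.1 he'.1 hcom hne (right_mem_line he'.1) ht hte'.symm
    rw [hL] at hsl
    rw [hL'] at hsl'
    have hyu : ∀ {s : G}, s ∈ sheet D x y → Commute y (rho x y s) := fun {s} hs =>
      ((rho_commute_right h).2 hs.2.2.1.symm).symm
    have hss : rho x y s = rho x y s' := unique_point hS he.1 he'.1 hcom hne h.hy hsl hsl'
      (hyu hs) (hyu hs') ht hts.2.2.2
    have hss' : s = s' := by
      have := congrArg (fun z => rho x y (rho x y z)) hss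
      simpa [rho_cube h] using this
    subst hss'
    have hval2 : hh (φ ⟨s, hs⟩) (φ ⟨t, hts⟩) = 1 := by rw [hh_swap, hval, one_pow]
    rw [hweq, hweq', hh_mk]
    simp only [hh_add_left, hh_add_right, hh_smul_left, hh_smul_right, hc.iso, hval, hval2,
      mul_zero, mul_one, one_mul, zero_add, add_zero, one_pow]
    linear_combination (α + α' ^ 2) * two_zero

theorem far_commute {e e' : G} (he : Far D x y e) (he' : Far D x y e')
    {v v' : Fin (m + 2) → F4} (hv : FarVec φ e v) (hv' : FarVec φ e' v') (hvv : hh v v' = 0) :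
    Commute e e' := by
  have hS := h.toSetting
  have hvc := hv
  have hvc' := hv'
  obtain ⟨α, w, rfl, h0, h1, hw, hP⟩ := hv
  obtain ⟨α', w', rfl, h0', h1', hw', hP'⟩ := hv'
  by_contra hnc
  set T0 := mk α 1 w + mk α' 1 w' with hT0
  have hT0' : T0 = mk (α + α') 0 (w + w') := by rw [hT0, mk_add, add_self]
  have hvs := (farVec_iso h hc hvc).1
  have hvs' := (farVec_iso h hc hvc').1
  have hvT : hh (mk α 1 w) T0 = 0 := by rw [hT0, hh_add_right, hvs, hvv, add_zero]
  have hv'T : hh (mk α' 1 w') T0 = 0 := by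
    rw [hT0, hh_add_right, hvs', hh_comm_zero hvv, add_zero]
  have hTiso : hh T0 T0 = 0 := by
    conv_lhs => arg 1; rw [hT0]
    rw [hh_add_left, hvT, hv'T, add_zero]
  have hT00 : T0 ≠ 0 := fun e1 => hnc (by
    have : mk α 1 w = mk α' 1 w' := funext fun i => by
      have := congrFun e1 i
      simp only [hT0, Pi.add_apply, Pi.zero_apply] at this
      linear_combination this - mk α' 1 w' i * two_zero
    rw [farVec_injective h hc he he' (this ▸ hvc) hvc'])
  obtain ⟨t, c, htn, hc0, htv⟩ := exists_near h hc hT00 hTiso (Or.inr (Or.inl (by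
    rw [hT0', cb_mk])))
  rw [htv, hh_smul_eq_zero hc0] at hvT hv'T
  have het := (hP t htn).2 hvT
  have he't := (hP' t htn).2 hv'T
  have htx : Commute t x := (commute_iff_near h hc htn (near_of_com h h.hx (Commute.refl x))).2 (by
    have e1 : hh (mk (α + α') 0 (w + w')) (vec φ x) = 0 := by
      rw [vec_left h, hh_mk, hh_zero_right]; simp
    rw [← hT0', htv, hh_smul_left, mul_eq_zero] at e1
    exact e1.resolve_left hc0)
  have htx' : t ≠ x := fun e1 => he.2.1 (e1 ▸ het)
  rcases (cases_com h htn.1 htx).resolve_left htx' with htN | hts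
  · -- the meeting point lies in the neighbourhood
    obtain ⟨q, -, hvt⟩ := exists_vec_nbr h (φ := φ) htN
    set uc := φ q with hucdef
    rw [hT0', hvt, mk_smul, mul_zero] at htv
    obtain ⟨hαz, -, hwz⟩ := mk_inj htv
    have hαα : α' = α := by linear_combination hαz - α * two_zero
    have hw'eq : w' = w + c • uc := by
      funext i
      have := congrFun hwz i
      simp only [Pi.add_apply] at this ⊢
      linear_combination this - w i * two_zero
    have huc0 : hh uc uc = 0 := hc.iso q
    have hwu : hh w uc = 0 := by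
      have := hvT
      simpa [hvt, hh_mk] using this
    have hne : e ≠ t := fun e1 => he.2.1 (e1 ▸ htx)
    obtain ⟨s1, hs1⟩ : ∃ s : Fin m → F4, hh s uc = 1 := by
      obtain ⟨s, hs⟩ : ∃ s, hh uc s ≠ 0 := by
        by_contra! hall'
        exact hc.ne q (hh_nondeg hall')
      have hs' : hh s uc ≠ 0 := fun e1 => hs (hh_comm_zero e1)
      exact ⟨(hh s uc)⁻¹ • s, by rw [hh_smul_left, inv_mul_cancel₀ hs']⟩
    set s2 := s1 + hh s1 w • w with hs2def
    have hs2w : hh s2 w = 0 := by rw [hs2def, hh_add_left, hh_smul_left, hw, mul_one]; exact add_self _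
    have hs2u : hh s2 uc = 1 := by
      rw [hs2def, hh_add_left, hh_smul_left, hwu, mul_zero, add_zero, hs1]
    -- the further points of the line
    have form : ∀ f ∈ line D e t, f ≠ e → f ≠ t →
        Far D x y f ∧ ∃ b : F4, b ≠ 0 ∧ FarVec φ f (mk α 1 (w + b • uc)) := by
      intro f hf hfe hft
      have cft := commute_right hS htn.1 het hf
      have cfe := commute_left hS he.1 het hf
      obtain ⟨htD, hxt, hyt⟩ := mem_nbr.1 htN
      have off : ∀ {u : G}, u ∈ D → Commute u t → Commute f u → Commute e u := fun {u} hu hut hfu =>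
        (commute_line hS he.1 htD het hne hf (right_mem_line htD) hft hu hfu.symm hut
          (left_mem_line he.1)).symm
      have hffar : Far D x y f := ⟨hf.1, fun e1 => he.2.1 (off h.hx hxt e1),
        fun e1 => he.2.2.1 (off h.hy hyt e1),
        fun e1 => he.2.2.2 (off (third_mem h) (nbr_third h htN).symm e1)⟩
      obtain ⟨vf, hvfc⟩ := exists_farVec h hc hffar
      have hvf0 := hvfc
      obtain ⟨β, wf, rfl, b0, b1, hwf, hPf⟩ := hvfc
      have horth := far_orth h hc he hffar hfe.symm cfe.symm hvc hvf0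
      have hwfu : hh wf uc = 0 := by
        have := (hPf t htn).1 cft
        simpa [hvt, hh_mk] using this
      have test : ∀ (a b : F4) (k : Fin m → F4), hh k k = 0 → (a = 0 ∨ b = 0 ∨ a = b) →
          mk a b k ≠ (0 : Fin (m + 2) → F4) → hh (mk α 1 w) (mk a b k) = 0 → hh uc k = 0 →
          hh (mk β 1 wf) (mk a b k) = 0 := by
        intro a b k hk hab hne0 t1 t2
        have hiso : hh (mk a b k) (mk a b k) = 0 := by
          rw [hh_mk, hk]
          rcases hab with rfl | rfl | rfl
          · simp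
          · simp
          · linear_combination a ^ 3 * two_zero
        obtain ⟨z, d, hzn, hd0, hz⟩ := exists_near h hc hne0 hiso (by rw [ca_mk, cb_mk]; exact hab)
        have hzt : Commute t z := (commute_iff_near h hc htn hzn).2 (by
          rw [← hh_smul_eq_zero hd0, ← hz, hvt, hh_mk]; simpa using t2)
        rw [hz, hh_smul_eq_zero hd0] at t1 ⊢
        exact (hPf z hzn).1 (commute_line hS he.1 htD het hne (left_mem_line he.1)
          (right_mem_line htD) hne hzn.1 ((hP z hzn).2 t1).symm hzt.symm hf).symm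
      have killed : ∀ k, hh k w = 0 → hh k uc = 0 → hh wf k = 0 := by
        intro k k1 k2
        rcases hh_self_cases k with ki | ki
        · by_cases hk : k = 0
          · rw [hk, hh_zero_right]
          have hne0 : mk 0 0 k ≠ (0 : Fin (m + 2) → F4) := fun e1 => hk (by
            have := congrArg cw e1; rw [cw_mk] at this; exact this)
          have := test 0 0 k ki (Or.inl rfl) hne0 (by simp [hh_mk, hh_comm_zero k1])
            (hh_comm_zero k2)
          simpa [hh_mk] using this
        · have one : ∀ d : F4, d ≠ 0 → 1 + (hh wf w + d ^ 2 * hh wf k) = 0 := by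
            intro d hd
            have hiso : hh (w + d • k) (w + d • k) = 0 := by
              rw [hh_cross, hh_comm_zero k1, hw, ki, cube_one hd]
              linear_combination two_zero
            have hne0 : mk 1 0 (w + d • k) ≠ (0 : Fin (m + 2) → F4) := fun e1 =>
              one_ne_zero (α := F4) (by
                have := congrArg ca e1
                rwa [ca_mk, show ca (0 : Fin (m + 2) → F4) = 0 by simp [ca]] at this)
            have := test 1 0 _ hiso (Or.inr (Or.inl rfl)) hne0
              (by simp [hh_mk, hh_add_right, hh_smul_right, hh_comm_zero k1, hw, add_self])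
              (by rw [hh_add_right, hh_smul_right, hh_comm_zero hwu, hh_comm_zero k2]; simp)
            simpa [hh_mk, hh_add_right, hh_smul_right] using this
          have d1 := one 1 one_ne_zero
          have d2 := one om om_ne_zero
          have : (1 + om ^ 2) * hh wf k = 0 := by
            linear_combination d2 - d1 + hh wf k * two_zero
          exact (mul_eq_zero.1 this).resolve_left fun e1 =>
            om_sq_ne.2.1 (by linear_combination e1 - two_zero)
      set A := hh wf w with hAdef
      set B := hh wf s2 with hBdef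
      have hr : wf + (A • w + B • uc) = 0 := hh_nondeg fun k => by
        set k' := k + (hh k w • w + hh k uc • s2) with hk'
        have k1 : hh k' w = 0 := by
          simp only [hk', hh_add_left, hh_smul_left, hw, hs2w, mul_one, mul_zero, add_zero]
          exact add_self _
        have k2 : hh k' uc = 0 := by
          simp only [hk', hh_add_left, hh_smul_left, hwu, hs2u, mul_one, mul_zero, zero_add]
          exact add_self _
        set r := wf + (A • w + B • uc) with hrdef
        have r1 : hh r w = 0 := by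
          simp only [hrdef, hh_add_left, hh_smul_left, hw, hh_comm_zero hwu, mul_one, mul_zero,
            add_zero, ← hAdef]
          exact add_self _
        have r2 : hh r s2 = 0 := by
          simp only [hrdef, hh_add_left, hh_smul_left, hh_comm_zero hs2w, mul_zero, zero_add]
          rw [hh_swap s2 uc, hs2u, one_pow, mul_one, ← hBdef]
          exact add_self _
        have e1 : hh r k' = hh r k := by
          simp only [hk', hh_add_right, hh_smul_right, r1, r2, mul_zero, add_zero]
        have e2 : hh r k' = 0 := by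
          simp only [hrdef, hh_add_left, hh_smul_left, killed k' k1 k2, hh_comm_zero k1,
            hh_comm_zero k2, mul_zero, add_zero]
        rw [← e1, e2]
      have hwfeq : wf = A • w + B • uc := funext fun i => by
        have := congrFun hr i
        simp only [Pi.add_apply, Pi.zero_apply] at this ⊢
        linear_combination this - ((A • w) i + (B • uc) i) * two_zero
      have hcz : α + β ^ 2 + A ^ 2 = 0 := by
        rw [hh_mk, hh_swap wf w, ← hAdef] at horth
        simpa using horth
      have hA0 : A ≠ 0 := fun e1 => by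
        rw [hwfeq, e1, zero_smul, zero_add, hh_smul_left, hh_smul_right, huc0, mul_zero,
          mul_zero] at hwf
        exact zero_ne_one hwf
      have hβα : β = α := by
        by_contra hne2
        have := third_value b0 b1 hne2 h0 h1
        rw [this] at hcz
        refine pow_ne_zero 2 hA0 ?_
        linear_combination hcz - trace_one h0 h1 - (α + 1) * two_zero
      subst hβα
      have hA1 : A = 1 := by
        have e1 : A ^ 2 = 1 := by linear_combination hcz - trace_one b0 b1 - two_zero
        rw [← sq_sq A, e1, one_pow]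
      rw [hwfeq, hA1, one_smul] at hvf0
      refine ⟨hffar, B, fun e1 => hfe ?_, hvf0⟩
      rw [e1, zero_smul, add_zero] at hvf0
      exact farVec_injective h hc hffar he hvf0 hvc
    rw [hαα, hw'eq] at hvc'
    -- three further points take all three values
    choose! hfar b hb0 hb using form
    set S := line D e t \ {e, t} with hSdef
    have hScard : S.ncard = 3 := by
      rw [hSdef, Set.ncard_sdiff (Set.insert_subset (left_mem_line he.1) (Set.singleton_subset_iff.2
        (right_mem_line htn.1))), Set.ncard_pair hne, h.five e he.1 t htn.1 het hne]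
    have hmem : ∀ {f : G}, f ∈ S → f ∈ line D e t ∧ f ≠ e ∧ f ≠ t := fun {f} hf => by
      simp only [hSdef, Set.mem_sdiff, Set.mem_insert_iff, Set.mem_singleton_iff, not_or] at hf
      exact ⟨hf.1, hf.2.1, hf.2.2⟩
    have himg : b '' S = {z : F4 | z ≠ 0} := by
      refine Set.eq_of_subset_of_ncard_le ?_ ?_ (Set.toFinite _)
      · rintro _ ⟨f, hf, rfl⟩
        exact hb0 f (hmem hf).1 (hmem hf).2.1 (hmem hf).2.2
      · rw [Set.InjOn.ncard_image (fun f hf g hg e1 => ?_), hScard]
        · have : ({z : F4 | z ≠ 0}) = Set.univ \ {0} := by ext z; simp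
          rw [this, Set.ncard_sdiff_singleton_of_mem (Set.mem_univ _), Set.ncard_univ, natCard_F4]
        · have a1 := hb f (hmem hf).1 (hmem hf).2.1 (hmem hf).2.2
          rw [e1] at a1
          exact farVec_injective h hc (hfar f (hmem hf).1 (hmem hf).2.1 (hmem hf).2.2)
            (hfar g (hmem hg).1 (hmem hg).2.1 (hmem hg).2.2) a1
            (hb g (hmem hg).1 (hmem hg).2.1 (hmem hg).2.2)
    have hcc : c ∈ b '' S := by rw [himg]; exact hc0
    obtain ⟨f, hf, hbf⟩ := hcc
    obtain ⟨f1, f2, f3⟩ := hmem hf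
    have a1 := hb f f1 f2 f3
    rw [hbf] at a1
    exact hnc (farVec_injective h hc (hfar f f1 f2 f3) he' a1 hvc' ▸ (commute_left hS he.1 het f1).symm)
  · -- the meeting point lies in the sheet
    obtain ⟨s, hs, hsl, hst, hval, hweq⟩ := far_span h hc he hts het h0 h1 hw hP
    have hne : e ≠ t := fun e1 => he.2.1 (e1 ▸ htx)
    have hsn := near_of_com h hs.1 hs.2.2.1.symm
    have e3 : mk α 1 w = α • vec φ t + vec φ (rho x y s) := by
      rw [vec_rho h hsn, vec_sheet h hts, vec_sheet h hs, rotV_mk, mk_smul, mk_add, hweq]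
      simp
    have h5 : hh (mk α' 1 w') (vec φ (rho x y s)) = 0 := by
      have := hh_comm_zero hvv
      rw [e3, hh_add_right, hh_smul_right, hv'T, mul_zero, zero_add] at this
      exact this
    have hes := (hP' _ (near_rho h hsn)).2 h5
    exact hnc (commute_line hS he.1 hts.1 het hne hsl (right_mem_line hts.1) hst he'.1 hes he't
      (left_mem_line he.1)).symm

end CfsgLib.FischerPolar
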