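import Cfsg.Agent.Lib.FischerPolar.Cover

set_option autoImplicit false
set_option linter.unusedSectionVars false
set_option linter.unusedVariables false

/-! The rows of the cover and the relations between them. -/

namespace CfsgLib.FischerPolar

open CfsgLib.ThreeTrans

variable {G : Type*} [Group G] {D : Set G} [Finite G]

open Classical in
/-- The row of a member of the sheet. -/
noncomputable def psi (D : Set G) (x y p : G) : ↥(sheet D x y) → ZMod 2 := fun t =>
  if Commute (proj D x y p) (proj D x y t) ∨ Mat y p t then 0 else 1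

/-- The meet of two crossed lines in a singular plane. -/
def cross (x y p q : G) : G := cj y (cj x (cj p (cj q y)))

theorem psi_zero {x y p : G} {t : ↥(sheet D x y)}
    (h : Commute (proj D x y p) (proj D x y t) ∨ Mat y p t) : psi D x y p t = 0 := by
  classical
  exact if_pos h

theorem psi_one {x y p : G} {t : ↥(sheet D x y)} (h1 : ¬ Commute (proj D x y p) (proj D x y t))
    (h2 : ¬ Mat y p t) : psi D x y p t = 1 := by
  classical
  exact if_neg fun h => h.elim h1 h2

theorem psi_eq_zero_iff {x y p : G} {t : ↥(sheet D x y)} :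
    psi D x y p t = 0 ↔ Commute (proj D x y p) (proj D x y t) ∨ Mat y p t := by
  refine ⟨fun h0 => by_contra fun hc => ?_, psi_zero⟩
  push Not at hc
  rw [psi_one hc.1 hc.2] at h0
  exact one_ne_zero h0

variable {x y : G} (h : Frame D x y)

include h

theorem psi_symm (p s : ↥(sheet D x y)) : psi D x y p s = psi D x y s p := by
  by_cases hc : Commute (proj D x y (p : G)) (proj D x y s)
  · rw [psi_zero (Or.inl hc), psi_zero (Or.inl hc.symm)]
  · by_cases hm : Mat y (p : G) s
    · rw [psi_zero (Or.inr hm), psi_zero (Or.inr (mat_symm h hm))]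
    · rw [psi_one hc hm, psi_one (fun e => hc e.symm) fun e => hm (mat_symm h e)]

theorem psi_fib_sum {a p q r : G} (ha : a ∈ nbr D x y) (hp : p ∈ fib D x y a)
    (hq : q ∈ fib D x y a) (hr : r ∈ fib D x y a) (hpq : p ≠ q) (hpr : p ≠ r) (hqr : q ≠ r) :
    psi D x y p + psi D x y q + psi D x y r = 0 := by
  funext t
  show psi D x y p t + psi D x y q t + psi D x y r t = 0
  by_cases hc : Commute a (proj D x y (t : G))
  · rw [psi_zero (Or.inl (hp.2 ▸ hc)), psi_zero (Or.inl (hq.2 ▸ hc)), psi_zero (Or.inl (hr.2 ▸ hc))]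
    rfl
  · obtain ⟨u, hu, hm⟩ := exists_partner h t.2 ha hc
    have one : ∀ {v : G}, v ∈ fib D x y a → v ≠ u → psi D x y v t = 1 := fun {v} hv hvu =>
      psi_one (hv.2 ▸ hc) fun e => hvu (partner_unique h t.2 ha hv hu e hm)
    rcases third_fib h ha hp hq hr hpq hpr hqr hu with rfl | rfl | rfl
    · rw [psi_zero (Or.inr hm), one hq hpq.symm, one hr hpr.symm]; decide
    · rw [psi_zero (Or.inr hm), one hp hpq, one hr hqr.symm]; decide
    · rw [psi_zero (Or.inr hm), one hp hpr, one hq hqr]; decide

theorem at_most_one {p s t : G} (hp : p ∈ sheet D x y) (hs : s ∈ sheet D x y) (hm : Mat y p s)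
    (ht : t ∈ sheet D x y) (hpt : Mat y p t) (hst : Mat y s t) :
    Commute (cj (proj D x y p) (proj D x y s)) (proj D x y t) := by
  have hc := mem_nbr.1 (mat_cj_mem h hp hs hm)
  have h1 : Commute (cj y t) (cj p s) := commute_cj hpt.symm hst.symm
  rw [← cj_eq_self h.cls h.hy hc.2.2, commute_cj_iff h.cls h.hy] at h1
  rw [← mat_cj_eq h hp hs hm]
  exact (commute_proj h ht hc.1 hc.2.1.symm).1 h1.symm

theorem psi_triangle {p s : G} (hp : p ∈ sheet D x y) (hs : s ∈ sheet D x y) (hm : Mat y p s) :
    psi D x y p + psi D x y s = psi D x y (cj (proj D x y p) s) := by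
  obtain ⟨hr, hpr, hsr, hrr⟩ := triangle h hp hs hm
  set a := proj D x y p with ha
  set b := proj D x y s with hb
  set r := cj a s with hrdef
  obtain ⟨haD, hxa, hya⟩ := mem_nbr.1 (proj_nbr h hp)
  obtain ⟨hbD, hxb, hyb⟩ := mem_nbr.1 (proj_nbr h hs)
  have hab : ¬ Commute a b := proj_not_commute h hp hs hm
  have hcN := mat_cj_mem h hp hs hm
  have hceq : cj p s = cj a b := mat_cj_eq h hp hs hm
  obtain ⟨hcD, hxc, hyc⟩ := mem_nbr.1 (hceq ▸ hcN)
  funext t
  show psi D x y p t + psi D x y s t = psi D x y r t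
  obtain ⟨htD, -, -, -⟩ := t.2
  set d := proj D x y (t : G)
  obtain ⟨hdD, -, -⟩ := mem_nbr.1 (proj_nbr h t.2)
  -- a member of the neighbourhood fixing `t`
  have key : ∀ {u v : G}, u ∈ D → Commute u x → Commute u y → Commute u d →
      (Mat y (cj u v) t ↔ Mat y v t) := fun {u v} hu hux huy hud => by
    have e := mat_cj h (p := v) (s := (t : G)) hu huy
    rwa [cj_eq_self h.cls hu ((commute_proj h t.2 hu hux).2 hud)] at e
  by_cases hda : Commute d a
  · by_cases hdb : Commute d b
    · rw [psi_zero (Or.inl hda.symm), psi_zero (Or.inl hdb.symm),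
        psi_zero (Or.inl (hr.2.symm ▸ (commute_cj hda hdb).symm))]
      rfl
    · have hdc : ¬ Commute d (cj a b) := not_commute_cj h.cls haD hda hdb
      have e := key (u := a) (v := s) haD hxa.symm hya.symm hda.symm
      rw [← hrdef] at e
      rw [psi_zero (Or.inl hda.symm), zero_add]
      by_cases hst : Mat y s t
      · rw [psi_zero (Or.inr hst), psi_zero (Or.inr (e.2 hst))]
      · rw [psi_one (fun e' => hdb e'.symm) hst,
          psi_one (hr.2.symm ▸ fun e' => hdc e'.symm) fun e' => hst (e.1 e')]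
  · by_cases hdb : Commute d b
    · have hdc : ¬ Commute d (cj a b) := by
        rw [cj_comm h.cls haD hbD hab]; exact not_commute_cj h.cls hbD hdb hda
      have e := key (u := b) (v := p) hbD hxb.symm hyb.symm hdb.symm
      rw [← hrr] at e
      rw [psi_zero (p := s) (Or.inl hdb.symm), add_zero]
      by_cases hpt : Mat y p t
      · rw [psi_zero (Or.inr hpt), psi_zero (Or.inr (e.2 hpt))]
      · rw [psi_one (fun e' => hda e'.symm) hpt,
          psi_one (hr.2.symm ▸ fun e' => hdc e'.symm) fun e' => hpt (e.1 e')]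
    · by_cases hdc : Commute d (cj a b)
      · have hswap : cj (cj a b) p = s := by
          rw [← hceq, cj_comm h.cls hp.1 hs.1 (mat_not_commute h hp hs hm)]
          exact cj_third h.cls hs.1 hp.1 fun e => mat_not_commute h hp hs hm e.symm
        have e := key (u := cj a b) (v := p) hcD hxc.symm hyc.symm hdc.symm
        rw [hswap] at e
        rw [psi_zero (p := r) (Or.inl (hr.2.symm ▸ hdc.symm))]
        by_cases hpt : Mat y p t
        · rw [psi_zero (Or.inr hpt), psi_zero (Or.inr (e.2 hpt))]; rfl
        · rw [psi_one (fun e' => hda e'.symm) hpt,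
            psi_one (fun e' => hdb e'.symm) fun e' => hpt (e.1 e')]
          decide
      · have one : ∀ {p s : G}, p ∈ sheet D x y → s ∈ sheet D x y → Mat y p s → Mat y p t →
            Mat y s t → Commute d (cj (proj D x y p) (proj D x y s)) := fun hp hs hm h1 h2 =>
          (at_most_one h hp hs hm t.2 h1 h2).symm
        have n1 : Mat y p t → ¬ Mat y s t := fun e1 e2 => hdc (one hp hs hm e1 e2)
        have n2 : Mat y p t → ¬ Mat y r t := fun e1 e2 => hdb (by
          have := one hp hr.1 hpr e1 e2
          rwa [← ha, hr.2, cj_cj h.cls haD] at this)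
        have n3 : Mat y s t → ¬ Mat y r t := fun e1 e2 => hda (by
          have := one hs hr.1 hsr e1 e2
          rwa [← hb, hr.2, cj_comm h.cls haD hbD hab, cj_cj h.cls hbD] at this)
        -- the three partners of `t` give three different members over `a`
        have ex : Mat y p t ∨ Mat y s t ∨ Mat y r t := by
          have hna := proj_nbr h hp
          have hnb := proj_nbr h hs
          have hab' : ¬ Commute b a := fun e => hab e.symm
          obtain ⟨ua, hua, hua'⟩ := exists_partner h t.2 hna fun e => hda e.symm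
          obtain ⟨ub, hub, hub'⟩ := exists_partner h t.2 hnb fun e => hdb e.symm
          obtain ⟨uc, huc, huc'⟩ := exists_partner h t.2 (hceq ▸ hcN) fun e => hdc e.symm
          have hca : ¬ Commute a (cj a b) := not_commute_cj h.cls haD (Commute.refl a) hab
          obtain ⟨pb, hpb, hpb'⟩ := exists_partner h hub.1 hna (hub.2.symm ▸ hab)
          obtain ⟨pc, hpc, hpc'⟩ := exists_partner h huc.1 hna (huc.2.symm ▸ hca)
          have d1 : ua ≠ pb := fun e => hdc (by
            subst e
            have := one hua.1 hub.1 hpb' hua' hub'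
            rwa [hua.2, hub.2] at this)
          have d2 : ua ≠ pc := fun e => hdb (by
            subst e
            have := one hua.1 huc.1 hpc' hua' huc'
            rwa [hua.2, huc.2, cj_cj h.cls haD] at this)
          have d3 : pb ≠ pc := fun e => hda (by
            subst e
            obtain ⟨hr', hpr', hsr', -⟩ := triangle h hpb.1 hub.1 hpb'
            rw [hpb.2, hub.2] at hr'
            rw [hpb.2] at hpr' hsr'
            have e' := partner_unique h hpb.1 (hceq ▸ hcN) hr' huc (mat_symm h hpr')
              (mat_symm h hpc')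
            have := one hub.1 huc.1 (e' ▸ hsr') hub' huc'
            rwa [hub.2, huc.2, cj_comm h.cls haD hbD hab, cj_cj h.cls hbD] at this)
          rcases third_fib h hna hua hpb hpc d1 d2 d3 ⟨hp, rfl⟩ with e | e | e
          · exact Or.inl (e ▸ hua')
          · refine Or.inr (Or.inl ?_)
            rw [← partner_unique h hp hnb hub ⟨hs, rfl⟩ (mat_symm h (e.symm ▸ hpb')) (mat_symm h hm)]
            exact hub'
          · refine Or.inr (Or.inr ?_)
            rw [← partner_unique h hp (hceq ▸ hcN) huc hr (mat_symm h (e.symm ▸ hpc'))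
              (mat_symm h hpr)]
            exact huc'
        have v1 : ¬ Commute (proj D x y p) d := fun e => hda e.symm
        have v2 : ¬ Commute (proj D x y s) d := fun e => hdb e.symm
        have v3 : ¬ Commute (proj D x y r) d := hr.2.symm ▸ fun e => hdc e.symm
        rcases ex with e | e | e
        · rw [psi_zero (Or.inr e), psi_one v2 (n1 e), psi_one v3 (n2 e)]; rfl
        · rw [psi_zero (Or.inr e), psi_one v1 fun e' => n1 e' e, psi_one v3 (n3 e)]; rfl
        · rw [psi_zero (Or.inr e), psi_one v1 fun e' => n2 e' e, psi_one v2 fun e' => n3 e' e]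
          decide

theorem psi_injective {p q : G} (hp : p ∈ sheet D x y) (hq : q ∈ sheet D x y)
    (e : psi D x y p = psi D x y q) : p = q := by
  by_contra hne
  have ha := proj_nbr h hp
  have hb := proj_nbr h hq
  by_cases hab : proj D x y p = proj D x y q
  · obtain ⟨w, hw, hpw⟩ := link_nonadj h.toSetting h.hx (mem_link_of_nbr h.toSetting h.hxy ha)
    have hwN := pt_mem_nbr h.toSetting h.hx h.hy hw
    have hnc : ¬ Commute (pt D y x w) (proj D x y p) := fun hc => hpw (by
      obtain ⟨hpw1, hpw2⟩ := pt_spec h.toSetting h.hx h.hy hw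
      have hne' : x ≠ pt D y x w := fun e' => h.hxy (by rw [e']; exact hpw2.symm)
      exact commute_line h.toSetting h.hx hw.1 hw.2.2 hw.2.1.symm (left_mem_line h.hx)
        hpw1 hne' (mem_nbr.1 ha).1 (mem_nbr.1 ha).2.1.symm hc.symm (right_mem_line hw.1))
    obtain ⟨t, ht, hm⟩ := exists_partner h hp hwN hnc
    have h0 := congrFun e ⟨t, ht.1⟩
    rw [psi_zero (Or.inr (mat_symm h hm))] at h0
    have hc' : ¬ Commute (proj D x y q) (proj D x y t) := by
      rw [← hab, ht.2]; exact fun e' => hnc e'.symm
    have hpa : p ∈ fib D x y (proj D x y p) := ⟨hp, rfl⟩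
    have hqa : q ∈ fib D x y (proj D x y p) := ⟨hq, hab.symm⟩
    have hm2 : ¬ Mat y q t := fun e' =>
      hne (partner_unique h ht.1 ha hpa hqa (mat_symm h hm) e')
    have h1 : psi D x y q ⟨t, ht.1⟩ = 1 := psi_one hc' hm2
    rw [h1] at h0
    exact zero_ne_one h0
  · obtain ⟨haD, hxa, hya⟩ := mem_nbr.1 ha
    obtain ⟨hbD, hxb, hyb⟩ := mem_nbr.1 hb
    have hl := mem_link_of_nbr h.toSetting h.hxy ha
    have hn : ¬ (proj D x y q ∈ line D x (proj D x y p)) := fun hm => hab
      (unique_point h.toSetting h.hx haD hxa hl.2.1.symm h.hy (right_mem_line haD) hm hya hyb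
        (left_mem_line h.hx) fun e' => h.hxy e'.symm)
    have hn' : ¬ nbr D x (proj D x y p) ⊆ com D (proj D x y q) := fun hs => hn ⟨hbD, hs⟩
    obtain ⟨w, hw, hwb⟩ := Set.not_subset.1 hn'
    obtain ⟨hwD, hxw, haw⟩ := mem_nbr.1 hw
    have hwx : w ≠ x := fun e' => hwb ⟨hwD, e' ▸ hxb.symm⟩
    have hwl : w ∈ link D x := ⟨hwD, hwx, hxw⟩
    obtain ⟨hdl, hdy⟩ := pt_spec h.toSetting h.hx h.hy hwl
    set d := pt D y x w
    have hdN := pt_mem_nbr h.toSetting h.hx h.hy hwl
    have hxd : x ≠ d := fun e' => h.hxy (by rw [e']; exact hdy.symm)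
    have h1 : Commute (proj D x y p) d := commute_line h.toSetting h.hx hwD hxw hwx.symm
      (left_mem_line h.hx) (right_mem_line hwD) hwx.symm haD hxa.symm haw hdl
    have h2 : ¬ Commute (proj D x y q) d := fun hc => hwb ⟨hwD,
      commute_line h.toSetting h.hx hwD hxw hwx.symm (left_mem_line h.hx) hdl hxd hbD hxb.symm hc
        (right_mem_line hwD)⟩
    obtain ⟨t, ht⟩ : (fib D x y d).Nonempty :=
      Set.nonempty_of_ncard_ne_zero (by rw [ncard_fib h hdN]; omega)
    obtain ⟨u, hu, hut⟩ : ∃ u ∈ fib D x y d, ¬ Mat y q u := by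
      obtain ⟨t', ht', hne'⟩ := Set.exists_ne_of_one_lt_ncard
        (by rw [ncard_fib h hdN]; omega : 1 < (fib D x y d).ncard) t
      by_cases hm : Mat y q t
      · exact ⟨t', ht', fun e' => hne' (partner_unique h hq hdN ht' ht (mat_symm h e')
          (mat_symm h hm))⟩
      · exact ⟨t, ht, hm⟩
    have h0 := congrFun e ⟨u, hu.1⟩
    rw [psi_zero (Or.inl (by rw [hu.2]; exact h1)), psi_one (by rw [hu.2]; exact h2) hut] at h0
    exact zero_ne_one h0

theorem psi_ne_zero {p : G} (hp : p ∈ sheet D x y) : psi D x y p ≠ 0 := fun h0 => by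
  obtain ⟨q, hq, hne⟩ := Set.exists_ne_of_one_lt_ncard
    (by rw [ncard_fib h (proj_nbr h hp)]; omega : 1 < (fib D x y (proj D x y p)).ncard) p
  obtain ⟨r, hr, hr'⟩ := Set.exists_mem_notMem_of_ncard_lt_ncard
    (s := ({p, q} : Set G)) (t := fib D x y (proj D x y p))
    (by rw [Set.ncard_pair hne.symm, ncard_fib h (proj_nbr h hp)]; omega)
  simp only [Set.mem_insert_iff, Set.mem_singleton_iff, not_or] at hr'
  have hs := psi_fib_sum h (proj_nbr h hp) ⟨hp, rfl⟩ hq hr hne.symm (Ne.symm hr'.1)
    (Ne.symm hr'.2)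
  rw [h0, zero_add] at hs
  refine hr'.2 (psi_injective h hq.1 hr.1 (funext fun t => ?_)).symm
  exact CharTwo.add_eq_zero.1 (congrFun hs t)

end CfsgLib.FischerPolar
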