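import Cfsg.Agent.Lib.ThreeTrans.OddLink

set_option autoImplicit false

/-! Recognising a group with a class of involutions from its action on the class. -/

namespace CfsgLib.FischerPolar

open CfsgLib.ThreeTrans

/-- A centreless group with a class `D` is the image of any group generated by elements acting on a
copy of `D` as the members of `D` act on `D`. -/
theorem nonempty_equiv_quotient {G H X : Type*} [Group G] [Group H] {D : Set G}
    (hD : Cfsg.IsThreeTranspositionClass D) (hc : Subgroup.center G = ⊥)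
    (ρ : H →* Equiv.Perm X) (σ : ↥D ≃ X) (T : ↥D → H)
    (hT : Subgroup.closure (Set.range T) = ⊤)
    (hact : ∀ x e : ↥D, σ ⟨cj (x : G) e, cj_mem hD x.2 e.2⟩ = ρ (T x) (σ e)) :
    Nonempty (G ≃* H ⧸ ρ.ker) := by
  classical
  let κ₀ : G →* Equiv.Perm ↥D :=
    { toFun := fun g =>
        { toFun := fun e => ⟨g * e * g⁻¹, CfsgLib.ThreeTransp.class_conj_mem hD g e.2⟩
          invFun := fun e => ⟨g⁻¹ * e * g, by
            simpa using CfsgLib.ThreeTransp.class_conj_mem hD g⁻¹ e.2⟩
          left_inv := fun e => Subtype.ext (by simp [mul_assoc])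
          right_inv := fun e => Subtype.ext (by simp [mul_assoc]) }
      map_one' := Equiv.ext fun e => Subtype.ext (by simp)
      map_mul' := fun g g' => Equiv.ext fun e => Subtype.ext (by simp [mul_assoc]) }
  let κ : G →* Equiv.Perm X := (σ.permCongrHom : Equiv.Perm ↥D ≃* Equiv.Perm X).toMonoidHom.comp κ₀
  have hinj : Function.Injective κ := by
    refine σ.permCongrHom.injective.comp ((injective_iff_map_eq_one κ₀).2 fun g hg => ?_)
    have h1 : ∀ e ∈ D, Commute g e := fun e he => by
      have h := congrArg Subtype.val (Equiv.congr_fun hg ⟨e, he⟩)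
      exact mul_inv_eq_iff_eq_mul.1 h
    have h2 : g ∈ Subgroup.center G := by
      have hle : Subgroup.closure D ≤ Subgroup.centralizer {g} := (Subgroup.closure_le _).2
        fun e he => Subgroup.mem_centralizer_singleton_iff.2 (h1 e he).eq.symm
      rw [hD.2.2] at hle
      exact Subgroup.mem_center_iff.2 fun k =>
        Subgroup.mem_centralizer_singleton_iff.1 (hle (Subgroup.mem_top k))
    rwa [hc, Subgroup.mem_bot] at h2
  have hgen : ∀ x : ↥D, κ x = ρ (T x) := fun x => Equiv.ext fun u => by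
    obtain ⟨e, rfl⟩ := σ.surjective u
    rw [← hact]
    show σ (κ₀ x (σ.symm (σ e))) = _
    rw [σ.symm_apply_apply]
    refine congrArg σ (Subtype.ext ?_)
    show (x : G) * e * (x : G)⁻¹ = _
    rw [inv_eq hD.1 x.2]
    rfl
  have hrange : κ.range = ρ.range := by
    rw [MonoidHom.range_eq_map, MonoidHom.range_eq_map, ← hT, ← hD.2.2, MonoidHom.map_closure,
      MonoidHom.map_closure]
    refine congrArg Subgroup.closure (Set.ext fun u => ⟨?_, ?_⟩)
    · rintro ⟨x, hx, rfl⟩
      exact ⟨T ⟨x, hx⟩, ⟨⟨x, hx⟩, rfl⟩, (hgen ⟨x, hx⟩).symm⟩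
    · rintro ⟨_, ⟨x, rfl⟩, rfl⟩
      exact ⟨x, x.2, hgen x⟩
  exact ⟨(MonoidHom.ofInjective hinj).trans
    ((MulEquiv.subgroupCongr hrange).trans (QuotientGroup.quotientKerEquivRange ρ).symm)⟩

/-- The same, for a faithful action. -/
theorem nonempty_equiv_of_action {G H X : Type*} [Group G] [Group H] {D : Set G}
    (hD : Cfsg.IsThreeTranspositionClass D) (hc : Subgroup.center G = ⊥)
    (ρ : H →* Equiv.Perm X) (hρ : Function.Injective ρ) (σ : ↥D ≃ X) (T : ↥D → H)
    (hT : Subgroup.closure (Set.range T) = ⊤)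
    (hact : ∀ x e : ↥D, σ ⟨cj (x : G) e, cj_mem hD x.2 e.2⟩ = ρ (T x) (σ e)) :
    Nonempty (G ≃* H) := by
  obtain ⟨e⟩ := nonempty_equiv_quotient hD hc ρ σ T hT hact
  exact ⟨e.trans ((QuotientGroup.quotientMulEquivOfEq ((MonoidHom.ker_eq_bot_iff ρ).2 hρ)).trans
    QuotientGroup.quotientBot)⟩

end CfsgLib.FischerPolar
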