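import Cfsg.Agent.Lib.FischerPolar.Points
import Cfsg.Agent.Lib.FischerPolar.Transfer
import Cfsg.Agent.Lib.UnitaryTransv.Basic

set_option autoImplicit false
set_option linter.unusedSectionVars false
set_option linter.unusedVariables false
set_option linter.unusedSimpArgs false

/-! The unitary case: the members act as the transvections of a unitary group. -/

namespace CfsgLib.FischerPolar

open CfsgLib.ThreeTrans CfsgLib.Classical.Herm HermSpace

variable {G : Type*} [Group G] {D : Set G} [Finite G]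

/-- The members of a class as the isotropic points of a hermitian space over four elements. -/
structure UModel (D : Set G) (n : ℕ) (Ψ : ↥D → (Fin n → F4)) : Prop where
  four : 4 ≤ n
  ne : ∀ e, Ψ e ≠ 0
  iso : ∀ e, hh (Ψ e) (Ψ e) = 0
  inj : ∀ e f (c : F4), Ψ f = c • Ψ e → e = f
  onto : ∀ v, v ≠ 0 → hh v v = 0 → ∃ e, ∃ c : F4, v = c • Ψ e
  comm : ∀ e f : ↥D, Commute (e : G) f ↔ hh (Ψ e) (Ψ f) = 0

theorem hh_eq_std {n : ℕ} (u v : Fin n → F4) : hh u v = (stdHerm card_F4 n).h u v := rfl

theorem exists_model {x y : G} (h : Frame D x y) : ∃ n Ψ, UModel D n Ψ := by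
  classical
  obtain ⟨m, φ, hc⟩ := exists_coords h
  let Ψ : ↥D → (Fin (m + 2) → F4) := fun e =>
    if Near D x y (e : G) then vec φ (e : G) else Classical.epsilon (FarVec φ (e : G))
  have hnear : ∀ e : ↥D, Near D x y (e : G) → Ψ e = vec φ (e : G) := fun e he => if_pos he
  have hfar : ∀ e : ↥D, Far D x y (e : G) → FarVec φ (e : G) (Ψ e) := fun e he => by
    have hn : ¬ Near D x y (e : G) := fun hn => by
      rcases hn.2 with e1 | e1 | e1
      exacts [he.2.1 e1, he.2.2.1 e1, he.2.2.2 e1]
    simp only [Ψ, if_neg hn]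
    exact Classical.epsilon_spec (exists_farVec h hc he)
  have hnf : ∀ {e f : ↥D}, Far D x y (e : G) → Near D x y (f : G) →
      (Commute (e : G) f ↔ hh (Ψ e) (Ψ f) = 0) := by
    intro e f he hf
    rw [hnear f hf]
    obtain ⟨α, w, hv, -, -, -, hP⟩ := hfar e he
    exact hP f hf
  have hiso : ∀ e, hh (Ψ e) (Ψ e) = 0 := fun e => by
    rcases near_or_far h e.2 with he | he
    · rw [hnear e he]; exact vec_iso h hc he
    · exact (farVec_iso h hc (hfar e he)).1
  have hsep : ∀ {e f : ↥D} {c : F4}, Near D x y (e : G) → Far D x y (f : G) →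
      Ψ f ≠ c • Ψ e := by
    intro e f c he hf eq
    have hxn : Near D x y x := near_of_com h h.hx (Commute.refl x)
    have hyn : Near D x y y := ⟨h.hy, Or.inr (Or.inl (Commute.refl y))⟩
    have hzn : Near D x y (cj x y) := ⟨third_mem h, Or.inr (Or.inr (Commute.refl _))⟩
    obtain ⟨q, hq, hqf, hqe⟩ : ∃ q, Near D x y q ∧ ¬ Commute (f : G) q ∧ Commute (e : G) q := by
      rcases he.2 with e1 | e1 | e1
      exacts [⟨x, hxn, hf.2.1, e1⟩, ⟨y, hyn, hf.2.2.1, e1⟩, ⟨_, hzn, hf.2.2.2, e1⟩]
    have h1 := (commute_iff_near h hc he hq).1 hqe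
    refine hqf ((hnf (f := ⟨q, hq.1⟩) hf hq).2 ?_)
    rw [eq, hh_smul_left, hnear e he, hnear ⟨q, hq.1⟩ hq, h1, mul_zero]
  refine ⟨m + 2, Ψ, ⟨by have := hc.two; omega, fun e => ?_, hiso, fun e f c eq => ?_,
    fun v hv hvi => ?_, fun e f => ?_⟩⟩
  · rcases near_or_far h e.2 with he | he
    · rw [hnear e he]; exact vec_ne_zero h hc he
    · exact (farVec_iso h hc (hfar e he)).2.1
  · rcases near_or_far h e.2 with he | he <;> rcases near_or_far h f.2 with hf | hf
    · rw [hnear e he, hnear f hf] at eq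
      exact Subtype.ext (vec_injective h hc he hf eq)
    · exact absurd eq (hsep he hf)
    · refine absurd ?_ (hsep (c := c⁻¹) hf he)
      have hc0 : c ≠ 0 := fun e0 => by
        rw [e0, zero_smul, hnear f hf] at eq
        exact vec_ne_zero h hc hf eq
      rw [eq, smul_smul, inv_mul_cancel₀ hc0, one_smul]
    · have h1 := congrArg cb eq
      obtain ⟨α, w, hv, -⟩ := hfar e he
      rw [(farVec_iso h hc (hfar f hf)).2.2.1, hv, mk_smul, cb_mk, mul_one] at h1
      rw [← h1, one_smul] at eq
      exact Subtype.ext (farVec_injective h hc he hf (hfar e he) (eq ▸ hfar f hf))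
  · by_cases hz : ca v = 0 ∨ cb v = 0 ∨ ca v = cb v
    · obtain ⟨u, c, hu, -, e⟩ := exists_near h hc hv hvi hz
      exact ⟨⟨u, hu.1⟩, c, by rw [hnear ⟨u, hu.1⟩ hu]; exact e⟩
    · push Not at hz
      obtain ⟨e, c, v', he, -, hv', eq⟩ := exists_far_of h hc hvi hz.1 hz.2.1 hz.2.2
      exact ⟨⟨e, he.1⟩, c, by rw [farVec_unique h hc (hfar ⟨e, he.1⟩ he) hv']; exact eq⟩
  · rcases near_or_far h e.2 with he | he <;> rcases near_or_far h f.2 with hf | hf
    · rw [hnear e he, hnear f hf]; exact commute_iff_near h hc he hf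
    · rw [Commute.symm_iff, hnf hf he]
      exact ⟨hh_comm_zero, hh_comm_zero⟩
    · exact hnf he hf
    · by_cases hef : (e : G) = f
      · obtain rfl : e = f := Subtype.ext hef
        exact ⟨fun _ => hiso e, fun _ => Commute.refl _⟩
      exact ⟨fun hcom => far_orth h hc he hf hef hcom (hfar e he) (hfar f hf),
        far_commute h hc he hf (hfar e he) (hfar f hf)⟩

variable {n : ℕ} {Ψ : ↥D → (Fin n → F4)} (hM : UModel D n Ψ)

include hM

/-- A vector orthogonal to the isotropic vectors orthogonal to a hyperbolic pair lies in its span. -/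
theorem eq_combination {u v z : Fin n → F4} (hu : hh u u = 0) (hv : hh v v = 0) (huv : hh u v ≠ 0)
    (hz : ∀ k, hh k k = 0 → hh k u = 0 → hh k v = 0 → hh k z = 0) :
    ∃ a b : F4, z = a • u + b • v := by
  have hvu : hh v u ≠ 0 := fun e => huv (hh_comm_zero e)
  have hkill : ∀ k, hh k u = 0 → hh k v = 0 → hh k z = 0 := by
    intro k k1 k2
    rcases hh_self_cases k with ki | ki
    · exact hz k ki k1 k2
    obtain ⟨l, hl1, hl2, hl3, hli⟩ : ∃ l, hh l u = 0 ∧ hh l v = 0 ∧ hh l k = 0 ∧ hh l l = 1 := by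
      by_contra! hno
      let L : (Fin n → F4) →ₗ[F4] (Fin 3 → F4) :=
        { toFun := fun l => ![hh l u, hh l v, hh l k]
          map_add' := fun l l' => by funext i; fin_cases i <;> simp [hh_add_left]
          map_smul' := fun c l => by funext i; fin_cases i <;> simp [hh_smul_left] }
      have hker : LinearMap.ker L ≠ ⊥ := LinearMap.ker_ne_bot_of_finrank_lt (by
        rw [Module.finrank_fin_fun, Module.finrank_fin_fun]; have := hM.four; omega)
      obtain ⟨l, hl, hl0⟩ := Submodule.exists_mem_ne_zero_of_ne_bot hker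
      have mem : ∀ l, l ∈ LinearMap.ker L ↔ hh l u = 0 ∧ hh l v = 0 ∧ hh l k = 0 := fun l =>
        ⟨fun e => ⟨congrFun e 0, congrFun e 1, congrFun e 2⟩, fun e => funext fun i => by
          fin_cases i <;> simp [L, e.1, e.2.1, e.2.2]⟩
      have isok : ∀ l ∈ LinearMap.ker L, hh l l = 0 := fun l hl => by
        obtain ⟨a1, a2, a3⟩ := (mem l).1 hl
        exact (hh_self_cases l).resolve_right (hno l a1 a2 a3)
      obtain ⟨l1, l2, l3⟩ := (mem l).1 hl
      refine hl0 (hh_nondeg fun t => ?_)
      set t' := t + (hh t k • k + ((hh t u * (hh v u)⁻¹) • v + (hh t v * (hh u v)⁻¹) • u)) with ht'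
      have t1 : hh t' u = 0 := by
        simp only [ht', hh_add_left, hh_smul_left, k1, hu, mul_zero, zero_add, add_zero]
        rw [mul_assoc, inv_mul_cancel₀ hvu, mul_one]; exact add_self _
      have t2 : hh t' v = 0 := by
        simp only [ht', hh_add_left, hh_smul_left, k2, hv, mul_zero, zero_add, add_zero]
        rw [mul_assoc, inv_mul_cancel₀ huv, mul_one]; exact add_self _
      have t3 : hh t' k = 0 := by
        simp only [ht', hh_add_left, hh_smul_left, ki, hh_comm_zero k1, hh_comm_zero k2, mul_one,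
          mul_zero, add_zero]
        exact add_self _
      have ht'm := (mem t').2 ⟨t1, t2, t3⟩
      have q1 := isok _ ((LinearMap.ker L).add_mem hl ((LinearMap.ker L).smul_mem om ht'm))
      have q2 := isok _ ((LinearMap.ker L).add_mem hl ht'm)
      rw [hh_cross, isok l hl, isok t' ht'm, mul_zero, add_zero, zero_add] at q1
      rw [show l + t' = l + (1 : F4) • t' by rw [one_smul], hh_cross, isok l hl, isok t' ht'm,
        mul_zero, add_zero, zero_add, one_pow, one_mul] at q2
      have q3 : hh l t' = 0 := by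
        rcases cases_four (hh l t') with e | e | e | e
        · exact e
        · exfalso
          rw [e, mul_one] at q1
          exact one_ne_zero (show (1 : F4) = 0 by
            linear_combination q1 - trace_one om_sq_ne.1 om_sq_ne.2.1)
        · exfalso
          rw [e] at q2
          exact one_ne_zero (show (1 : F4) = 0 by
            linear_combination q2 - trace_one om_ne_zero om_ne_one)
        · exfalso
          rw [e] at q2
          exact one_ne_zero (show (1 : F4) = 0 by
            linear_combination q2 - trace_one om_sq_ne.1 om_sq_ne.2.1)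
      have := q3
      simp only [ht', hh_add_right, hh_smul_right, l1, l2, l3, mul_zero, add_zero] at this
      exact this
    have one : ∀ c : F4, c ≠ 0 → hh k z + c * hh l z = 0 := by
      intro c hc0
      have e1 : hh (k + c • l) (k + c • l) = 0 := by
        rw [hh_cross, ki, hli, hh_comm_zero hl3, cube_one hc0]
        linear_combination two_zero
      have := hz _ e1 (by rw [hh_add_left, hh_smul_left, k1, hl1, mul_zero, add_zero])
        (by rw [hh_add_left, hh_smul_left, k2, hl2, mul_zero, add_zero])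
      rwa [hh_add_left, hh_smul_left] at this
    have e1 := one 1 one_ne_zero
    have e2 := one om om_ne_zero
    have e3 : (1 - om) * hh l z = 0 := by linear_combination e1 - e2
    have e4 : hh l z = 0 := (mul_eq_zero.1 e3).resolve_left (sub_ne_zero.2 (Ne.symm om_ne_one))
    rwa [e4, mul_zero, add_zero] at e1
  refine ⟨hh z v * (hh u v)⁻¹, hh z u * (hh v u)⁻¹, ?_⟩
  set w := z + ((hh z v * (hh u v)⁻¹) • u + (hh z u * (hh v u)⁻¹) • v) with hw
  have w1 : hh w u = 0 := by
    simp only [hw, hh_add_left, hh_smul_left, hu, mul_zero, zero_add]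
    rw [mul_assoc, inv_mul_cancel₀ hvu, mul_one]; exact add_self _
  have w2 : hh w v = 0 := by
    simp only [hw, hh_add_left, hh_smul_left, hv, mul_zero, add_zero]
    rw [mul_assoc, inv_mul_cancel₀ huv, mul_one]; exact add_self _
  have hw0 : w = 0 := hh_nondeg fun t => by
    set t' := t + ((hh t v * (hh u v)⁻¹) • u + (hh t u * (hh v u)⁻¹) • v) with ht'
    have t1 : hh t' u = 0 := by
      simp only [ht', hh_add_left, hh_smul_left, hu, mul_zero, zero_add]
      rw [mul_assoc, inv_mul_cancel₀ hvu, mul_one]; exact add_self _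
    have t2 : hh t' v = 0 := by
      simp only [ht', hh_add_left, hh_smul_left, hv, mul_zero, add_zero]
      rw [mul_assoc, inv_mul_cancel₀ huv, mul_one]; exact add_self _
    have e1 : hh w t' = hh w t := by
      simp only [ht', hh_add_right, hh_smul_right, w1, w2, mul_zero, add_zero]
    have e2 : hh w t' = 0 := by
      simp only [hw, hh_add_left, hh_smul_left, hh_comm_zero (hkill t' t1 t2), hh_comm_zero t1,
        hh_comm_zero t2, mul_zero, add_zero]
    rw [← e1, e2]
  funext i
  have := congrFun hw0 i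
  simp only [hw, Pi.add_apply, Pi.smul_apply, smul_eq_mul, Pi.zero_apply] at this ⊢
  linear_combination this -
    (hh z v * (hh u v)⁻¹ * u i + hh z u * (hh v u)⁻¹ * v i) * two_zero

/-- A member acts on the class as a transvection. -/
theorem model_cj (hD : Cfsg.IsThreeTranspositionClass D) (a e : ↥D) :
    ∃ c : F4, c ≠ 0 ∧ Ψ ⟨cj (a : G) e, cj_mem hD a.2 e.2⟩ = c • (Ψ e + hh (Ψ e) (Ψ a) • Ψ a) := by
  by_cases hae : Commute (a : G) e
  · refine ⟨1, one_ne_zero, ?_⟩
    rw [one_smul, hh_comm_zero ((hM.comm a e).1 hae), zero_smul, add_zero]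
    exact congrArg Ψ (Subtype.ext (cj_eq_self hD a.2 hae))
  set d : ↥D := ⟨cj (a : G) e, cj_mem hD a.2 e.2⟩ with hd
  set va := Ψ a
  set ve := Ψ e
  have h0 : hh ve va ≠ 0 := fun e1 => hae ((hM.comm e a).2 e1).symm
  obtain ⟨A, B, hAB⟩ := eq_combination hM (u := ve) (v := va) (z := Ψ d) (hM.iso e) (hM.iso a) h0
    (fun k k0 k1 k2 => by
      by_cases hk : k = 0
      · rw [hk, hh_zero_left]
      obtain ⟨f, c, rfl⟩ := hM.onto k hk k0
      have hc0 : c ≠ 0 := fun e1 => hk (by rw [e1, zero_smul])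
      rw [hh_smul_left, mul_eq_zero] at k1 k2
      have f1 := (hM.comm f e).2 (k1.resolve_left hc0)
      have f2 := (hM.comm f a).2 (k2.resolve_left hc0)
      rw [hh_smul_left, (hM.comm f d).1 (commute_cj f2 f1), mul_zero])
  have hA : A ≠ 0 := fun e1 => by
    rw [e1, zero_smul, zero_add] at hAB
    have := congrArg Subtype.val (hM.inj a d B hAB)
    have h2 : cj (a : G) e = a := this.symm
    have h3 := not_commute_cj hD a.2 (Commute.refl _) hae
    rw [h2] at h3
    exact h3 (Commute.refl _)
  have hB : B ≠ 0 := fun e1 => by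
    rw [e1, zero_smul, add_zero] at hAB
    have := congrArg Subtype.val (hM.inj e d A hAB)
    refine hae ?_
    by_contra hn
    have h2 := not_commute_cj hD e.2 (Commute.refl _) fun e' => hn e'.symm
    rw [← cj_comm hD a.2 e.2 hae] at h2
    have h3 : cj (a : G) e = e := this.symm
    rw [h3] at h2
    exact h2 (Commute.refl _)
  refine ⟨A, hA, ?_⟩
  have hq := hM.iso d
  rw [hAB, show A • ve + B • va = A • (ve + (A⁻¹ * B) • va) by
    rw [smul_add, smul_smul, ← mul_assoc, mul_inv_cancel₀ hA, one_mul]] at hq ⊢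
  rw [hh_smul_left, hh_smul_right, hh_cross, hM.iso, hM.iso] at hq
  simp only [mul_zero, add_zero, zero_add, mul_eq_zero, hA, pow_eq_zero_iff, ne_eq,
    OfNat.ofNat_ne_zero, not_false_eq_true, false_or] at hq
  have hne : A⁻¹ * B ≠ 0 := mul_ne_zero (inv_ne_zero hA) hB
  have hK : (A⁻¹ * B) ^ 2 * hh ve va = 1 := by
    by_contra h1
    exact one_ne_zero (show (1 : F4) = 0 by
      rw [← trace_one (mul_ne_zero (pow_ne_zero 2 hne) h0) h1]; exact hq)
  have : A⁻¹ * B = hh ve va := by
    linear_combination (A⁻¹ * B) * (-hK) + hh ve va * cube_one hne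
  rw [this]

/-- The group is the projective special unitary group of the model. -/
theorem nonempty_equiv_psu (hD : Cfsg.IsThreeTranspositionClass D)
    (hcen : Subgroup.center G = ⊥) : Nonempty (G ≃* Cfsg.PSU n F4 2) := by
  classical
  have hiso' : ∀ e, (stdHerm card_F4 n).h (Ψ e) (Ψ e) = 0 := hM.iso
  let tvs : ↥D → Unit' (stdHerm card_F4 n) := fun e =>
    CfsgLib.UnitaryTransv.tv card_F4 (Ψ e) (hiso' e)
  have hsol : ∀ e, ∃ g, CfsgLib.UnitaryTransv.emb card_F4 n g = tvs e := fun e =>
    CfsgLib.UnitaryTransv.exists_emb_eq card_F4 _ (CfsgLib.UnitaryTransv.det_tv card_F4 _ _)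
  choose T hT using hsol
  have hemb := CfsgLib.UnitaryTransv.emb_injective (F := F4) card_F4 n
  set S : Set (Cfsg.SU n F4 2) := {g | (((g : Matrix.SpecialLinearGroup (Fin n) F4) :
    Matrix (Fin n) (Fin n) F4) - 1).rank = 1} with hS
  have hSD := CfsgLib.UnitaryTransv.isThreeTranspositionClass_su (F := F4) (n := n) card_F4 hM.four
  have hTS : ∀ e, T e ∈ S := fun e =>
    (CfsgLib.UnitaryTransv.rank_eq_one_iff card_F4 _).2 ⟨Ψ e, hM.iso e, hM.ne e, hT e⟩
  have hrange : Set.range T = S := by
    refine Set.Subset.antisymm (Set.range_subset_iff.2 hTS) fun g hg => ?_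
    obtain ⟨v, hv, hv0, hg'⟩ := (CfsgLib.UnitaryTransv.rank_eq_one_iff card_F4 g).1 hg
    obtain ⟨e, c, hec⟩ := hM.onto v hv0 hv
    have hc0 : c ≠ 0 := fun e1 => hv0 (by rw [hec, e1, zero_smul])
    refine ⟨e, hemb ?_⟩
    rw [hT, hg']
    exact (CfsgLib.UnitaryTransv.tv_smul card_F4 hc0 _ _ hec).symm
  have hTinj : Function.Injective T := by
    intro e f hef
    obtain ⟨k, hk⟩ : ∃ k, hh k (Ψ e) ≠ 0 := by
      by_contra! hall
      exact hM.ne e (hh_nondeg fun k => hh_comm_zero (hall k))
    have h1 : tvs e = tvs f := by rw [← hT, ← hT, hef]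
    have h2 := congrArg (fun g : Unit' (stdHerm card_F4 n) => g.1 k) h1
    simp only [tvs] at h2
    rw [CfsgLib.UnitaryTransv.tv_apply, CfsgLib.UnitaryTransv.tv_apply] at h2
    have h3 : hh k (Ψ e) • Ψ e = hh k (Ψ f) • Ψ f := add_left_cancel h2
    refine (hM.inj f e ((hh k (Ψ e))⁻¹ * hh k (Ψ f)) ?_).symm
    rw [mul_smul, ← h3, smul_smul, inv_mul_cancel₀ hk, one_smul]
  let ρ : Cfsg.SU n F4 2 →* Equiv.Perm ↥S :=
    { toFun := fun g =>
        { toFun := fun s => ⟨g * s.1 * g⁻¹, CfsgLib.ThreeTransp.class_conj_mem hSD g s.2⟩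
          invFun := fun s => ⟨g⁻¹ * s.1 * g, by
            have := CfsgLib.ThreeTransp.class_conj_mem hSD g⁻¹ s.2
            rwa [inv_inv] at this⟩
          left_inv := fun s => Subtype.ext (by simp [mul_assoc])
          right_inv := fun s => Subtype.ext (by simp [mul_assoc]) }
      map_one' := Equiv.ext fun s => Subtype.ext (by simp)
      map_mul' := fun g g' => Equiv.ext fun s => Subtype.ext (by simp [mul_assoc]) }
  have hker : ρ.ker = Subgroup.center (Cfsg.SU n F4 2) := by
    ext g
    rw [MonoidHom.mem_ker]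
    constructor
    · intro hg
      have h1 : ∀ s ∈ S, Commute g s := fun s hs =>
        mul_inv_eq_iff_eq_mul.1 (congrArg Subtype.val (Equiv.congr_fun hg ⟨s, hs⟩))
      have hle : Subgroup.closure S ≤ Subgroup.centralizer {g} := (Subgroup.closure_le _).2
        fun s hs => Subgroup.mem_centralizer_singleton_iff.2 (h1 s hs).eq.symm
      rw [hSD.2.2] at hle
      exact Subgroup.mem_center_iff.2 fun k =>
        Subgroup.mem_centralizer_singleton_iff.1 (hle (Subgroup.mem_top k))
    · intro hg
      refine Equiv.ext fun s => Subtype.ext ?_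
      show g * s.1 * g⁻¹ = s.1
      rw [← Subgroup.mem_center_iff.1 hg s.1, mul_inv_cancel_right]
  let σ : ↥D ≃ ↥S := Equiv.ofBijective (fun e => ⟨T e, hTS e⟩)
    ⟨fun e f h => hTinj (congrArg Subtype.val h), fun s => by
      have hs : s.1 ∈ Set.range T := by rw [hrange]; exact s.2
      obtain ⟨e, he⟩ := hs
      exact ⟨e, Subtype.ext he⟩⟩
  obtain ⟨e⟩ := nonempty_equiv_quotient hD hcen ρ σ T (by rw [hrange]; exact hSD.2.2) fun a e => by
    refine Subtype.ext (hemb ?_)
    show CfsgLib.UnitaryTransv.emb card_F4 n (T _) =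
      CfsgLib.UnitaryTransv.emb card_F4 n (T a * T e * (T a)⁻¹)
    rw [map_mul, map_mul, map_inv, hT, hT, hT]
    obtain ⟨c, hc0, hc⟩ := model_cj hM hD a e
    simp only [tvs]
    refine Eq.trans ?_ (CfsgLib.UnitaryTransv.tv_conj card_F4 _ _ _).symm
    refine CfsgLib.UnitaryTransv.tv_smul card_F4 hc0 _ _ ?_
    rw [CfsgLib.UnitaryTransv.tv_apply]
    exact hc
  exact ⟨e.trans (QuotientGroup.quotientMulEquivOfEq hker)⟩

end CfsgLib.FischerPolar
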