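import Cfsg.Agent.Lib.FischerPolar.Sympl
import Cfsg.Agent.Lib.FischerPolar.Unitary

set_option autoImplicit false
set_option linter.unusedSectionVars false

/-! A link group with non-central 2-core gives a polar class. -/

namespace CfsgLib.FischerPolar

open CfsgLib.ThreeTrans

variable {G : Type*} [Group G] [Finite G] {D : Set G}

theorem setting_of_twoCore
    (hsol : ∀ N : Subgroup G, N.Normal → Group.IsSolvable ↥N → N = ⊥)
    (hperf : ⁅commutator G, commutator G⁆ = commutator G)
    (hD : Cfsg.IsThreeTranspositionClass D) {x : G} (hx : x ∈ D)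
    (h : ¬ Cfsg.pCore 2 ↥(Subgroup.closure (link D x)) ≤
      Subgroup.center ↥(Subgroup.closure (link D x))) : Setting D := by
  classical
  set H := Subgroup.closure (link D x) with hH
  have : Fact (Nat.Prime 2) := ⟨Nat.prime_two⟩
  have hOp : IsPGroup 2 ↥(Cfsg.pCore 2 H) := CfsgLib.LargeXS.pCore_isPGroup 2 H
  have hOn : (Cfsg.pCore 2 H).Normal := inferInstance
  set O := Cfsg.pCore 2 H
  obtain ⟨n, hn, hnc⟩ := SetLike.not_le_iff_exists.1 h
  obtain ⟨y, hy, hny⟩ : ∃ y, ∃ _ : y ∈ link D x, ¬ Commute (n : G) y := by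
    by_contra! hall
    refine hnc (Subgroup.mem_center_iff.2 fun k => Subtype.ext ?_)
    have hk : (k : G) ∈ Subgroup.centralizer {(n : G)} :=
      (Subgroup.closure_le _).2
        (fun e he => Subgroup.mem_centralizer_singleton_iff.2 (hall e he).eq.symm) k.2
    exact Subgroup.mem_centralizer_singleton_iff.1 hk
  set ym : H := ⟨y, Subgroup.subset_closure hy⟩
  set z := (n : G) * y * (n : G)⁻¹ with hz
  have hzl : z ∈ link D x := linkClass_subset_link hD hy ⟨n, n.2, rfl⟩
  set zm : H := ⟨z, Subgroup.subset_closure hzl⟩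
  have hzeq : zm = n * ym * n⁻¹ := Subtype.ext rfl
  have hmem : ym * zm ∈ O := by
    rw [hzeq]
    have h2 : ym * (n * ym * n⁻¹) = ym * n * ym⁻¹ * n⁻¹ := by
      have h3 : ym⁻¹ = ym := Subtype.ext (inv_eq hD.1 hy.1)
      rw [h3]; simp only [mul_assoc]
    rw [h2]; exact mul_mem (hOn.conj_mem _ hn ym) (inv_mem hn)
  have hmem' : zm * ym ∈ O := by
    have h1 := inv_mem hmem
    rwa [mul_inv_rev, show zm⁻¹ = zm from Subtype.ext (inv_eq hD.1 hzl.1),
      show ym⁻¹ = ym from Subtype.ext (inv_eq hD.1 hy.1)] at h1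
  have hyz : y ≠ z := fun e => hny (by
    show (n : G) * y = y * (n : G)
    calc (n : G) * y = z * (n : G) := by simp [hz]
      _ = y * (n : G) := by rw [← e])
  have small : ∀ {a b : G}, a ∈ D → b ∈ D → ∀ g : H, (g : G) = a * b → g ∈ O → Commute a b := by
    intro a b ha hb g hg hgO
    by_contra hc
    obtain ⟨k, hk⟩ := hOp ⟨g, hgO⟩
    have h2 : orderOf (g : G) ∣ 2 ^ k :=
      orderOf_dvd_of_pow_eq_one (by simpa using congrArg (fun u : ↥O => ((u : H) : G)) hk)
    have h3 : orderOf (g : G) ∣ 3 :=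
      orderOf_dvd_of_pow_eq_one (by rw [hg]; exact cube_eq_one hD.1 ha hb hc)
    have h1 : orderOf (g : G) = 1 :=
      Nat.eq_one_of_dvd_coprimes (Nat.Coprime.pow_left k (by norm_num : Nat.Coprime 2 3)) h2 h3
    rw [orderOf_eq_one_iff, hg] at h1
    exact hc (by rw [(eq_inv_of_mul_eq_one_left h1).trans (inv_eq hD.1 hb)])
  have follow : ∀ {a b u : G} (ha : a ∈ link D x) (hb : b ∈ link D x),
      (⟨a, Subgroup.subset_closure ha⟩ * ⟨b, Subgroup.subset_closure hb⟩ : H) ∈ O →
      u ∈ link D x → Commute a u → Commute b u := by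
    intro a b u ha hb hab hu hau
    by_contra hc
    set am : H := ⟨a, Subgroup.subset_closure ha⟩
    set bm : H := ⟨b, Subgroup.subset_closure hb⟩
    set um : H := ⟨u, Subgroup.subset_closure hu⟩
    have hnc' : ¬ Commute u b := fun e => hc e.symm
    have hua : (um * am) * (um * am) = 1 := Subtype.ext (by
      show u * a * (u * a) = 1
      rw [← pow_two]; exact (commute_iff_sq hD.1 hu.1 ha.1).1 hau.symm)
    have haa : am * am = 1 := Subtype.ext (mul_self hD.1 ha.1)
    set g := um * bm with hg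
    have hsplit : g = um * am * (am * bm) := by
      rw [hg, mul_assoc um am, ← mul_assoc am am, haa, one_mul]
    have h2 : g * g ∈ O := by
      have h1 := mul_mem (hOn.conj_mem _ hab (um * am)) hab
      rw [inv_eq_of_mul_eq_one_left hua] at h1
      rw [hsplit]
      simpa only [mul_assoc] using h1
    have h3 : g ^ 3 = 1 := Subtype.ext (by
      rw [SubmonoidClass.coe_pow]; exact cube_eq_one hD.1 hu.1 hb.1 hnc')
    have h4 : g ∈ O := by
      have e : g = (g * g) * (g * g) := by
        calc g = g * g ^ 3 := by rw [h3, mul_one]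
          _ = (g * g) * (g * g) := by simp only [pow_succ, pow_zero, one_mul, mul_assoc]
      rw [e]; exact mul_mem h2 h2
    exact hnc' (small hu.1 hb.1 g rfl h4)
  have hcyz : Commute y z := small hy.1 hzl.1 (ym * zm) rfl hmem
  refine ⟨hD, center_eq_bot hsol, isPrimitive_of_fischer hsol hperf hD, eq_of_sameComm hsol hD,
    ⟨x, hx, y, hy, z, hzl, hyz,
      fun u hu => ⟨follow hy hzl hmem hu, follow hzl hy hmem' hu⟩⟩, fun x' hx' => ?_⟩
  obtain ⟨g, hg⟩ := CfsgLib.ThreeTransp.class_conj hD hx hx'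
  by_contra! hall
  refine h fun k _ => Subgroup.mem_center_iff.2 fun l => Subtype.ext ?_
  have hcomm : ∀ a ∈ link D x, ∀ b ∈ link D x, Commute a b := by
    intro a ha b hb
    have hl := link_conj hD g x
    rw [hg] at hl
    exact (commute_conj_iff' g a b).1
      (hall _ (hl ▸ ⟨a, ha, rfl⟩) _ (hl ▸ ⟨b, hb, rfl⟩))
  have hc1 : ∀ a ∈ link D x, (k : G) ∈ Subgroup.centralizer {a} := fun a ha =>
    (Subgroup.closure_le _).2
      (fun b hb => Subgroup.mem_centralizer_singleton_iff.2 (hcomm b hb a ha).eq) k.2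
  have hl1 : (l : G) ∈ Subgroup.centralizer {(k : G)} :=
    (Subgroup.closure_le _).2 (fun a ha => Subgroup.mem_centralizer_singleton_iff.2
      (Subgroup.mem_centralizer_singleton_iff.1 (hc1 a ha)).symm) l.2
  exact Subgroup.mem_centralizer_singleton_iff.1 hl1

/-- A polar class comes from a symplectic or a unitary group. -/
theorem classification (hS : Setting D) :
    SpSetting D ∨ ∃ n Ψ, UModel D n Ψ ∧ Nonempty (G ≃* Cfsg.PSU n F4 2) := by
  obtain ⟨u, hu, v, hv, huv, hc⟩ := hS.edge
  rcases ncard_line_cases hS hu hv hc huv with h3 | h5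
  · exact Or.inl ⟨hS, fun p hp q hq hpq hne => (ncard_line hS hu hv hc huv hp hq hpq hne).symm.trans h3⟩
  · refine Or.inr ?_
    obtain ⟨e, he, hue⟩ := hS.nonadj hu
    have hF : Frame D u e := ⟨hS,
      fun p hp q hq hpq hne => (ncard_line hS hu hv hc huv hp hq hpq hne).symm.trans h5, hu, he, hue⟩
    obtain ⟨n, Ψ, hM⟩ := exists_model hF
    exact ⟨n, Ψ, hM, nonempty_equiv_psu hM hS.cls hS.centre⟩

end CfsgLib.FischerPolar
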