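import Cfsg.Agent.Lib.FischerPolar.Lines

set_option autoImplicit false
set_option linter.unusedSectionVars false

/-! Every member commutes with one or all points of a line, and lines have three or five points. -/

namespace CfsgLib.FischerPolar

open CfsgLib.ThreeTrans

variable {G : Type*} [Group G] {D : Set G}

/-- The image of `c` under the translation of a line defined by `e` which exchanges `a` and `b`. -/
def tr (e a b c : G) : G := cj e (cj a (cj b (cj c e)))

variable [Finite G] (hS : Setting D)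

include hS

theorem conj_eq_cj {g : G} (hg : g ∈ D) (u : G) : g * u * g⁻¹ = cj g u := by
  rw [cj, inv_eq hS.cls.1 hg]

theorem line_cj_mem {g a b d : G} (hg : g ∈ D) (hd : d ∈ line D a b) :
    cj g d ∈ line D (cj g a) (cj g b) := by
  have h := line_conj_mem hS g hd
  simpa only [conj_eq_cj hS hg] using h

variable {p q : G} (hp : p ∈ D) (hq : q ∈ D) (hpq : Commute p q) (hne : p ≠ q)

include hp hq hpq hne

theorem line_comm_mem {a b : G} (ha : a ∈ line D p q) (hb : b ∈ line D p q) : Commute a b :=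
  commute_of_mem_line hS hp hq hpq hne ha hb

theorem tr_swap {a b : G} (ha : a ∈ line D p q) (hb : b ∈ line D p q) (e c : G) :
    tr e a b c = tr e b a c := by
  rw [tr, tr, cj_cj_comm (line_comm_mem hS hp hq hpq hne ha hb)]

theorem tr_swap' {b c : G} (hb : b ∈ line D p q) (hc : c ∈ line D p q) (e a : G) :
    tr e a b c = tr e a c b := by
  rw [tr, tr, cj_cj_comm (line_comm_mem hS hp hq hpq hne hb hc)]

theorem tr_eq {e a b c : G} (he : e ∈ D) (hc : c ∈ line D p q) (hec : ¬ Commute e c) :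
    tr e a b c = cj e (cj a (cj b (cj e c))) := by
  rw [tr, cj_comm hS.cls hc.1 he fun h => hec h.symm]

theorem tr_spec {e a b c : G} (he : e ∈ D) (ha : a ∈ line D p q) (hb : b ∈ line D p q)
    (hc : c ∈ line D p q) (hab : a ≠ b) (hca : c ≠ a) (hcb : c ≠ b) (hea : ¬ Commute e a)
    (heb : ¬ Commute e b) (hec : ¬ Commute e c) :
    tr e a b c ∈ line D p q ∧ tr e a b c ≠ a ∧ tr e a b c ≠ b ∧ tr e a b c ≠ c ∧
      ¬ Commute e (tr e a b c) := by
  have hD := hS.cls
  have cab := line_comm_mem hS hp hq hpq hne ha hb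
  have cac := line_comm_mem hS hp hq hpq hne ha hc
  have cbc := line_comm_mem hS hp hq hpq hne hb hc
  let φ : G → G := fun u => cj e (cj a (cj b (cj e u)))
  have hφ : Function.Injective φ := fun u v h =>
    cj_injective hD he (cj_injective hD hb.1 (cj_injective hD ha.1 (cj_injective hD he h)))
  have hφa : φ a = b := by
    show cj e (cj a (cj b (cj e a))) = b
    rw [cj_comm hD he ha.1 hea, cj_cj_comm cab.symm, cj_cj hD ha.1, ← cj_comm hD he hb.1 heb,
      cj_cj hD he]
  have hφb : φ b = a := by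
    show cj e (cj a (cj b (cj e b))) = a
    rw [cj_comm hD he hb.1 heb, cj_cj hD hb.1, ← cj_comm hD he ha.1 hea, cj_cj hD he]
  have htr : tr e a b c = φ c := tr_eq hS hp hq hpq hne he hc hec
  have hmem : tr e a b c ∈ line D p q := by
    have hL := line_eq hS hp hq hpq hne ha hb hab
    have h1 : c ∈ line D a b := hL ▸ hc
    have h2 := line_cj_mem hS he (line_cj_mem hS ha.1 (line_cj_mem hS hb.1 (line_cj_mem hS he h1)))
    have h3 : φ c ∈ line D (φ a) (φ b) := h2
    rw [hφa, hφb, line_comm, hL] at h3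
    rwa [htr]
  refine ⟨hmem, fun h => hcb (hφ (by rw [← htr, h, hφb])), fun h => hca (hφ (by rw [← htr, h, hφa])),
    fun h => ?_, fun h => ?_⟩
  · have h1 : cj a (cj b (cj c e)) = cj c e := by
      have := congrArg (cj e) h
      rwa [tr, cj_cj hD he, cj_comm hD he hc.1 hec] at this
    rw [cj_cj_comm cbc, cj_cj_comm cac] at h1
    have h2 := cj_injective hD hc.1 h1
    have h3 : cj b e = cj a e := by
      have := congrArg (cj a) h2
      rwa [cj_cj hD ha.1] at this
    rw [← cj_comm hD he hb.1 heb, ← cj_comm hD he ha.1 hea] at h3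
    exact hab (cj_injective hD he h3).symm
  · set c' := tr e a b c
    have ca' := line_comm_mem hS hp hq hpq hne ha hmem
    have cb' := line_comm_mem hS hp hq hpq hne hb hmem
    have cc' := line_comm_mem hS hp hq hpq hne hc hmem
    have h1 : c' = cj a (cj b (cj c e)) := by
      have := cj_eq_self hD he h
      rw [← this]
      show cj e (cj e _) = _
      rw [cj_cj hD he]
    rw [cj_cj_comm cbc, cj_cj_comm cac] at h1
    have h2 : c' = cj a (cj b e) := by
      have := congrArg (cj c) h1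
      rwa [cj_cj hD hc.1, cj_eq_self hD hc.1 cc'] at this
    have h3 : c' = cj b e := by
      have := congrArg (cj a) h2
      rwa [cj_cj hD ha.1, cj_eq_self hD ha.1 ca'] at this
    have h4 : c' = e := by
      have := congrArg (cj b) h3
      rwa [cj_cj hD hb.1, cj_eq_self hD hb.1 cb'] at this
    exact hea (h4 ▸ ca'.symm)

/-- Composition of two translations. -/
theorem tr_comp {e o w u v : G} (he : e ∈ D) (ho : o ∈ line D p q) (hw : w ∈ line D p q)
    (hu : u ∈ line D p q) (hv : v ∈ line D p q) (heo : ¬ Commute e o) (heu : ¬ Commute e u)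
    (hev : ¬ Commute e v) (hou : o ≠ u) (hvo : v ≠ o) (hvu : v ≠ u) :
    tr e o w (tr e o u v) = tr e w u v := by
  have hD := hS.cls
  obtain ⟨hm, -, -, -, hn⟩ := tr_spec hS hp hq hpq hne he ho hu hv hou hvo hvu heo heu hev
  rw [tr_eq hS hp hq hpq hne he hm hn, tr_eq hS hp hq hpq hne he hv hev,
    tr_eq hS hp hq hpq hne he hv hev, cj_cj hD he,
    cj_cj_comm (line_comm_mem hS hp hq hpq hne hw ho), cj_cj hD ho.1]

theorem even_far {e : G} (he : e ∈ D) (h3 : 3 ≤ {d | d ∈ line D p q ∧ ¬ Commute e d}.ncard) :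
    Even {d | d ∈ line D p q ∧ ¬ Commute e d}.ncard := by
  classical
  set A := {d | d ∈ line D p q ∧ ¬ Commute e d} with hA
  obtain ⟨a, ha⟩ : A.Nonempty := Set.nonempty_of_ncard_ne_zero (by omega)
  obtain ⟨b, hb, hba⟩ := Set.exists_ne_of_one_lt_ncard (by omega : 1 < A.ncard) a
  let σ : G → G := fun d => if d = a then b else if d = b then a else tr e a b d
  have hσA : ∀ d ∈ A, σ d ∈ A ∧ σ d ≠ d ∧ σ (σ d) = d := by
    intro d hd
    by_cases h1 : d = a
    · subst h1
      simp [σ, hb, hba]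
    by_cases h2 : d = b
    · subst h2
      simp [σ, ha, hba, hba.symm]
    obtain ⟨hm, hma, hmb, hmc, hn⟩ :=
      tr_spec hS hp hq hpq hne he ha.1 hb.1 hd.1 hba.symm h1 h2 ha.2 hb.2 hd.2
    have hσ : σ d = tr e a b d := by simp [σ, h1, h2]
    refine ⟨hσ ▸ ⟨hm, hn⟩, hσ ▸ hmc, ?_⟩
    rw [hσ]
    simp only [σ, if_neg hma, if_neg hmb]
    rw [tr_eq hS hp hq hpq hne he hm hn, tr_eq hS hp hq hpq hne he hd.1 hd.2, cj_cj hS.cls he,
      ← cj_cj_comm (line_comm_mem hS hp hq hpq hne ha.1 hb.1).symm, cj_cj hS.cls ha.1.1,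
      cj_cj hS.cls hb.1.1, cj_cj hS.cls he]
  have h2 : ∑ _d ∈ A.toFinite.toFinset, (1 : ZMod 2) = 0 :=
    Finset.sum_involution (fun d _ => σ d) (fun _ _ => rfl)
      (fun d hd _ => (hσA d (A.toFinite.mem_toFinset.1 hd)).2.1)
      (fun d hd => A.toFinite.mem_toFinset.2 (hσA d (A.toFinite.mem_toFinset.1 hd)).1)
      (fun d hd => (hσA d (A.toFinite.mem_toFinset.1 hd)).2.2)
  rw [Finset.sum_const, nsmul_one, ← Set.ncard_eq_toFinset_card _ A.toFinite] at h2
  exact even_iff_two_dvd.2 ((ZMod.natCast_eq_zero_iff _ 2).1 h2)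

omit hp hq hpq hne in
theorem link_nonadj {x v : G} (hx : x ∈ D) (hv : v ∈ link D x) :
    ∃ w ∈ link D x, ¬ Commute v w := by
  obtain ⟨u₀, hu₀, v₀, hv₀, h⟩ := hS.spread x hx
  obtain ⟨k, hk, rfl⟩ := link_single_class hS.cls hS.prim hS.edge hS.same hx hu₀ hv
  refine ⟨k * v₀ * k⁻¹, linkClass_subset_link hS.cls hv₀ ⟨k, hk, rfl⟩,
    fun h' => h ((commute_conj_iff' k u₀ v₀).1 h')⟩

omit hp hq hpq hne in
theorem exists_common {x y : G} (hx : x ∈ D) (hy : y ∈ D) (hxy : ¬ Commute x y) :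
    ∃ w ∈ D, Commute x w ∧ Commute y w := by
  obtain ⟨u, hu, v, hv, huv⟩ := hS.spread x hx
  obtain ⟨g, hg⟩ := CfsgLib.ThreeTransp.class_conj hS.cls hu.1 hx
  have h1 : ¬ Commute x (g * v * g⁻¹) := hg ▸ fun h => huv ((commute_conj_iff' g u v).1 h)
  obtain ⟨k, hk, hk'⟩ := rel_noncommuting hS.cls hS.prim hS.edge hx
    (CfsgLib.ThreeTransp.class_conj_mem hS.cls g hv.1) hy h1 hxy
  refine ⟨k * (g * x * g⁻¹) * k⁻¹, CfsgLib.ThreeTransp.class_conj_mem hS.cls k
    (CfsgLib.ThreeTransp.class_conj_mem hS.cls g hx), ?_, ?_⟩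
  · have h2 := (commute_conj_iff' k _ _).2 ((commute_conj_iff' g u x).2 hu.2.2.symm)
    rwa [hg, conj_self_of_commute hk] at h2
  · rw [← hk']
    exact (commute_conj_iff' k _ _).2 ((commute_conj_iff' g v x).2 hv.2.2.symm)

theorem unique_point {e c d : G} (he : e ∈ D) (hc : c ∈ line D p q) (hd : d ∈ line D p q)
    (hec : Commute e c) (hed : Commute e d) {f : G} (hf : f ∈ line D p q)
    (hef : ¬ Commute e f) : c = d := by
  by_contra h
  exact hef (commute_line hS hp hq hpq hne hc hd h he hec hed hf)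

theorem far_card {e c : G} (he : e ∈ D) (hc : c ∈ line D p q) (hec : Commute e c) {f : G}
    (hf : f ∈ line D p q) (hef : ¬ Commute e f) :
    {d | d ∈ line D p q ∧ ¬ Commute e d}.ncard + 1 = (line D p q).ncard := by
  have h : {d | d ∈ line D p q ∧ ¬ Commute e d} = line D p q \ {c} := by
    ext d
    refine ⟨fun h => ⟨h.1, fun h' => h.2 (Set.mem_singleton_iff.1 h' ▸ hec)⟩, fun h => ⟨h.1, fun h' => ?_⟩⟩
    exact h.2 (unique_point hS hp hq hpq hne he h.1 hc h' hec hf hef)
  rw [h, Set.ncard_sdiff_singleton_of_mem hc]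
  exact Nat.succ_pred_eq_of_pos ((Set.ncard_pos (Set.toFinite _)).2 ⟨c, hc⟩)

theorem three_le_ncard_line : 3 ≤ (line D p q).ncard := by
  obtain ⟨c, hc, hcp, hcq⟩ := exists_third hS hp hq hpq hne
  exact (Set.two_lt_ncard_iff (Set.toFinite _)).2
    ⟨p, q, c, left_mem_line hp, right_mem_line hq, hc, hne, hcp.symm, hcq.symm⟩

/-- Every member commutes with some point of every line. -/
theorem exists_on_line {e : G} (he : e ∈ D) : ∃ d ∈ line D p q, Commute e d := by
  by_contra! hnone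
  have hA : {d | d ∈ line D p q ∧ ¬ Commute e d} = line D p q :=
    Set.ext fun d => ⟨fun h => h.1, fun h => ⟨h, hnone d h⟩⟩
  have h3 := three_le_ncard_line hS hp hq hpq hne
  have hev := even_far hS hp hq hpq hne he (by rw [hA]; exact h3)
  rw [hA] at hev
  have hep := hnone p (left_mem_line hp)
  obtain ⟨w, hw, hew, hpw⟩ := exists_common hS he hp hep
  have hpwne : p ≠ w := fun h => hep (h ▸ hew)
  have hcard := ncard_line hS hp hw hpw hpwne hp hq hpq hne
  have h1 := far_card hS hp hw hpw hpwne he (right_mem_line hw) hew (left_mem_line hp) hep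
  obtain ⟨m, hm⟩ := hev
  obtain ⟨m', hm'⟩ := even_far hS hp hw hpw hpwne he (by omega)
  omega

/-- The member opposite to `e` over a pair of points of a line. -/
theorem exists_opposite {P Q e : G} (hP : P ∈ line D p q) (hQ : Q ∈ line D p q) (he : e ∈ D)
    (heP : Commute e P) (heQ : ¬ Commute e Q) :
    ∃ f ∈ D, Commute e f ∧ f ≠ e ∧ Commute f Q ∧ ¬ Commute f P := by
  have hPQ := line_comm_mem hS hp hq hpq hne hP hQ
  have hePne : e ≠ P := fun h => heQ (h ▸ hPQ)
  obtain ⟨u, hu, hPu⟩ := link_nonadj hS he (v := P) ⟨hP.1, hePne.symm, heP⟩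
  obtain ⟨f, hf, hQf⟩ := exists_on_line hS he hu.1 hu.2.2 hu.2.1.symm hQ.1
  have hfe : f ≠ e := fun h => heQ (h ▸ hQf).symm
  refine ⟨f, hf.1, (commute_of_mem_line hS he hu.1 hu.2.2 hu.2.1.symm (left_mem_line he) hf), hfe,
    hQf.symm, fun hfP => hPu ?_⟩
  exact commute_line hS he hu.1 hu.2.2 hu.2.1.symm (left_mem_line he) hf hfe.symm hP.1 heP.symm
    hfP.symm (right_mem_line hu.1)

/-- Translations at two opposite points give the same fifth point. -/
theorem tr_opposite {P Q a b e f : G} (hP : P ∈ line D p q) (hQ : Q ∈ line D p q)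
    (ha : a ∈ line D p q) (hb : b ∈ line D p q) (hPQ : P ≠ Q) (hPa : P ≠ a) (hPb : P ≠ b)
    (hQa : Q ≠ a) (hQb : Q ≠ b) (hab : a ≠ b) (he : e ∈ D) (hf : f ∈ D) (hef : Commute e f)
    (heP : Commute e P) (hfQ : Commute f Q) (heQ : ¬ Commute e Q) (hfP : ¬ Commute f P) :
    tr e Q a b = tr f P a b := by
  have hD := hS.cls
  have cm := fun {u v : G} (hu : u ∈ line D p q) (hv : v ∈ line D p q) =>
    line_comm_mem hS hp hq hpq hne hu hv
  have hea : ¬ Commute e a := fun h => hPa (unique_point hS hp hq hpq hne he hP ha heP h hQ heQ)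
  have heb : ¬ Commute e b := fun h => hPb (unique_point hS hp hq hpq hne he hP hb heP h hQ heQ)
  have hfa : ¬ Commute f a := fun h => hQa (unique_point hS hp hq hpq hne hf hQ ha hfQ h hP hfP)
  have hfb : ¬ Commute f b := fun h => hQb (unique_point hS hp hq hpq hne hf hQ hb hfQ h hP hfP)
  obtain ⟨hc, -, hca, -, -⟩ :=
    tr_spec hS hp hq hpq hne he hQ ha hb hQa hQb.symm hab.symm heQ hea heb
  obtain ⟨hc', -, -, -, -⟩ :=
    tr_spec hS hp hq hpq hne hf hP ha hb hPa hPb.symm hab.symm hfP hfa hfb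
  have hcQ : tr e Q a b ≠ Q :=
    (tr_spec hS hp hq hpq hne he hQ ha hb hQa hQb.symm hab.symm heQ hea heb).2.1
  set c := tr e Q a b with hcdef
  set c' := tr f P a b with hcdef'
  set e' := cj a (cj Q e) with he'def
  set f' := cj a (cj P f) with hf'def
  have he'D : e' ∈ D := cj_mem hD ha.1 (cj_mem hD hQ.1 he)
  have hf'D : f' ∈ D := cj_mem hD ha.1 (cj_mem hD hP.1 hf)
  have cje' : ∀ u, cj e' u = cj a (cj Q (cj e (cj Q (cj a u)))) := fun u => by
    simp only [he'def, cj, mul_assoc]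
  have cjf' : ∀ u, cj f' u = cj a (cj P (cj f (cj P (cj a u)))) := fun u => by
    simp only [hf'def, cj, mul_assoc]
  have hX : cj e' c = cj e b := by
    rw [cje', cj_eq_self hD ha.1 (cm ha hc), cj_eq_self hD hQ.1 (cm hQ hc), hcdef, tr, cj_cj hD he,
      cj_cj hD hQ.1, cj_cj hD ha.1, cj_comm hD he hb.1 heb]
  have hY : cj f' c' = cj f b := by
    rw [cjf', cj_eq_self hD ha.1 (cm ha hc'), cj_eq_self hD hP.1 (cm hP hc'), hcdef', tr,
      cj_cj hD hf, cj_cj hD hP.1, cj_cj hD ha.1, cj_comm hD hf hb.1 hfb]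
  have hef' : Commute e' f' := by
    rw [he'def, hf'def, commute_cj_iff hD ha.1]
    have h1 : Commute (cj Q e) f := by
      have := (commute_cj_iff hD hQ.1 e f).2 hef
      rwa [cj_eq_self hD hQ.1 hfQ.symm] at this
    have h2 := (commute_cj_iff hD hP.1 _ _).2 h1
    rwa [cj_cj_comm (cm hP hQ), cj_eq_self hD hP.1 heP.symm] at h2
  have hXQ : ¬ Commute (cj e b) Q := by
    rw [cj_comm hD he hb.1 heb]
    exact fun h => not_commute_cj hD hb.1 (cm hQ hb) (fun h' => heQ h'.symm) h.symm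
  have hXY : Commute (cj e b) (cj f b) := by
    rw [cj_comm hD he hb.1 heb, cj_comm hD hf hb.1 hfb]
    exact (commute_cj_iff hD hb.1 e f).2 hef
  have hce' : ¬ Commute c e' := fun h => hXQ (by
    rw [← hX, cj_eq_self hD he'D h.symm]; exact cm hc hQ)
  have hf'Q : Commute Q f' := commute_cj (cm hQ ha) (commute_cj (cm hQ hP) hfQ.symm)
  have hf'a : ¬ Commute a f' := fun h => by
    have h1 := (commute_cj_iff hD ha.1 a f').2 h
    rw [cj_eq_self hD ha.1 (Commute.refl a), hf'def, cj_cj hD ha.1] at h1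
    exact not_commute_cj hD hP.1 (cm ha hP) (fun h' => hfa h'.symm) h1
  have hcf' : ¬ Commute c f' := fun h =>
    hcQ (unique_point hS hp hq hpq hne hf'D hc hQ h.symm hf'Q.symm ha fun h' => hf'a h'.symm)
  have hXZ : Commute (cj e b) (cj f' c) := by
    rw [← hX, cj_comm hD he'D hc.1 fun h => hce' h.symm, cj_comm hD hf'D hc.1 fun h => hcf' h.symm]
    exact (commute_cj_iff hD hc.1 e' f').2 hef'
  by_contra hne'
  apply hXQ
  have hL := line_eq hS hp hq hpq hne hP hQ hPQ
  have hM := fun {u : G} (hu : u ∈ line D p q) => line_cj_mem hS hf'D (hL ▸ hu : u ∈ line D P Q)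
  have h := commute_line hS (cj_mem hD hf'D hP.1) (cj_mem hD hf'D hQ.1)
    ((commute_cj_iff hD hf'D P Q).2 (cm hP hQ)) (fun h => hPQ (cj_injective hD hf'D h)) (hM hc')
    (hM hc) (fun h => hne' (cj_injective hD hf'D h).symm) (cj_mem hD he hb.1) (hY ▸ hXY) hXZ
    (hM hQ)
  rwa [cj_eq_self hD hf'D hf'Q.symm] at h

/-- Lines have three or five points. -/
theorem ncard_line_cases : (line D p q).ncard = 3 ∨ (line D p q).ncard = 5 := by
  set k := (line D p q).ncard with hk
  have h3 := three_le_ncard_line hS hp hq hpq hne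
  obtain ⟨w, hw, hqw⟩ := link_nonadj hS hp (v := q) ⟨hq, hne.symm, hpq⟩
  -- `w` commutes exactly with `p`
  have hwq : ¬ Commute w q := fun h => hqw h.symm
  have hfar := far_card hS hp hq hpq hne hw.1 (left_mem_line hp) hw.2.2.symm (right_mem_line hq) hwq
  rcases eq_or_lt_of_le h3 with h | h
  · exact Or.inl h.symm
  obtain ⟨m, hm⟩ := even_far hS hp hq hpq hne hw.1 (by omega)
  by_contra hcon
  push Not at hcon
  have h6 : 6 ≤ k := by omega
  have cm := fun {u v : G} (hu : u ∈ line D p q) (hv : v ∈ line D p q) =>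
    line_comm_mem hS hp hq hpq hne hu hv
  -- five points and a sixth
  obtain ⟨f, hf, hwf, hfw, hfq, hfp⟩ := exists_opposite hS hp hq hpq hne (left_mem_line hp)
    (right_mem_line hq) hw.1 hw.2.2.symm hwq
  set L := line D p q with hL
  have h2 : 1 < (L \ {p, q}).ncard := by
    rw [Set.ncard_sdiff (Set.insert_subset (left_mem_line hp) (Set.singleton_subset_iff.2
      (right_mem_line hq))), Set.ncard_pair hne]
    omega
  obtain ⟨a, ⟨ha, ha'⟩, b, ⟨hb, hb'⟩, hab⟩ := (Set.one_lt_ncard (Set.toFinite _)).1 h2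
  simp only [Set.mem_insert_iff, Set.mem_singleton_iff, not_or] at ha' hb'
  have far : ∀ {e P : G}, e ∈ D → P ∈ L → Commute e P → ∀ {Q : G}, Q ∈ L → ¬ Commute e Q →
      ∀ {u : G}, u ∈ L → u ≠ P → ¬ Commute e u := fun {e P} he hP heP {Q} hQ heQ {u} hu huP h =>
    huP (unique_point hS hp hq hpq hne he hu hP h heP hQ heQ)
  have hwa := far hw.1 (left_mem_line hp) hw.2.2.symm (right_mem_line hq) hwq ha ha'.1
  have hwb := far hw.1 (left_mem_line hp) hw.2.2.symm (right_mem_line hq) hwq hb hb'.1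
  have hfa := far hf (right_mem_line hq) hfq (left_mem_line hp) hfp ha ha'.2
  have hfb := far hf (right_mem_line hq) hfq (left_mem_line hp) hfp hb hb'.2
  obtain ⟨hc, hcq, hca, hcb, hwc⟩ := tr_spec hS hp hq hpq hne hw.1 (right_mem_line hq) ha hb
    (Ne.symm ha'.2) hb'.2 hab.symm hwq hwa hwb
  set c := tr w q a b with hcdef
  have hcp : c ≠ p := fun h => hwc (h.symm ▸ hw.2.2.symm)
  obtain ⟨s, hs, hs'⟩ := Set.exists_mem_notMem_of_ncard_lt_ncard
    (s := ({p, q, a, b, c} : Set G)) (t := L)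
    (lt_of_le_of_lt (show ({p, q, a, b, c} : Set G).ncard ≤ 5 from by
      have i1 := Set.ncard_insert_le p ({q, a, b, c} : Set G)
      have i2 := Set.ncard_insert_le q ({a, b, c} : Set G)
      have i3 := Set.ncard_insert_le a ({b, c} : Set G)
      have i4 := Set.ncard_insert_le b ({c} : Set G)
      have i5 : ({c} : Set G).ncard = 1 := Set.ncard_singleton c
      omega) (by omega))
  simp only [Set.mem_insert_iff, Set.mem_singleton_iff, not_or] at hs'
  obtain ⟨hsp, hsq, hsa, hsb, hsc⟩ := hs'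
  have hws := far hw.1 (left_mem_line hp) hw.2.2.symm (right_mem_line hq) hwq hs hsp
  have hfs := far hf (right_mem_line hq) hfq (left_mem_line hp) hfp hs hsq
  -- the point opposite to `s`
  have hwfne : w ≠ f := hfw.symm
  obtain ⟨g, hg, hsg⟩ := exists_on_line hS hw.1 hf hwf hwfne hs.1
  have hgw : g ≠ w := fun h => hws (h ▸ hsg).symm
  have hgf : g ≠ f := fun h => hfs (h ▸ hsg).symm
  have cwg := commute_of_mem_line hS hw.1 hf hwf hwfne (left_mem_line hw.1) hg
  have cfg := commute_of_mem_line hS hw.1 hf hwf hwfne (right_mem_line hf) hg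
  have hgp : ¬ Commute g p := fun h => hfp (commute_line hS hw.1 hf hwf hwfne (left_mem_line hw.1)
    hg hgw.symm hp hw.2.2 h.symm (right_mem_line hf)).symm
  have hgq : ¬ Commute g q := fun h => hwq (commute_line hS hw.1 hf hwf hwfne (right_mem_line hf)
    hg hgf.symm hq hfq.symm h.symm (left_mem_line hw.1)).symm
  have hga := far hg.1 hs hsg.symm (left_mem_line hp) hgp ha (Ne.symm hsa)
  have hgb := far hg.1 hs hsg.symm (left_mem_line hp) hgp hb (Ne.symm hsb)
  have I1 : c = tr f p a b := tr_opposite hS hp hq hpq hne (left_mem_line hp) (right_mem_line hq) ha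
    hb hne (Ne.symm ha'.1) (Ne.symm hb'.1) (Ne.symm ha'.2) (Ne.symm hb'.2) hab hw.1 hf hwf
    hw.2.2.symm hfq hwq hfp
  have I2 : tr w q s c = tr f p s c := tr_opposite hS hp hq hpq hne (left_mem_line hp)
    (right_mem_line hq) hs hc hne (Ne.symm hsp) hcp.symm (Ne.symm hsq) hcq.symm hsc hw.1 hf hwf
    hw.2.2.symm hfq hwq hfp
  have I3 : tr w s a b = tr g p a b := tr_opposite hS hp hq hpq hne (left_mem_line hp) hs ha
    hb (Ne.symm hsp) (Ne.symm ha'.1) (Ne.symm hb'.1) hsa hsb hab hw.1 hg.1 cwg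
    hw.2.2.symm hsg.symm hws hgp
  have I4 : tr f s a b = tr g q a b := tr_opposite hS hp hq hpq hne (right_mem_line hq) hs ha
    hb (Ne.symm hsq) (Ne.symm ha'.2) (Ne.symm hb'.2) hsa hsb hab hf hg.1 cfg
    hfq hsg.symm hfs hgq
  have K1 : tr w q s c = tr w s a b := tr_comp hS hp hq hpq hne hw.1 (right_mem_line hq) hs ha hb
    hwq hwa hwb (Ne.symm ha'.2) hb'.2 hab.symm
  have K2 : tr f p s c = tr f s a b := by
    rw [I1]
    exact tr_comp hS hp hq hpq hne hf (left_mem_line hp) hs ha hb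
      hfp hfa hfb (Ne.symm ha'.1) hb'.1 hab.symm
  have hfin : tr g p a b = tr g q a b := by rw [← I3, ← K1, I2, K2, I4]
  rw [tr, tr] at hfin
  have h1 := cj_injective hS.cls hg.1 hfin
  have e1 : ∀ u ∈ L, cj u (cj a (cj b g)) = cj a (cj b (cj u g)) := fun u hu => by
    rw [cj_cj_comm (cm hu ha), cj_cj_comm (cm hu hb)]
  rw [e1 p (left_mem_line hp), e1 q (right_mem_line hq)] at h1
  have h4 := cj_injective hS.cls hb.1 (cj_injective hS.cls ha.1 h1)
  rw [← cj_comm hS.cls hg.1 hp hgp, ← cj_comm hS.cls hg.1 hq hgq] at h4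
  exact hne (cj_injective hS.cls hg.1 h4)

end CfsgLib.FischerPolar
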