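import Cfsg.Agent.Lib.FischerPolar.Setup
import Cfsg.Agent.Lib.Solvable.Core
import Cfsg.Agent.Lib.ThreeTransp.WidthOne

set_option autoImplicit false
set_option linter.unusedSectionVars false

/-! Polar classes whose link groups are solvable. -/

namespace CfsgLib.FischerPolar

open CfsgLib.ThreeTrans
open scoped commutatorElement

variable {G : Type*} [Group G] [Finite G] {D : Set G}

theorem eq_one_of_two_three {Q : Type*} [Group Q] {g : Q} (h2 : g * g = 1) (h3 : g * (g * g) = 1) :
    g = 1 := by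
  rwa [h2, mul_one] at h3

/-- Four members forming a path in a link make the link group non-solvable. -/
theorem no_path (hD : Cfsg.IsThreeTranspositionClass D) {x : G}
    (hs : Group.IsSolvable ↥(Subgroup.closure (link D x))) {a b c d : G} (ha : a ∈ link D x)
    (hb : b ∈ link D x) (hc : c ∈ link D x) (hd : d ∈ link D x) (hab : ¬ Commute a b)
    (hbc : ¬ Commute b c) (hcd : ¬ Commute c d) (hac : Commute a c) (had : Commute a d)
    (hbd : Commute b d) : False := by
  set K := Subgroup.closure (link D x)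
  set A : K := ⟨a, Subgroup.subset_closure ha⟩
  set B : K := ⟨b, Subgroup.subset_closure hb⟩
  set C : K := ⟨c, Subgroup.subset_closure hc⟩
  set E : K := ⟨d, Subgroup.subset_closure hd⟩
  have tri : ∀ (u v : G) (hu : u ∈ link D x) (hv : v ∈ link D x), ¬ Commute u v →
      (⟨u, Subgroup.subset_closure hu⟩ * ⟨v, Subgroup.subset_closure hv⟩ : K) ^ 3 = 1 :=
    fun u v hu hv h => Subtype.ext (by
      rw [SubmonoidClass.coe_pow]; exact cube_eq_one hD.1 hu.1 hv.1 h)
  have two : ∀ (u v : G) (hu : u ∈ link D x) (hv : v ∈ link D x), Commute u v →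
      (⟨u, Subgroup.subset_closure hu⟩ * ⟨v, Subgroup.subset_closure hv⟩ : K) ^ 2 = 1 :=
    fun u v hu hv h => Subtype.ext (by
      rw [SubmonoidClass.coe_pow]; exact (commute_iff_sq hD.1 hu.1 hv.1).1 h)
  have sB : B * B = 1 := Subtype.ext (mul_self hD.1 hb.1)
  have sC : C * C = 1 := Subtype.ext (mul_self hD.1 hc.1)
  have all : ∀ k, A * B ∈ derivedSeries K k ∧ B * C ∈ derivedSeries K k ∧
      C * E ∈ derivedSeries K k := by
    intro k
    induction k with
    | zero => exact ⟨Subgroup.mem_top _, Subgroup.mem_top _, Subgroup.mem_top _⟩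
    | succ k ih =>
      obtain ⟨i1, i2, i3⟩ := ih
      set M := derivedSeries K (k + 1) with hM
      have : M.Normal := derivedSeries_normal K (k + 1)
      set π := QuotientGroup.mk' M with hπ
      have hcom : ∀ g h : K, g ∈ derivedSeries K k → h ∈ derivedSeries K k →
          Commute (π g) (π h) := fun g h hg hh => by
        have hm : ⁅g, h⁆ ∈ M := by
          rw [hM, derivedSeries_succ]; exact Subgroup.commutator_mem_commutator hg hh
        have h1 : π ⁅g, h⁆ = 1 := (QuotientGroup.eq_one_iff _).2 hm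
        rw [map_commutatorElement] at h1
        exact commutatorElement_eq_one_iff_commute.1 h1
      have e1 : π (A * B) * π (B * C) = π (A * C) := by
        rw [← map_mul, mul_assoc A B, ← mul_assoc B B, sB, one_mul]
      have e2 : π (B * C) * π (C * E) = π (B * E) := by
        rw [← map_mul, mul_assoc B C, ← mul_assoc C C, sC, one_mul]
      have e3 : π (A * B) * π (B * C) * π (C * E) = π (A * E) := by
        rw [e1, ← map_mul, mul_assoc A C, ← mul_assoc C C, sC, one_mul]
      have c1 := hcom _ _ i1 i2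
      have c2 := hcom _ _ i2 i3
      have c3 : Commute (π (A * B) * π (B * C)) (π (C * E)) := (hcom _ _ i1 i3).mul_left c2
      have t1 : π (A * B) ^ 3 = 1 := by rw [← map_pow, tri a b ha hb hab, map_one]
      have t2 : π (B * C) ^ 3 = 1 := by rw [← map_pow, tri b c hb hc hbc, map_one]
      have t3 : π (C * E) ^ 3 = 1 := by rw [← map_pow, tri c d hc hd hcd, map_one]
      have kill : ∀ q : K ⧸ M, q ^ 2 = 1 → q ^ 3 = 1 → q = 1 := fun q h2 h3 => by
        rwa [pow_succ, h2, one_mul] at h3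
      have f1 : π (A * B) * π (B * C) = 1 := kill _
        (by rw [e1, ← map_pow, two a c ha hc hac, map_one]) (by rw [c1.mul_pow, t1, t2, one_mul])
      have f2 : π (B * C) * π (C * E) = 1 := kill _
        (by rw [e2, ← map_pow, two b d hb hd hbd, map_one]) (by rw [c2.mul_pow, t2, t3, one_mul])
      have f3 : π (A * B) * π (B * C) * π (C * E) = 1 := kill _
        (by rw [e3, ← map_pow, two a d ha hd had, map_one])
        (by rw [c3.mul_pow, c1.mul_pow, t1, t2, t3, one_mul, one_mul])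
      have g3 : π (C * E) = 1 := by rwa [f1, one_mul] at f3
      have g2 : π (B * C) = 1 := by rwa [g3, mul_one] at f2
      have g1 : π (A * B) = 1 := by rwa [g2, mul_one] at f1
      exact ⟨(QuotientGroup.eq_one_iff _).1 g1, (QuotientGroup.eq_one_iff _).1 g2,
        (QuotientGroup.eq_one_iff _).1 g3⟩
  obtain ⟨k, hk⟩ := (Group.isSolvable_def _).1 hs
  have h1 := (all k).1
  rw [hk, Subgroup.mem_bot] at h1
  have h2 : a * b = 1 := congrArg Subtype.val h1
  exact hab (by rw [(eq_inv_of_mul_eq_one_left h2).trans (inv_eq hD.1 hb.1)])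

/-- The same for a path in any link, all links being conjugate. -/
theorem no_path' (hD : Cfsg.IsThreeTranspositionClass D) {x : G} (hx : x ∈ D)
    (hs : Group.IsSolvable ↥(Subgroup.closure (link D x))) {x' a b c d : G} (hx' : x' ∈ D)
    (ha : a ∈ link D x') (hb : b ∈ link D x') (hc : c ∈ link D x') (hd : d ∈ link D x')
    (hab : ¬ Commute a b) (hbc : ¬ Commute b c) (hcd : ¬ Commute c d) (hac : Commute a c)
    (had : Commute a d) (hbd : Commute b d) : False := by
  obtain ⟨g, hg⟩ := CfsgLib.ThreeTransp.class_conj hD hx' hx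
  have hl := link_conj hD g x'
  rw [hg] at hl
  have m : ∀ {u : G}, u ∈ link D x' → g * u * g⁻¹ ∈ link D x := fun hu => hl ▸ ⟨_, hu, rfl⟩
  exact no_path hD hs (m ha) (m hb) (m hc) (m hd) (by rwa [commute_conj_iff'])
    (by rwa [commute_conj_iff']) (by rwa [commute_conj_iff']) (by rwa [commute_conj_iff'])
    (by rwa [commute_conj_iff']) (by rwa [commute_conj_iff'])

/-- With solvable links the symplectic dimension is four. -/
theorem symplectic_two (hS : SpSetting D) {x : G} (hx : x ∈ D)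
    (hs : Group.IsSolvable ↥(Subgroup.closure (link D x))) :
    Nonempty (G ≃* Matrix.symplecticGroup (Fin 2) (ZMod 2)) := by
  obtain ⟨m, e, v, hinj, hne, hsurj, hcom⟩ := nonempty_equiv_symplectic hS
  suffices hm : m = 2 by subst hm; exact e
  rcases Nat.lt_trichotomy m 2 with hm | hm | hm
  · exfalso
    obtain ⟨a, ha, b, hb, hab, hc⟩ := hS.toSetting.edge
    have hform := (hcom ⟨a, ha⟩ ⟨b, hb⟩).1 hc
    have hne' : v ⟨a, ha⟩ ≠ v ⟨b, hb⟩ := fun e => hab (congrArg Subtype.val (hinj e))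
    have key : ∀ (m : ℕ), m < 2 → ∀ u w : Fin m ⊕ Fin m → ZMod 2, u ≠ 0 → w ≠ 0 →
        Cfsg.sympForm m (ZMod 2) u w = 0 → u = w := by
      intro m hm u w hu hw hf
      rcases Nat.le_one_iff_eq_zero_or_eq_one.1 (Nat.lt_succ_iff.1 hm) with rfl | rfl
      · exact absurd (funext fun i => i.elim Fin.elim0 Fin.elim0) hu
      rw [CfsgLib.Linear.Symp.sympForm_eq_sum, Fin.sum_univ_one] at hf
      have d : ∀ a b c d : ZMod 2, (a, b) ≠ (0, 0) → (c, d) ≠ (0, 0) → b * c - a * d = 0 →
          a = c ∧ b = d := by decide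
      have nz : ∀ z : Fin 1 ⊕ Fin 1 → ZMod 2, z ≠ 0 → (z (.inl 0), z (.inr 0)) ≠ (0, 0) :=
        fun z hz e => hz (funext fun i => by
          rcases i with i | i <;> rw [Fin.fin_one_eq_zero i]
          · exact congrArg Prod.fst e
          · exact congrArg Prod.snd e)
      obtain ⟨h1, h2⟩ := d _ _ _ _ (nz u hu) (nz w hw) hf
      exact funext fun i => by rcases i with i | i <;> rw [Fin.fin_one_eq_zero i] <;> assumption
    exact hne' (key m hm _ _ (hne _) (hne _) hform)
  · exact hm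
  exfalso
  set i0 : Fin m := ⟨0, by omega⟩
  set i1 : Fin m := ⟨1, by omega⟩
  set i2 : Fin m := ⟨2, by omega⟩
  have h01 : i0 ≠ i1 := by simp [i0, i1]
  have h02 : i0 ≠ i2 := by simp [i0, i2]
  have h12 : i1 ≠ i2 := by simp [i1, i2]
  let ε : Fin m → Fin m ⊕ Fin m → ZMod 2 := fun i => Pi.single (.inl i) 1
  let δ : Fin m → Fin m ⊕ Fin m → ZMod 2 := fun i => Pi.single (.inr i) 1
  have fee : ∀ i j, Cfsg.sympForm m (ZMod 2) (ε i) (ε j) = 0 := fun i j => by
    rw [CfsgLib.Linear.Symp.form_single_inl]; simp [ε]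
  have fdd : ∀ i j, Cfsg.sympForm m (ZMod 2) (δ i) (δ j) = 0 := fun i j => by
    rw [CfsgLib.Linear.Symp.form_single_inr]; simp [δ]
  have fed : ∀ i j, Cfsg.sympForm m (ZMod 2) (ε i) (δ j) = if i = j then 1 else 0 := fun i j => by
    rw [CfsgLib.Linear.Symp.form_single_inr]
    by_cases h : i = j <;> simp [ε, h, Ne.symm]
  have fde : ∀ i j, Cfsg.sympForm m (ZMod 2) (δ i) (ε j) = if i = j then 1 else 0 := fun i j => by
    rw [CfsgLib.Linear.Symp.form_swap, fed]
    by_cases h : i = j <;> simp [h, eq_comm]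
  have ne1 : ∀ (u w : Fin m ⊕ Fin m → ZMod 2), Cfsg.sympForm m (ZMod 2) u w = 1 → u ≠ 0 :=
    fun u w hf e => zero_ne_one (α := ZMod 2) (by
      rw [← hf, e, CfsgLib.Linear.Symp.form_zero_left])
  have za : ε i1 ≠ 0 := ne1 _ (δ i1) (by simp [fed])
  have zb : δ i1 ≠ 0 := ne1 _ (ε i1) (by simp [fde])
  have fbc : Cfsg.sympForm m (ZMod 2) (δ i1) (ε i1 + ε i2) = 1 := by
    simp [CfsgLib.Linear.Symp.form_add_right, fde, h12]
  have fcd : Cfsg.sympForm m (ZMod 2) (ε i1 + ε i2) (δ i2) = 1 := by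
    simp [CfsgLib.Linear.Symp.form_add_left, fed, h12]
  obtain ⟨X, hX⟩ := hsurj (ε i0) (ne1 _ (δ i0) (by simp [fed]))
  obtain ⟨A, hA⟩ := hsurj _ za
  obtain ⟨B, hB⟩ := hsurj _ zb
  obtain ⟨C, hC⟩ := hsurj _ (ne1 _ _ fcd)
  obtain ⟨E, hE⟩ := hsurj (δ i2) (ne1 _ (ε i2) (by simp [fde]))
  have lk : ∀ (T : ↥D) (j : Fin m ⊕ Fin m), Cfsg.sympForm m (ZMod 2) (ε i0) (v T) = 0 →
      v T j ≠ 0 → j ≠ .inl i0 → (T : G) ∈ link D (X : G) := by
    intro T j hf hj hj0
    refine ⟨T.2, fun e => hj ?_, (hcom X T).2 (by rw [hX]; exact hf)⟩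
    rw [show T = X from Subtype.ext e, hX]
    simp [ε, hj0]
  refine no_path' hS.cls hx hs X.2
    (lk A (.inl i1) (by rw [hA, fee]) (by simp [hA, ε]) (by simp [h01.symm]))
    (lk B (.inr i1) (by rw [hB, fed, if_neg h01]) (by simp [hB, δ]) (by simp))
    (lk C (.inl i2) (by simp [hC, CfsgLib.Linear.Symp.form_add_right, fee])
      (by simp [hC, ε, h12.symm]) (by simp [h02.symm]))
    (lk E (.inr i2) (by rw [hE, fed, if_neg h02]) (by simp [hE, δ]) (by simp)) ?_ ?_ ?_ ?_ ?_ ?_
  · rw [hcom, hA, hB, fed, if_pos rfl]; exact one_ne_zero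
  · rw [hcom, hB, hC, fbc]; exact one_ne_zero
  · rw [hcom, hC, hE, fcd]; exact one_ne_zero
  · rw [hcom, hA, hC, CfsgLib.Linear.Symp.form_add_right, fee, fee, add_zero]
  · rw [hcom, hA, hE, fed, if_neg h12]
  · rw [hcom, hB, hE, fdd]

/-- With solvable links the unitary dimension is at most five. -/
theorem unitary_le_five (hD : Cfsg.IsThreeTranspositionClass D) {n : ℕ} {Ψ : ↥D → (Fin n → F4)}
    (hM : UModel D n Ψ) {x : G} (hx : x ∈ D)
    (hs : Group.IsSolvable ↥(Subgroup.closure (link D x))) : n ≤ 5 := by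
  by_contra hn
  let ε : Fin 6 → Fin n → F4 := fun i => Pi.single ⟨i, by omega⟩ 1
  have fee : ∀ i j, hh (ε i) (ε j) = if i = j then 1 else 0 := fun i j => by
    rw [hh_single]
    simp [ε, Pi.single_apply, Fin.ext_iff, eq_comm]
  have self : ∀ i, hh (ε i) (ε i) = 1 := fun i => by rw [fee, if_pos rfl]
  let a4 : Fin n → F4 := ε 2 + ε 3 + ε 4 + om • ε 5
  have get : ∀ (u : Fin n → F4) (w : Fin n → F4), hh u u = 0 → hh u w ≠ 0 →
      ∃ T : ↥D, ∃ c : F4, c ≠ 0 ∧ u = c • Ψ T := by
    intro u w hu hw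
    have hu0 : u ≠ 0 := fun e => hw (by rw [e, hh_zero_left])
    obtain ⟨T, c, e⟩ := hM.onto u hu0 hu
    exact ⟨T, c, fun e' => hu0 (by rw [e, e', zero_smul]), e⟩
  obtain ⟨X, cX, hcX, hX⟩ := get (ε 0 + ε 1) (ε 0)
    (by simp [hh_add_left, hh_add_right, fee, add_self]) (by simp [hh_add_left, fee])
  obtain ⟨A, cA, hcA, hA⟩ := get (ε 2 + ε 3) (ε 2)
    (by simp [hh_add_left, hh_add_right, fee, add_self]) (by simp [hh_add_left, fee])
  obtain ⟨B, cB, hcB, hB⟩ := get (ε 3 + ε 4) (ε 3)
    (by simp [hh_add_left, hh_add_right, fee, add_self]) (by simp [hh_add_left, fee])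
  obtain ⟨C, cC, hcC, hC⟩ := get (ε 4 + ε 5) (ε 4)
    (by simp [hh_add_left, hh_add_right, fee, add_self]) (by simp [hh_add_left, fee])
  obtain ⟨E, cE, hcE, hE⟩ := get a4 (ε 2) (by
      simp [a4, hh_add_left, hh_add_right, hh_smul_left, hh_smul_right, fee]
      linear_combination 2 * two_zero + cube_one om_ne_zero)
    (by simp [a4, hh_add_left, hh_smul_left, fee])
  have tr : ∀ {S T : ↥D} {cS cT : F4} {u w : Fin n → F4}, cS ≠ 0 → cT ≠ 0 → u = cS • Ψ S →
      w = cT • Ψ T → (Commute (S : G) T ↔ hh u w = 0) := by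
    intro S T cS cT u w h1 h2 e1 e2
    rw [hM.comm, e1, e2, hh_smul_left, hh_smul_right]
    simp [h1, h2]
  have lk : ∀ {T : ↥D} {c : F4} {u : Fin n → F4} (i : Fin 6), c ≠ 0 → u = c • Ψ T →
      hh (ε 0 + ε 1) u = 0 → hh u (ε i) ≠ 0 → i ≠ 0 → i ≠ 1 → (T : G) ∈ link D (X : G) := by
    intro T c u i hc0 e hf hi hi0 hi1
    refine ⟨T.2, fun e' => hi ?_, (tr hcX hc0 hX e).2 hf⟩
    rw [e, show T = X from Subtype.ext e', hh_smul_left]
    have h0 : hh (ε 0 + ε 1) (ε i) = 0 := by simp [hh_add_left, fee, hi0.symm, hi1.symm]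
    rw [hX, hh_smul_left] at h0
    rw [(mul_eq_zero.1 h0).resolve_left hcX, mul_zero]
  refine no_path' hD hx hs X.2
    (lk 2 hcA hA (by simp [hh_add_left, hh_add_right, fee]) (by simp [hh_add_left, fee]) (by decide)
      (by decide))
    (lk 3 hcB hB (by simp [hh_add_left, hh_add_right, fee]) (by simp [hh_add_left, fee]) (by decide)
      (by decide))
    (lk 4 hcC hC (by simp [hh_add_left, hh_add_right, fee]) (by simp [hh_add_left, fee]) (by decide)
      (by decide))
    (lk 2 hcE hE (by simp [a4, hh_add_left, hh_add_right, hh_smul_right, fee])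
      (by simp [a4, hh_add_left, hh_smul_left, fee]) (by decide) (by decide)) ?_ ?_ ?_ ?_ ?_ ?_
  · rw [tr hcA hcB hA hB]; simp [hh_add_left, hh_add_right, fee]
  · rw [tr hcB hcC hB hC]; simp [hh_add_left, hh_add_right, fee]
  · rw [tr hcC hcE hC hE]
    simp [a4, hh_add_left, hh_add_right, hh_smul_right, fee]
    exact fun e => om_sq_ne.2.1 (by linear_combination e - two_zero)
  · rw [tr hcA hcC hA hC]; simp [hh_add_left, hh_add_right, fee]
  · rw [tr hcA hcE hA hE]; simp [a4, hh_add_left, hh_add_right, hh_smul_right, fee, add_self]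
  · rw [tr hcB hcE hB hE]; simp [a4, hh_add_left, hh_add_right, hh_smul_right, fee, add_self]

/-- If both cores of a solvable link group are central, the links generate abelian groups. -/
theorem commute_of_central_cores {x : G} (hs : Group.IsSolvable ↥(Subgroup.closure (link D x)))
    (h2 : Cfsg.pCore 2 ↥(Subgroup.closure (link D x)) ≤
      Subgroup.center ↥(Subgroup.closure (link D x)))
    (ho : Cfsg.oddCore ↥(Subgroup.closure (link D x)) ≤
      Subgroup.center ↥(Subgroup.closure (link D x))) :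
    ∀ a ∈ link D x, ∀ b ∈ link D x, Commute a b := by
  set K := Subgroup.closure (link D x)
  have hF : Cfsg.fittingSubgroup K ≤ Subgroup.center K := by
    rw [CfsgLib.Solvable.fittingSubgroup_eq_iSup_pCore]
    refine iSup_le fun q => ?_
    have hq : Fact (Nat.Prime (q : ℕ)) := ⟨Nat.prime_of_mem_primeFactors q.2⟩
    by_cases h : (q : ℕ) = 2
    · rw [h]; exact h2
    · refine le_trans (CfsgLib.Solvable.le_pPrimeCore (CfsgLib.Solvable.pCore_normal _ _) ?_) ho
      obtain ⟨n, hn⟩ := CfsgLib.Solvable.card_pCore (p := (q : ℕ)) (G := ↥K)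
      rw [hn]
      exact Nat.Coprime.pow_left n ((Nat.coprime_primes hq.out Nat.prime_two).2 h)
  have := hs
  have htop : (⊤ : Subgroup K) ≤ Subgroup.center K := by
    refine le_trans ?_ hF
    refine le_trans ?_ CfsgLib.Solvable.centralizer_fittingSubgroup_le
    intro g _
    exact Subgroup.mem_centralizer_iff.2 fun f hf => (Subgroup.mem_center_iff.1 (hF hf) g).symm
  intro a ha b hb
  exact congrArg Subtype.val (Subgroup.mem_center_iff.1
    (htop (Subgroup.mem_top ⟨b, Subgroup.subset_closure hb⟩)) ⟨a, Subgroup.subset_closure ha⟩)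

/-- A Fischer class cannot have all links cliques. -/
theorem false_of_clique (hsol : ∀ N : Subgroup G, N.Normal → Group.IsSolvable ↥N → N = ⊥)
    (hperf : ⁅commutator G, commutator G⁆ = commutator G)
    (hD : Cfsg.IsThreeTranspositionClass D) {x : G} (hx : x ∈ D)
    (hcl : ∀ a ∈ link D x, ∀ b ∈ link D x, Commute a b) : False := by
  have hprim := isPrimitive_of_fischer hsol hperf hD
  obtain ⟨hset, hconj, -⟩ := CfsgLib.ThreeTransp.class_to_group hD
  by_cases hedge : ∃ u ∈ D, ∃ v ∈ D, u ≠ v ∧ Commute u v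
  · have hall : ∀ p ∈ D, ∀ a ∈ link D p, ∀ b ∈ link D p, Commute a b := by
      intro p hp a ha b hb
      obtain ⟨g, hg⟩ := CfsgLib.ThreeTransp.class_conj hD hp hx
      have hl := link_conj hD g p
      rw [hg] at hl
      exact (commute_conj_iff' g a b).1 (hcl _ (hl ▸ ⟨a, ha, rfl⟩) _ (hl ▸ ⟨b, hb, rfl⟩))
    have hP : com D x = D := eq_of_commute_closed hD hprim hedge (com D x) (fun e he => he.1)
      (p := x) ⟨hx, Commute.refl x⟩ fun q hq e he hqe => by
        refine ⟨he, ?_⟩
        by_cases h1 : q = x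
        · exact h1 ▸ hqe
        by_cases h2 : e = q
        · exact h2 ▸ hq.2
        by_cases h3 : e = x
        · exact h3 ▸ Commute.refl _
        exact hall q hq.1 x ⟨hx, fun e' => h1 e'.symm, hq.2.symm⟩ e ⟨he, h2, hqe⟩
    have hle : Subgroup.closure D ≤ Subgroup.centralizer {x} := (Subgroup.closure_le _).2 fun e he =>
      Subgroup.mem_centralizer_singleton_iff.2 (hP.symm ▸ he : e ∈ com D x).2.eq.symm
    rw [hD.2.2] at hle
    have h1 : x ∈ Subgroup.center G := Subgroup.mem_center_iff.2 fun g =>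
      Subgroup.mem_centralizer_singleton_iff.1 (hle (Subgroup.mem_top g))
    rw [center_eq_bot hsol, Subgroup.mem_bot] at h1
    exact ne_one hD.1 hx h1
  · push Not at hedge
    obtain ⟨a, ha, b, hb, hab⟩ := exists_two_members hsol hD
    have hw : ∀ u ∈ D, ∀ v ∈ D, (u * v) ^ 3 = 1 := fun u hu v hv => by
      by_cases h : u = v
      · rw [h, mul_self hD.1 hv, one_pow]
      · exact cube_eq_one hD.1 hu hv (hedge u hu v hv h)
    have h1 := CfsgLib.ThreeTransp.mul_mem_pCore_three (fun d hd => hD.1.1 d hd)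
      (fun k d hd => CfsgLib.ThreeTransp.class_conj_mem hD k hd) hw ha hb
    rw [pCore_eq_bot hsol Nat.prime_three, Subgroup.mem_bot] at h1
    exact hab ((eq_inv_of_mul_eq_one_left h1).trans (inv_eq hD.1 hb))

end CfsgLib.FischerPolar
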