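import Cfsg.Agent.Lib.FischerPolar.Common
import Cfsg.Agent.Lib.FischerPolar.Transfer
import Cfsg.Agent.Lib.Linear.Symplectic
import Cfsg.Agent.Lib.Forms.Classify

set_option autoImplicit false
set_option linter.unusedSectionVars false

/-! The symplectic case: lines with three points. -/

namespace CfsgLib.FischerPolar

open CfsgLib.ThreeTrans

variable {G : Type*} [Group G] {D : Set G} [Finite G]

/-- A polar class whose singular lines have three points. -/
structure SpSetting (D : Set G) : Prop extends Setting D where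
  three : ∀ p ∈ D, ∀ q ∈ D, Commute p q → p ≠ q → (line D p q).ncard = 3

variable (hS : SpSetting D)

include hS

theorem eq_of_three {p q c : G} (hp : p ∈ D) (hq : q ∈ D) (hpq : Commute p q) (hne : p ≠ q)
    (hc : c ∈ line D p q) (hcp : c ≠ p) (hcq : c ≠ q) {d : G} (hd : d ∈ line D p q) :
    d = p ∨ d = q ∨ d = c := by
  have h : line D p q = {p, q, c} := by
    refine (Set.eq_of_subset_of_ncard_le ?_ ?_ (Set.toFinite _)).symm
    · rintro u (rfl | rfl | rfl)
      exacts [left_mem_line hp, right_mem_line hq, hc]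
    · exact le_of_eq ((hS.three p hp q hq hpq hne).trans
        (Set.ncard_eq_three.2 ⟨p, q, c, hne, hcp.symm, hcq.symm, rfl⟩).symm)
  rw [h] at hd
  exact hd

theorem far_sub {x y e a : G} (hx : x ∈ D) (hy : y ∈ D) (hxy : ¬ Commute x y) (he : e ∈ D)
    (hex : ¬ Commute e x) (hey : ¬ Commute e y) (hez : ¬ Commute e (cj x y)) (ha : a ∈ nbr D x y) :
    Commute e a := by
  by_contra hea
  have hD := hS.cls
  obtain ⟨haD, hxa, hya⟩ := mem_nbr.1 ha
  have hne : x ≠ a := (mem_link_of_nbr hS.toSetting hxy ha).2.1.symm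
  obtain ⟨b, hb, hbx, hba⟩ := exists_third hS.toSetting hx haD hxa hne
  obtain ⟨d, hd, hed⟩ := exists_on_line hS.toSetting hx haD hxa hne he
  have hdb : d = b := by
    rcases eq_of_three hS hx haD hxa hne hb hbx hba hd with h | h | h
    · exact absurd (h ▸ hed) hex
    · exact absurd (h ▸ hed) hea
    · exact h
  subst hdb
  have hyb : ¬ Commute y d := fun h => hba (unique_point hS.toSetting hx haD hxa hne hy hb
    (right_mem_line haD) h hya (left_mem_line hx) fun h' => hxy h'.symm)
  have hu : cj y d ∈ line D (cj x y) a := by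
    have h := line_cj_mem hS.toSetting hy hb
    rwa [cj_eq_self hD hy hya, ← cj_comm hD hx hy hxy] at h
  have hza : Commute (cj x y) a := (commute_cj hxa.symm hya.symm).symm
  have hzne : cj x y ≠ a := fun h =>
    not_commute_cj hD hx (Commute.refl x) hxy (h.symm ▸ hxa)
  have huz : cj y d ≠ cj x y := fun h => hbx (by
    rw [cj_comm hD hx hy hxy] at h; exact cj_injective hD hy h)
  have hua : cj y d ≠ a := fun h => hba (by
    rw [← cj_eq_self hD hy hya] at h; exact cj_injective hD hy h)
  have heu : ¬ Commute e (cj y d) := by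
    rw [cj_comm hD hy hb.1 hyb]
    exact not_commute_cj hD hb.1 hed hey
  obtain ⟨f, hf, hef⟩ := exists_on_line hS.toSetting (cj_mem hD hx hy) haD hza hzne he
  rcases eq_of_three hS (cj_mem hD hx hy) haD hza hzne hu huz hua hf with h | h | h
  · exact hez (h ▸ hef)
  · exact hea (h ▸ hef)
  · exact heu (h ▸ hef)

/-- A member commutes with one of three members of a noncommuting triple. -/
theorem no_far {x y e : G} (hx : x ∈ D) (hy : y ∈ D) (hxy : ¬ Commute x y) (he : e ∈ D) :
    Commute e x ∨ Commute e y ∨ Commute e (cj x y) := by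
  by_contra! h
  obtain ⟨hex, hey, hez⟩ := h
  have hS' := hS.toSetting
  have hD := hS.cls
  have key : ∀ {b : G}, b ∈ D → ¬ Commute b y → ¬ Commute e b → ¬ Commute e (cj b y) →
      nbr D b y = nbr D y e := fun {b} hb hby heb hez' =>
    Set.eq_of_subset_of_ncard_le
      (fun c hc => mem_nbr.2 ⟨(mem_nbr.1 hc).1, (mem_nbr.1 hc).2.2,
        far_sub hS hb hy hby he heb hey hez' hc⟩)
      (le_of_eq (ncard_nbr_noncomm hS' hb hy hby hy he fun h => hey h.symm)) (Set.toFinite _)
  have h0 := key hx (fun h => hxy h) hex hez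
  obtain ⟨a, ha, a', ha', haa⟩ := nbr_not_clique hS' hx hy hxy
  obtain ⟨haD, hxa, hya⟩ := mem_nbr.1 ha
  have hne : x ≠ a := (mem_link_of_nbr hS' hxy ha).2.1.symm
  obtain ⟨b, hb, hbx, hba⟩ := exists_third hS' hx haD hxa hne
  have hea := far_sub hS hx hy hxy he hex hey hez ha
  have heb : ¬ Commute e b := fun h => hex (commute_line hS' hx haD hxa hne hb
    (right_mem_line haD) hba he h hea (left_mem_line hx))
  have hyb : ¬ Commute y b := fun h => hba (unique_point hS' hx haD hxa hne hy hb
    (right_mem_line haD) h hya (left_mem_line hx) fun h' => hxy h'.symm)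
  have hu : cj y b ∈ line D (cj x y) a := by
    have h := line_cj_mem hS' hy hb
    rwa [cj_eq_self hD hy hya, ← cj_comm hD hx hy hxy] at h
  have hza : Commute (cj x y) a := (commute_cj hxa.symm hya.symm).symm
  have hzne : cj x y ≠ a := fun h =>
    not_commute_cj hD hx (Commute.refl x) hxy (h.symm ▸ hxa)
  have hua : cj y b ≠ a := fun h => hba (by
    rw [← cj_eq_self hD hy hya] at h; exact cj_injective hD hy h)
  have heu : ¬ Commute e (cj b y) := by
    rw [← cj_comm hD hy hb.1 hyb]
    exact fun h => hez (commute_line hS' (cj_mem hD hx hy) haD hza hzne hu (right_mem_line haD) hua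
      he h hea (left_mem_line (cj_mem hD hx hy)))
  have h1 : nbr D b y = nbr D x y :=
    (key hb.1 (fun h => hyb h.symm) heb heu).trans h0.symm
  have hba' : Commute a' b := ((mem_nbr.1 (h1.symm ▸ ha' : a' ∈ nbr D b y)).2.1).symm
  exact haa (commute_line hS' hx haD hxa hne (left_mem_line hx) hb hbx.symm (mem_nbr.1 ha').1
    (mem_nbr.1 ha').2.1.symm hba' (right_mem_line haD)).symm

open Classical in
omit hS in
/-- The row of the noncommuting graph at a member. -/
noncomputable def phi (D : Set G) (x : G) : ↥D → ZMod 2 := fun e => if Commute x e then 0 else 1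

omit hS in
theorem phi_eq_zero {x : G} {e : ↥D} : phi D x e = 0 ↔ Commute x (e : G) := by
  classical
  by_cases h : Commute x (e : G) <;> simp [phi, h]

omit hS in
theorem phi_eq_one {x : G} {e : ↥D} : phi D x e = 1 ↔ ¬ Commute x (e : G) := by
  classical
  by_cases h : Commute x (e : G) <;> simp [phi, h]

theorem phi_cj {x y : G} (hx : x ∈ D) (hy : y ∈ D) (hxy : ¬ Commute x y) :
    phi D (cj x y) = phi D x + phi D y := by
  classical
  funext e
  have hD := hS.cls
  show phi D (cj x y) e = phi D x e + phi D y e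
  by_cases hex : Commute (e : G) x
  · by_cases hey : Commute (e : G) y
    · rw [phi_eq_zero.2 (commute_cj hex hey).symm, phi_eq_zero.2 hex.symm, phi_eq_zero.2 hey.symm,
        add_zero]
    · rw [phi_eq_one.2 fun h => not_commute_cj hD hx hex hey h.symm, phi_eq_zero.2 hex.symm,
        phi_eq_one.2 fun h => hey h.symm, zero_add]
  · by_cases hey : Commute (e : G) y
    · rw [phi_eq_one.2 (by rw [cj_comm hD hx hy hxy]; exact fun h => not_commute_cj hD hy hey hex h.symm),
        phi_eq_one.2 fun h => hex h.symm, phi_eq_zero.2 hey.symm, add_zero]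
    · have h := ((no_far hS hx hy hxy e.2).resolve_left hex).resolve_left hey
      rw [phi_eq_zero.2 h.symm, phi_eq_one.2 fun h => hex h.symm, phi_eq_one.2 fun h => hey h.symm]
      decide

theorem phi_line {x a b : G} (hx : x ∈ D) (ha : a ∈ D) (hxa : Commute x a) (hne : x ≠ a)
    (hb : b ∈ line D x a) (hbx : b ≠ x) (hba : b ≠ a) : phi D b = phi D x + phi D a := by
  funext e
  show phi D b e = phi D x e + phi D a e
  rcases one_or_all hS.toSetting hx ha hxa hne e.2 with h | ⟨c, hc, h⟩
  · rw [phi_eq_zero.2 (h b hb).symm, phi_eq_zero.2 (h x (left_mem_line hx)).symm,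
      phi_eq_zero.2 (h a (right_mem_line ha)).symm, add_zero]
  · have z : ∀ {d : G}, d ∈ line D x a → d = c → phi D d e = 0 := fun hd hdc =>
      phi_eq_zero.2 ((h _ hd).2 hdc).symm
    have o : ∀ {d : G}, d ∈ line D x a → d ≠ c → phi D d e = 1 := fun hd hdc =>
      phi_eq_one.2 fun h' => hdc ((h _ hd).1 h'.symm)
    rcases eq_of_three hS hx ha hxa hne hb hbx hba hc with rfl | rfl | rfl
    · rw [z (left_mem_line hx) rfl, o hb hbx, o (right_mem_line ha) hne.symm, zero_add]
    · rw [z (right_mem_line ha) rfl, o hb hba, o (left_mem_line hx) hne, add_zero]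
    · rw [z hb rfl, o (left_mem_line hx) hbx.symm, o (right_mem_line ha) hba.symm]
      decide

theorem phi_ne_zero {x : G} (hx : x ∈ D) : phi D x ≠ 0 := fun h => by
  obtain ⟨e, he, hxe⟩ := hS.toSetting.nonadj hx
  exact hxe (phi_eq_zero.1 (congrFun h ⟨e, he⟩))

theorem phi_injective {x y : G} (hx : x ∈ D) (hy : y ∈ D) (h : phi D x = phi D y) : x = y :=
  hS.same x hx y hy fun e he => by rw [← phi_eq_zero (e := ⟨e, he⟩), ← h, phi_eq_zero]

/-- The space spanned by the rows. -/
noncomputable def space : Submodule (ZMod 2) (↥D → ZMod 2) where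
  carrier := insert 0 (phi D '' D)
  zero_mem' := Set.mem_insert _ _
  add_mem' := by
    rintro u v (rfl | ⟨x, hx, rfl⟩) (rfl | ⟨y, hy, rfl⟩)
    · rw [add_zero]; exact Set.mem_insert _ _
    · rw [zero_add]; exact Or.inr ⟨y, hy, rfl⟩
    · rw [add_zero]; exact Or.inr ⟨x, hx, rfl⟩
    · by_cases h : x = y
      · subst h; exact Or.inl (funext fun e => CharTwo.add_self_eq_zero _)
      by_cases hc : Commute x y
      · obtain ⟨b, hb, hbx, hby⟩ := exists_third hS.toSetting hx hy hc h
        exact Or.inr ⟨b, hb.1, phi_line hS hx hy hc h hb hbx hby⟩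
      · exact Or.inr ⟨cj x y, cj_mem hS.cls hx hy, phi_cj hS hx hy hc⟩
  smul_mem' := by
    intro c u hu
    rcases (show c = 0 ∨ c = 1 by revert c; decide) with rfl | rfl
    · rw [zero_smul]; exact Set.mem_insert _ _
    · rwa [one_smul]

/-- The member with a given row. -/
noncomputable def spRow : ↥D → ↥(space hS) := fun x => ⟨phi D x, Or.inr ⟨x, x.2, rfl⟩⟩

theorem spRow_bijective :
    Function.Injective (spRow hS) ∧ ∀ v : ↥(space hS), v ≠ 0 → ∃ x, spRow hS x = v := by
  refine ⟨fun x y h => Subtype.ext (phi_injective hS x.2 y.2 (congrArg Subtype.val h)), ?_⟩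
  rintro ⟨v, rfl | ⟨x, hx, rfl⟩⟩ hv
  · exact absurd rfl hv
  · exact ⟨⟨x, hx⟩, rfl⟩

theorem spRow_ne_zero (x : ↥D) : spRow hS x ≠ 0 := fun h =>
  phi_ne_zero hS x.2 (congrArg Subtype.val h)

theorem phi_symm (x y : ↥D) : phi D (x : G) y = phi D (y : G) x := by
  by_cases h : Commute (x : G) y
  · rw [phi_eq_zero.2 h, phi_eq_zero.2 h.symm]
  · rw [phi_eq_one.2 h, phi_eq_one.2 fun h' => h h'.symm]

open Classical in
/-- The alternating form. -/
noncomputable def val (u v : ↥(space hS)) : ZMod 2 :=
  if h : ∃ x, spRow hS x = v then (u : ↥D → ZMod 2) h.choose else 0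

theorem val_row (u : ↥(space hS)) (x : ↥D) : val hS u (spRow hS x) = (u : ↥D → ZMod 2) x := by
  have h : ∃ x', spRow hS x' = spRow hS x := ⟨x, rfl⟩
  rw [val, dif_pos h, (spRow_bijective hS).1 h.choose_spec]

theorem val_zero (u : ↥(space hS)) : val hS u 0 = 0 := by
  rw [val, dif_neg fun ⟨x, h⟩ => spRow_ne_zero hS x h]

theorem val_add_left (u u' v : ↥(space hS)) : val hS (u + u') v = val hS u v + val hS u' v := by
  by_cases h : v = 0
  · subst h; simp [val_zero hS]
  · obtain ⟨x, rfl⟩ := (spRow_bijective hS).2 v h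
    simp [val_row hS]

theorem val_symm (u v : ↥(space hS)) : val hS u v = val hS v u := by
  by_cases h : u = 0 <;> by_cases h' : v = 0
  · rw [h, h']
  · obtain ⟨x, rfl⟩ := (spRow_bijective hS).2 v h'
    subst h; simp [val_zero hS, val_row hS]
  · obtain ⟨x, rfl⟩ := (spRow_bijective hS).2 u h
    subst h'; simp [val_zero hS, val_row hS]
  · obtain ⟨x, rfl⟩ := (spRow_bijective hS).2 u h
    obtain ⟨y, rfl⟩ := (spRow_bijective hS).2 v h'
    rw [val_row hS, val_row hS]
    exact phi_symm hS x y

theorem val_self (u : ↥(space hS)) : val hS u u = 0 := by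
  by_cases h : u = 0
  · rw [h, val_zero hS]
  · obtain ⟨x, rfl⟩ := (spRow_bijective hS).2 u h
    rw [val_row hS]
    exact phi_eq_zero.2 (Commute.refl _)

theorem val_smul_left (c : ZMod 2) (u v : ↥(space hS)) : val hS (c • u) v = c * val hS u v := by
  rcases (show c = 0 ∨ c = 1 by revert c; decide) with rfl | rfl
  · have := val_add_left hS 0 0 v
    rw [add_zero] at this
    rw [zero_smul, zero_mul]
    exact left_eq_add.1 this
  · rw [one_smul, one_mul]

/-- The form as a bilinear form. -/
noncomputable def form : LinearMap.BilinForm (ZMod 2) ↥(space hS) :=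
  LinearMap.mk₂ (ZMod 2) (val hS) (val_add_left hS) (val_smul_left hS)
    (fun u v v' => by
      rw [val_symm hS u, val_add_left hS, val_symm hS v, val_symm hS v'])
    (fun c u v => by rw [val_symm hS u, val_smul_left hS, val_symm hS v]; rfl)

theorem nondeg {u : ↥(space hS)} (h : ∀ v, form hS u v = 0) : u = 0 :=
  Subtype.ext (funext fun x => (val_row hS u x).symm.trans (h _))

/-- Coordinates in which the form is standard. -/
theorem exists_spCoords : ∃ (m : ℕ) (τ : ↥(space hS) ≃ₗ[ZMod 2] (Fin m ⊕ Fin m → ZMod 2)),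
    ∀ u v, Cfsg.sympForm m (ZMod 2) (τ u) (τ v) = form hS u v := by
  have hA : (form hS).IsAlt := val_self hS
  obtain ⟨m, k, b, hmk, hspan, h12, h11, h22, hrad⟩ :=
    CfsgLib.Forms.exists_symplectic_family (form hS) hA _ ⊤ rfl
  rw [finrank_top] at hmk
  let β := basisOfTopLeSpanOfCardEqFinrank b hspan.ge (by simpa using hmk)
  have hk : k = 0 := by
    rcases Nat.eq_zero_or_pos k with h | h
    · exact h
    · have h0 := nondeg hS fun v => hrad ⟨0, h⟩ v trivial
      exact absurd ((coe_basisOfTopLeSpanOfCardEqFinrank b hspan.ge (by simpa using hmk)) ▸ h0)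
        (β.ne_zero _)
  subst hk
  let β' : Module.Basis (Fin m ⊕ Fin m) (ZMod 2) ↥(space hS) :=
    β.reindex (Equiv.sumEmpty (Fin m ⊕ Fin m) (Fin 0))
  have hβ : ∀ i, β' i = b (.inl i) := fun i => by
    simp [β', β, Equiv.sumEmpty]
  let F : LinearMap.BilinForm (ZMod 2) ↥(space hS) :=
    LinearMap.mk₂ (ZMod 2) (fun u v => Cfsg.sympForm m (ZMod 2) (β'.equivFun u) (β'.equivFun v))
      (fun u u' v => by simp only [map_add, CfsgLib.Linear.Symp.form_add_left])
      (fun c u v => by simp only [map_smul, CfsgLib.Linear.Symp.form_smul_left, smul_eq_mul])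
      (fun u v v' => by simp only [map_add, CfsgLib.Linear.Symp.form_add_right])
      (fun c u v => by simp only [map_smul, CfsgLib.Linear.Symp.form_smul_right, smul_eq_mul])
  refine ⟨m, β'.equivFun, fun u v => ?_⟩
  have hF : F = form hS := by
    refine LinearMap.ext_basis β' β' fun i j => ?_
    show Cfsg.sympForm m (ZMod 2) (β'.equivFun (β' i)) (β'.equivFun (β' j)) = form hS (β' i) (β' j)
    have e1 : ∀ i : Fin m ⊕ Fin m, β'.equivFun (β' i) = Pi.single i 1 := fun i => funext fun j => by
      rw [Module.Basis.equivFun_self]; simp [Pi.single_apply, eq_comm]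
    rw [e1, e1, hβ, hβ]
    have sw : ∀ u v, form hS u v = form hS v u := val_symm hS
    rcases j with j | j
    · rw [CfsgLib.Linear.Symp.form_single_inl, Pi.single_apply]
      rcases i with i | i
      · simp [h11]
      · rw [sw, h12]; simp
    · rw [CfsgLib.Linear.Symp.form_single_inr, Pi.single_apply]
      rcases i with i | i
      · rw [h12]
        by_cases h : i = j
        · simp [h]
        · simp [h, Ne.symm h]
      · simp [h22]
  exact congrArg (fun B : LinearMap.BilinForm (ZMod 2) ↥(space hS) => B u v) hF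

/-- A polar class with three-point lines is the class of transvections of a symplectic group. -/
theorem nonempty_equiv_symplectic : ∃ (m : ℕ), Nonempty (G ≃* Matrix.symplecticGroup (Fin m) (ZMod 2)) ∧
    ∃ v : ↥D → (Fin m ⊕ Fin m → ZMod 2), Function.Injective v ∧ (∀ x, v x ≠ 0) ∧
      (∀ w, w ≠ 0 → ∃ x, v x = w) ∧
      ∀ x y : ↥D, Commute (x : G) y ↔ Cfsg.sympForm m (ZMod 2) (v x) (v y) = 0 := by
  classical
  obtain ⟨m, τ, hτ⟩ := exists_spCoords hS
  let v : ↥D → (Fin m ⊕ Fin m → ZMod 2) := fun x => τ (spRow hS x)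
  have hform : ∀ x y : ↥D, Cfsg.sympForm m (ZMod 2) (v x) (v y) = phi D (x : G) y := fun x y => by
    rw [hτ]; exact val_row hS _ _
  have hv0 : ∀ x, v x ≠ 0 := fun x h => spRow_ne_zero hS x (τ.map_eq_zero_iff.1 h)
  have hvsurj : ∀ w, w ≠ 0 → ∃ x, v x = w := fun w hw => by
    obtain ⟨x, hx⟩ := (spRow_bijective hS).2 (τ.symm w) fun h => hw (τ.symm.map_eq_zero_iff.1 h)
    exact ⟨x, by simp [v, hx]⟩
  have hvinj : Function.Injective v := τ.injective.comp (spRow_bijective hS).1
  refine ⟨m, ?_, v, hvinj, hv0, hvsurj, fun x y => by rw [hform, phi_eq_zero]⟩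
  let H := Matrix.symplecticGroup (Fin m) (ZMod 2)
  let X := {w : Fin m ⊕ Fin m → ZMod 2 // w ≠ 0}
  have hne : ∀ (g : H) (w : Fin m ⊕ Fin m → ZMod 2), w ≠ 0 → g • w ≠ 0 := fun g w hw h =>
    hw (by rw [← inv_smul_smul g w, h]; exact Matrix.mulVec_zero _)
  let ρ : H →* Equiv.Perm X :=
    { toFun := fun g =>
        { toFun := fun w => ⟨g • w.1, hne g w.1 w.2⟩
          invFun := fun w => ⟨g⁻¹ • w.1, hne g⁻¹ w.1 w.2⟩
          left_inv := fun w => Subtype.ext (inv_smul_smul g w.1)
          right_inv := fun w => Subtype.ext (smul_inv_smul g w.1) }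
      map_one' := Equiv.ext fun w => Subtype.ext (one_smul H w.1)
      map_mul' := fun g g' => Equiv.ext fun w => Subtype.ext (mul_smul g g' w.1) }
  have hρ : Function.Injective ρ := fun g g' h => CfsgLib.Linear.Symp.group_ext fun w => by
    by_cases hw : w = 0
    · subst hw; simp
    · exact congrArg Subtype.val (Equiv.congr_fun h ⟨w, hw⟩)
  let σ : ↥D ≃ X := Equiv.ofBijective (fun x => ⟨v x, hv0 x⟩)
    ⟨fun x y h => hvinj (congrArg Subtype.val h),
      fun w => (hvsurj w.1 w.2).imp fun _ h => Subtype.ext h⟩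
  refine nonempty_equiv_of_action hS.cls hS.centre ρ hρ σ
    (fun x => CfsgLib.Linear.Symp.tv (v x) 1) ?_ fun x e => ?_
  · rw [eq_top_iff, ← CfsgLib.Linear.Symp.transvectionSubgroup_eq_top (m := m) (F := ZMod 2),
      CfsgLib.Linear.Symp.transvectionSubgroup, Subgroup.closure_le]
    rintro A ⟨w, c, hA⟩
    have hA' : A = CfsgLib.Linear.Symp.tv w c := Subtype.ext hA
    rcases (show ∀ c : ZMod 2, c = 0 ∨ c = 1 by decide) c with rfl | rfl
    · rw [hA', CfsgLib.Linear.Symp.tv_zero]; exact Subgroup.one_mem _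
    by_cases hw : w = 0
    · have : A = 1 := by
        rw [hA']
        refine CfsgLib.Linear.Symp.group_ext fun u => ?_
        rw [CfsgLib.Linear.Symp.tv_smul, one_smul, hw, smul_zero, add_zero]
      rw [this]; exact Subgroup.one_mem _
    · obtain ⟨x, rfl⟩ := hvsurj w hw
      rw [hA']
      exact Subgroup.subset_closure ⟨x, rfl⟩
  · refine Subtype.ext ?_
    show v ⟨cj (x : G) e, _⟩ = CfsgLib.Linear.Symp.tv (v x) 1 • v e
    rw [CfsgLib.Linear.Symp.tv_smul, one_mul, hform, ← phi_symm hS x e]
    by_cases h : Commute (x : G) (e : G)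
    · rw [phi_eq_zero.2 h, zero_smul, add_zero]
      exact congrArg v (Subtype.ext (cj_eq_self hS.cls x.2 h))
    · rw [phi_eq_one.2 h, one_smul, ← map_add]
      refine congrArg τ (Subtype.ext ?_)
      show phi D (cj (x : G) e) = phi D (e : G) + phi D (x : G)
      rw [phi_cj hS x.2 e.2 h, add_comm]

end CfsgLib.FischerPolar
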